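import Cfsg.Agent.Lib.BlockA.IndexFour.Shape

/-!
The residual shape: an automorphism of odd order of a subgroup containing the four central elements
and an element of order four is trivial.
-/

set_option autoImplicit false
set_option linter.unusedSectionVars false

namespace CfsgLib.BlockA.IndexFour

open Subgroup

universe u

/-- An automorphism of odd order translating `a` by a fixed `2`-element fixes `a`. -/
theorem eq_of_translate {Q : Type*} [Group Q] {α : MulAut Q} (hodd : Odd (orderOf α)) {a z : Q}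
    (ha : α a = a * z) (hz : α z = z) (hz2 : ∃ k : ℕ, z ^ 2 ^ k = 1) : α a = a := by
  have key : ∀ m : ℕ, (α ^ m) a = a * z ^ m := by
    intro m
    induction m with
    | zero => simp
    | succ m ih =>
      rw [pow_succ', MulAut.mul_apply, ih, map_mul, map_pow, hz, ha, mul_assoc, ← pow_succ']
  have h := key (orderOf α)
  rw [pow_orderOf_eq_one, MulAut.one_apply, left_eq_mul] at h
  obtain ⟨k, hk⟩ := hz2
  have hz1 : z = 1 := by
    have hd1 := orderOf_dvd_of_pow_eq_one h
    have hd2 := orderOf_dvd_of_pow_eq_one hk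
    exact orderOf_eq_one_iff.1 (Nat.eq_one_of_dvd_coprimes
      ((Nat.coprime_two_left.2 hodd).pow_left k) hd2 hd1)
  rw [ha, hz1, mul_one]

variable {G : Type u} [Group G]

theorem coe_ne_one {Q : Subgroup G} {α : MulAut Q} {q : Q} (h : (q : G) ≠ 1) : (α q : G) ≠ 1 :=
  fun e => h (congrArg Subtype.val ((map_eq_one_iff α α.injective).1 (Subtype.ext e)))

namespace Resid

variable {P : Subgroup G} {r b x : G} {n : ℕ} (hR : Resid P r b x n)
include hR

theorem sq_outside_of_eps_b (he : eps r x = b) {w : G} (hw : w ∈ P) (hw' : w ∉ mx r b) :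
    w * w = 1 ∨ w * w = b := by
  obtain ⟨m, hm, rfl⟩ := hR.exists_outside hw hw'
  obtain ⟨l, j, rfl⟩ := hR.mem_mx_iff.1 hm
  have hx : x * x = 1 := by
    rcases hR.kind with ⟨hx, -⟩ | ⟨hx, -⟩ | ⟨-, -, h⟩
    · exact hx
    · exact hx
    · rw [eps, h, mul_inv_cancel_left] at he
      exact absurd he hR.z_ne_b
  have hxi : x⁻¹ = x := inv_eq_of_mul_eq_one_left hx
  have e : x * (r ^ l * b ^ j) * (x * (r ^ l * b ^ j)) = b ^ l := by
    calc x * (r ^ l * b ^ j) * (x * (r ^ l * b ^ j))
        = x * (r ^ l * b ^ j) * x⁻¹ * (r ^ l * b ^ j) := by rw [hxi]; group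
      _ = (r ^ l)⁻¹ * b ^ l * b ^ j * (r ^ l * b ^ j) := by rw [hR.conj_elem, he]
      _ = (r ^ l)⁻¹ * (b ^ (l + j) * r ^ l) * b ^ j := by rw [pow_add]; group
      _ = (r ^ l)⁻¹ * (r ^ l * b ^ (l + j)) * b ^ j := by rw [(hR.comm_r.pow_pow (l + j) l).eq]
      _ = b ^ l * (b ^ j * b ^ j) := by rw [pow_add]; group
      _ = _ := by rw [← pow_add, ← two_mul, pow_mul, pow_two, hR.b_sq, one_pow, mul_one]
  rw [e]
  exact hR.b_pow l

/-- The four central elements: the product of two different ones is the third. -/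
theorem z_third {a c d : G} (ha : a ∈ mx r b) (hc : c ∈ mx r b) (hd : d ∈ mx r b)
    (ha2 : a * a = 1) (hc2 : c * c = 1) (hd2 : d * d = 1) (ha1 : a ≠ 1) (hc1 : c ≠ 1) (hd1 : d ≠ 1)
    (hac : a ≠ c) (had : a ≠ d) (hcd : c ≠ d) : c = a * d := by
  have e1 : r ^ (n / 2) * b = b * r ^ (n / 2) := (hR.comm_r.symm.pow_left _).eq
  have e2 : r ^ (n / 2) * (b * r ^ (n / 2)) = b := by
    rw [← mul_assoc, e1, mul_assoc, hR.z_sq, mul_one]
  have e3 : b * r ^ (n / 2) * r ^ (n / 2) = b := by rw [mul_assoc, hR.z_sq, mul_one]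
  have e4 : b * (b * r ^ (n / 2)) = r ^ (n / 2) := by rw [← mul_assoc, hR.b_sq, one_mul]
  have e5 : b * r ^ (n / 2) * b = r ^ (n / 2) := by rw [mul_assoc, e1, e4]
  rcases hR.eq_z_of_sq ha ha2 with rfl | rfl | rfl | rfl <;>
    rcases hR.eq_z_of_sq hc hc2 with rfl | rfl | rfl | rfl <;>
      rcases hR.eq_z_of_sq hd hd2 with rfl | rfl | rfl | rfl <;>
        simp_all

variable {Q : Subgroup G} (hQ : Q ≤ P) {α : MulAut Q} (hodd : Odd (orderOf α))
include hQ

include hodd in
/-- The central involution is fixed. -/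
theorem fix_z {y : Q} (hy : (y : G) ∈ mx r b) (hy2 : (y : G) * y ≠ 1) {q : Q}
    (hq : (q : G) = r ^ (n / 2)) : α q = q := by
  obtain ⟨k, hk⟩ := Subgroup.mem_zpowers_iff.1 (hR.z_mem_zpowers_sq hy hy2)
  have hq' : q = y ^ k * y ^ k := Subtype.ext (by
    push_cast
    rw [hq, ← hk, (Commute.refl (y : G)).mul_zpow])
  have hαq : (α q : G) = (α (y ^ k) : G) * α (y ^ k) := by rw [hq', map_mul]; rfl
  have hne : (α q : G) ≠ 1 := coe_ne_one (by rw [hq]; exact hR.z_ne_one)
  have hin : ∀ v : Q, (v : G) ∈ mx r b → (v : G) * v ≠ 1 → ((v : G) * v) * ((v : G) * v) = 1 →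
      (v : G) * v = r ^ (n / 2) := fun v hv h1 h2 => by
    obtain ⟨l, hl⟩ := hR.sq_mem hv
    rcases hR.eq_z_of_sq (mul_mem hv hv) h2 with e | e | e | e
    · exact absurd e h1
    · exact e
    · exact absurd (e ▸ hl ▸ npow_mem_zpowers r l) hR.b_not
    · refine absurd ?_ hR.b_not
      have h3 := mul_mem (e ▸ hl ▸ npow_mem_zpowers r l : b * r ^ (n / 2) ∈ zpowers r)
        (npow_mem_zpowers r (n / 2))
      rwa [mul_assoc, hR.z_sq, mul_one] at h3
  have hαq2 : (α q : G) * α q = 1 := by
    have h1 : q * q = 1 := Subtype.ext (by push_cast; rw [hq, hR.z_sq])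
    have h2 := congrArg α h1
    rw [map_mul, map_one] at h2
    exact congrArg Subtype.val h2
  by_cases hmem : (α (y ^ k) : G) ∈ mx r b
  · refine Subtype.ext ?_
    rw [hαq, hq]
    exact hin _ hmem (hαq ▸ hne) (hαq ▸ hαq2)
  set w : Q := α (y ^ k) with hwdef
  by_cases hc : ctr r x n = r ^ (n / 2)
  · -- a commutator
    have hwP : (w : G) ∈ P := hQ w.2
    set c : Q := w * y * w⁻¹ * y⁻¹ with hcdef
    have hc1 : (c : G) ∈ zpowers (kap r x) := by
      rw [hcdef]
      push_cast
      exact hR.commutator_mem hwP (hQ y.2)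
    have hcne : c ≠ 1 := fun e => hR.not_commute hy hy2 hwP hmem (by
      have h1 : (w : G) * y * (w : G)⁻¹ * (y : G)⁻¹ = 1 := congrArg Subtype.val e
      exact mul_inv_eq_iff_eq_mul.1 (mul_inv_eq_one.1 h1))
    obtain ⟨e, he⟩ := IsPGroup.iff_orderOf.1 (hR.isPGroup.to_le hQ) c
    rcases e with _ | e
    · exact absurd (orderOf_eq_one_iff.1 (he.trans (pow_zero 2))) hcne
    have ho : orderOf (c ^ 2 ^ e) = 2 := by
      rw [orderOf_pow_of_dvd (pow_ne_zero _ two_ne_zero) (he ▸ pow_dvd_pow 2 (Nat.le_succ e)), he,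
        pow_succ, Nat.mul_div_cancel_left _ (pow_pos two_pos e)]
    have hcz : ∀ v : Q, (v : G) ∈ zpowers (kap r x) → v * v = 1 → v ≠ 1 → v = q :=
      fun v hv h2 h1 => Subtype.ext (by
        rw [hq, ← hc]
        exact ((hR.eq_ctr hv (congrArg Subtype.val h2)).resolve_left fun e => h1 (Subtype.ext e)))
    have hd2 : c ^ 2 ^ e * c ^ 2 ^ e = 1 := by
      rw [← pow_two, ← orderOf_dvd_iff_pow_eq_one, ho]
    have hd1 : c ^ 2 ^ e ≠ 1 := fun h => by rw [h, orderOf_one] at ho; omega
    have hdq := hcz _ (by push_cast; exact pow_mem hc1 _) hd2 hd1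
    refine hcz _ ?_ ?_ fun h => hne (by rw [h]; rfl)
    · rw [← hdq, map_pow, hcdef, map_mul, map_mul, map_mul, map_inv, map_inv]
      push_cast
      exact pow_mem (hR.commutator_mem (hQ (α w).2) (hQ (α y).2)) _
    · exact Subtype.ext hαq2
  · -- only two squares
    obtain ⟨-, he, -⟩ := hR.ctr_cases.resolve_left hc
    have hb : (α q : G) = b := by
      rw [hαq]
      exact (hR.sq_outside_of_eps_b he (hQ w.2) hmem).resolve_left (hαq ▸ hne)
    have h2 : α (α q) = q ∨ (α (α q) : G) = b := by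
      have e1 : α (α q) = α w * α w := by rw [hq', map_mul, map_mul]
      have n2 : (α (α q) : G) ≠ 1 := coe_ne_one hne
      have s2 : (α (α q) : G) * α (α q) = 1 := by
        have h1 : α q * α q = 1 := Subtype.ext hαq2
        have h2 := congrArg α h1
        rw [map_mul, map_one] at h2
        exact congrArg Subtype.val h2
      have e2 : (α (α q) : G) = (α w : G) * α w := by rw [e1]; rfl
      by_cases hm : (α w : G) ∈ mx r b
      · refine Or.inl (Subtype.ext ?_)
        rw [e2, hq]
        exact hin _ hm (e2 ▸ n2) (e2 ▸ s2)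
      · refine Or.inr ?_
        rw [e2]
        exact (hR.sq_outside_of_eps_b he (hQ (α w).2) hm).resolve_left (e2 ▸ n2)
    rcases h2 with h2 | h2
    · exact fix_of_sq_fix hodd h2
    · exact α.injective (Subtype.ext (h2.trans hb.symm))

include hodd in
/-- With an element of order four inside, the automorphism is trivial once it fixes the
involution. -/
theorem eq_one_of_inside {y₀ : Q} (hy₀ : (y₀ : G) ∈ mx r b) (hy₀2 : (y₀ : G) * y₀ ≠ 1) :
    α = 1 := by
  have hkeep : ∀ β : MulAut Q, Odd (orderOf β) → ∀ v : Q, (v : G) ∈ mx r b →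
      (β v : G) ∈ mx r b := by
    intro β hβ
    have big : ∀ v : Q, (v : G) ∈ mx r b → (v : G) * v ≠ 1 → (β v : G) ∈ mx r b := by
      intro v hv hv2
      by_contra hn
      obtain ⟨k, hk⟩ := Subgroup.mem_zpowers_iff.1 (hR.z_mem_zpowers_sq hv hv2)
      have hzQ : r ^ (n / 2) ∈ Q := hk ▸ zpow_mem (mul_mem v.2 v.2) k
      have h1 : (⟨_, hzQ⟩ : Q) = (v * v) ^ k := Subtype.ext (by push_cast; exact hk.symm)
      have h2 : r ^ (n / 2) = ((β v : G) * β v) ^ k := by
        have h3 := congrArg Subtype.val (congrArg β h1)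
        rw [hR.fix_z hQ hβ hv hv2 (q := ⟨_, hzQ⟩) rfl, map_zpow, map_mul] at h3
        push_cast at h3
        exact h3
      have hs := hR.pow_four_outside (hQ (β v).2) hn
      rcases Int.even_or_odd' k with ⟨d, rfl | rfl⟩
      · rw [zpow_mul, zpow_two, hs, one_zpow] at h2
        exact hR.z_ne_one h2
      · rw [zpow_add, zpow_mul, zpow_two, hs, one_zpow, one_mul, zpow_one] at h2
        exact hR.sq_outside_ne (hQ (β v).2) hn h2.symm
    intro v hv
    by_cases hv2 : (v : G) * v = 1
    · have h1 : ((v * y₀ : Q) : G) * ((v * y₀ : Q) : G) ≠ 1 := by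
        push_cast
        calc (v : G) * y₀ * ((v : G) * y₀) = (v : G) * v * ((y₀ : G) * y₀) := by
              rw [mul_assoc, ← mul_assoc (y₀ : G), (hR.comm_mx hy₀ hv).eq]; group
          _ ≠ 1 := by rw [hv2, one_mul]; exact hy₀2
      have h2 := big _ (by push_cast; exact mul_mem hv hy₀) h1
      rw [map_mul] at h2
      push_cast at h2
      exact (mul_mem_cancel_right (big y₀ hy₀ hy₀2)).1 h2
    · exact big v hv hv2
  have hodd' : Odd (orderOf α⁻¹) := by rwa [orderOf_inv]
  -- the involutions inside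
  have hinv : ∀ v : Q, (v : G) ∈ mx r b → (v : G) * v = 1 → α v = v := by
    intro v hv hv2
    by_cases hv1 : (v : G) = 1
    · rw [show v = 1 from Subtype.ext hv1, map_one]
    by_cases hvz : (v : G) = r ^ (n / 2)
    · exact hR.fix_z hQ hodd hy₀ hy₀2 hvz
    by_contra hne
    have hzQ : r ^ (n / 2) ∈ Q :=
      (Subgroup.zpowers_le.2 y₀.2) (hR.z_mem_zpowers hy₀ hy₀2)
    set q : Q := ⟨_, hzQ⟩ with hqdef
    have hαv := hkeep α hodd v hv
    have hαv2 : (α v : G) * α v = 1 := by
      have h1 : v * v = 1 := Subtype.ext hv2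
      have h2 := congrArg α h1
      rw [map_mul, map_one] at h2
      exact congrArg Subtype.val h2
    have hfix : α q = q := hR.fix_z hQ hodd hy₀ hy₀2 rfl
    have hαvz : (α v : G) ≠ r ^ (n / 2) := fun e => hvz (by
      have : α v = α q := by rw [hfix]; exact Subtype.ext e
      exact congrArg Subtype.val (α.injective this))
    have h3 := hR.z_third hv hαv hR.z_mem_mx hv2 hαv2 hR.z_sq hv1 (coe_ne_one hv1)
      hR.z_ne_one (fun e => hne (Subtype.ext e.symm)) hvz hαvz
    have e : α v = v * q := Subtype.ext h3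
    exact hne (eq_of_translate hodd e hfix ⟨1, Subtype.ext (by
      push_cast; rw [pow_two, hqdef, hR.z_sq])⟩)
  -- all elements inside
  have hall : ∀ (e : ℕ) (v : Q), (v : G) ∈ mx r b → v ^ 2 ^ e = 1 → α v = v := by
    intro e
    induction e with
    | zero => intro v _ h; rw [pow_zero, pow_one] at h; rw [h, map_one]
    | succ e ih =>
      intro v hv h
      have hsq : α (v * v) = v * v := ih (v * v) (by push_cast; exact mul_mem hv hv)
        (by rw [← pow_two, ← pow_mul, ← pow_succ']; exact h)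
      have hw := hkeep α hodd v hv
      set z : Q := v⁻¹ * α v with hz
      have hzmem : (z : G) ∈ mx r b := by rw [hz]; push_cast; exact mul_mem (inv_mem hv) hw
      have hz2 : (z : G) * z = 1 := by
        have h1 : (α v : G) * α v = (v : G) * v := by
          have := congrArg Subtype.val hsq
          rw [map_mul] at this
          exact this
        rw [hz]
        push_cast
        calc (v : G)⁻¹ * (α v : G) * ((v : G)⁻¹ * (α v : G))
            = (v : G)⁻¹ * (((α v : G) * (v : G)⁻¹) * (α v : G)) := by group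
          _ = (v : G)⁻¹ * ((v : G)⁻¹ * (α v : G) * (α v : G)) := by
              rw [(hR.comm_mx hw (inv_mem hv)).eq]
          _ = 1 := by rw [mul_assoc (v : G)⁻¹ (α v : G), h1]; group
      exact eq_of_translate hodd (z := z) (by rw [hz, mul_inv_cancel_left]) (hinv z hzmem hz2)
        ⟨1, Subtype.ext (by push_cast; rw [pow_two, hz2])⟩
  have hAfix : ∀ v : Q, (v : G) ∈ mx r b → α v = v := fun v hv => by
    obtain ⟨e, he⟩ := hR.isPGroup.to_le hQ v
    exact hall e v hv he
  refine MulEquiv.ext fun w => ?_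
  rw [MulAut.one_apply]
  by_cases hw : (w : G) ∈ mx r b
  · exact hAfix w hw
  have hw' : (α w : G) ∉ mx r b := fun h => hw (by
    have := hkeep α⁻¹ hodd' (α w) h
    rwa [MulAut.inv_apply_self] at this)
  have hz : (((w⁻¹ * α w : Q)) : G) ∈ mx r b := by
    push_cast
    exact hR.outside_mul (hQ w.2) hw (hQ (α w).2) hw'
  exact eq_of_translate hodd (z := w⁻¹ * α w) (by rw [mul_inv_cancel_left]) (hAfix _ hz)
    (hR.isPGroup.to_le hQ _)

include hodd in
/-- **An automorphism of odd order is trivial unless the subgroup is elementary.** -/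
theorem eq_one_of_sq_ne (hz : r ^ (n / 2) ∈ Q) (hb : b ∈ Q) {q : Q} (hq : (q : G) * q ≠ 1) :
    α = 1 := by
  by_cases hin : ∃ y : Q, (y : G) ∈ mx r b ∧ (y : G) * y ≠ 1
  · obtain ⟨y, hy, hy2⟩ := hin
    exact hR.eq_one_of_inside hQ hodd hy hy2
  push Not at hin
  have hout : ∀ v : Q, (v : G) ∉ mx r b → (v : G) * v = (q : G) * q := by
    intro v hv
    have hq' : (q : G) ∉ mx r b := fun h => hq (hin q h)
    have hm := hR.outside_mul (hQ q.2) hq' (hQ v.2) hv
    have h2 := hin (q⁻¹ * v) (by push_cast; exact hm)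
    push_cast at h2
    have hcm : Commute ((q : G)⁻¹ * v) q := by
      rcases hR.eq_z_of_sq hm h2 with e | e | e | e <;> rw [e]
      · exact Commute.one_left _
      · exact hR.comm_z (hQ q.2)
      · exact hR.comm_b (hQ q.2)
      · exact (hR.comm_b (hQ q.2)).mul_left (hR.comm_z (hQ q.2))
    calc (v : G) * v = (q : G) * (((q : G)⁻¹ * v) * q) * ((q : G)⁻¹ * v) := by group
      _ = (q : G) * q * (((q : G)⁻¹ * v) * ((q : G)⁻¹ * v)) := by rw [hcm.eq]; group
      _ = _ := by rw [h2, mul_one]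
  have hmiff : ∀ v : Q, (v : G) ∈ mx r b ↔ (v : G) * v = 1 := fun v =>
    ⟨hin v, fun h => by_contra fun hn => hq ((hout v hn).symm.trans h)⟩
  have hkeep : ∀ v : Q, (α v : G) ∈ mx r b ↔ (v : G) ∈ mx r b := fun v => by
    rw [hmiff, hmiff]
    constructor <;> intro h
    · have h1 : α v * α v = 1 := Subtype.ext h
      rw [← map_mul, map_eq_one_iff α α.injective] at h1
      exact congrArg Subtype.val h1
    · have h1 : v * v = 1 := Subtype.ext h
      have h2 := congrArg α h1
      rw [map_mul, map_one] at h2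
      exact congrArg Subtype.val h2
  have hq' : (q : G) ∉ mx r b := fun h => hq (hin q h)
  set s : Q := q * q with hs
  have hsmem : (s : G) ∈ mx r b := by
    rw [hs]; push_cast; exact (hR.mul_mem_mx_iff (hQ q.2) (hQ q.2)).2 Iff.rfl
  have hfix : α s = s := Subtype.ext (by
    rw [hs, map_mul]
    push_cast
    exact hout _ fun h => hq' ((hkeep q).1 h))
  have hA : ∀ v : Q, (v : G) ∈ mx r b → α v = v := by
    intro v hv
    by_cases hv1 : (v : G) = 1
    · rw [show v = 1 from Subtype.ext hv1, map_one]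
    by_cases hvs : v = s
    · rw [hvs, hfix]
    by_contra hne
    have h3 := hR.z_third hv ((hkeep v).2 hv) hsmem (hin v hv) (hin _ ((hkeep v).2 hv))
      (hin s hsmem) hv1 (coe_ne_one hv1) hq
      (fun e => hne (Subtype.ext e.symm)) (fun e => hvs (Subtype.ext e))
      (fun e => hvs (α.injective (by rw [hfix]; exact Subtype.ext e)))
    exact hne (eq_of_translate hodd (z := s) (Subtype.ext h3) hfix
      ⟨1, Subtype.ext (by push_cast; rw [pow_two]; exact hin s hsmem)⟩)
  refine MulEquiv.ext fun w => ?_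
  rw [MulAut.one_apply]
  by_cases hw : (w : G) ∈ mx r b
  · exact hA w hw
  have hz : (((w⁻¹ * α w : Q)) : G) ∈ mx r b := by
    push_cast
    exact hR.outside_mul (hQ w.2) hw (hQ (α w).2) fun h => hw ((hkeep w).1 h)
  exact eq_of_translate hodd (z := w⁻¹ * α w) (by rw [mul_inv_cancel_left]) (hA _ hz)
    (hR.isPGroup.to_le hQ _)

end Resid

end CfsgLib.BlockA.IndexFour
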