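import Cfsg.Agent.Lib.BlockA.IndexFour.Control
import Cfsg.Agent.Lib.BlockA.AbelianSubsections
import Cfsg.Agent.Lib.BlockA.BlockFusion

/-!
Elements of a defect group with fused subsections are fused in the fusion system of the block.
-/

set_option autoImplicit false
set_option linter.unusedSectionVars false
set_option maxHeartbeats 1000000

namespace CfsgLib.BlockA.IndexFour

open Cfsg CfsgLib.Block CfsgLib.BlockA CfsgLib.BlockB CfsgLib.BlockB.SubSum CfsgLib.BlockB.HeightBound AbelianSub
  MonoidAlgebra CfsgLib.Fusion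

universe u

variable {G : Type u} [Group G] [Fintype G] {p : ℕ} {M : Ideal AlgInt} [M.IsPrime]
  {B : Set (IrrCharacter G)} {P : Subgroup G}
  {c : Set (IrrCharacter (Subgroup.centralizer (P : Set G)))}
variable (hM : IsPModular p M) (hmax : IsMaximalBrauerPair p M B P c)
include hM hmax

local notation "cen" Q => Subgroup.centralizer ((Q : Subgroup G) : Set G)

/-- An element fusing two subsections gives a map of the fusion system. -/
theorem isMap_of_beta {a y y' : G} (hy : y ∈ P) (hy' : y' ∈ P) (ha : a * y * a⁻¹ = y')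
    (hβ : conjFun a (beta hM hmax y) = beta hM hmax y') :
    IsMap (blockFusion hM hmax.1.1) (Subgroup.zpowers y) (fun w => a * w * a⁻¹) := by
  classical
  have he := hmax.1.1
  set Q := Subgroup.zpowers y with hQdef
  have hQle : Q ≤ P := Subgroup.zpowers_le.2 hy
  have hmap : Q.map (MulAut.conj a).toMonoidHom = Subgroup.zpowers y' := by
    rw [hQdef, MonoidHom.map_zpowers]
    show Subgroup.zpowers (a * y * a⁻¹) = _
    rw [ha]
  obtain ⟨f, hf, hfle⟩ := exists_below hM hmax hy
  obtain ⟨f', hf', hfle'⟩ := exists_below hM hmax hy'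
  have hfb := isBrauerPair_of_subpairLE he hfle
  have hfl : subgroupBlockCoeff (cen Q) f = beta hM hmax y :=
    beta_eq_of_below hM hmax hy rfl hfle
  have hfl' : subgroupBlockCoeff (cen (Subgroup.zpowers y')) f' = beta hM hmax y' :=
    beta_eq_of_below hM hmax hy' rfl hfle'
  have hidx : (⟨Q.map (MulAut.conj a).toMonoidHom, conjBlock Q a f⟩ : BrauerPairIdx G) =
      ⟨Subgroup.zpowers y', f'⟩ := by
    refine pairIdx_ext hM hmap (isBrauerPair_conj hM hfb a).2 hf' ?_
    ext g
    rw [coeff_sIdem_conjBlock hM]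
    have hcoef : ∀ (H : Subgroup G) (c : Set (IrrCharacter H)) (g : G),
        (sIdem M H c).coeff g = redC M (subgroupBlockCoeff H c g) := by
      intro H c g
      by_cases hg : g ∈ H
      · rw [show g = ((⟨g, hg⟩ : H) : G) from rfl, sIdem, coeff_inclSub_of_mem, coeff_blkIdem,
          subgroupBlockCoeff, dif_pos hg]
      · rw [sIdem, coeff_inclSub_of_not_mem _ _ hg, subgroupBlockCoeff, dif_neg hg, redC_zero]
    rw [hcoef, hcoef]
    conv_rhs => rw [hfl', ← hβ, ← hfl]
    rfl
  have hfus : IsFus p M P c Q a := by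
    refine ⟨hmap.le.trans (Subgroup.zpowers_le.2 hy'), f, hfle, ?_⟩
    unfold SubpairLE at hfle' ⊢
    rwa [hidx]
  exact (CfsgLib.BlockA.isMap_iff hM (isBlockFusionSystemOn_blockFusion hM hmax)).2
    ⟨hQle, a, fun _ _ => rfl, hfus⟩

end CfsgLib.BlockA.IndexFour

namespace CfsgLib.BlockA.IndexFour.Resid

open Cfsg CfsgLib.Block CfsgLib.BlockA CfsgLib.BlockB CfsgLib.BlockB.SubSum CfsgLib.BlockB.HeightBound AbelianSub
  CfsgLib.Fusion

universe u

variable {G : Type u} [Group G] [Fintype G] {M : Ideal AlgInt} [M.IsPrime]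
  {B : Set (IrrCharacter G)} {P : Subgroup G} {r b x : G} {n : ℕ}
  {c : Set (IrrCharacter (Subgroup.centralizer (P : Set G)))}
variable (hR : Resid P r b x n) (hM : IsPModular 2 M) (hmax : IsMaximalBrauerPair 2 M B P c)
include hR hM hmax

/-- Elements of order at least four with fused subsections are conjugate. -/
theorem conj_of_beta {a y y' : G} (hy : y ∈ P) (hy' : y' ∈ P) (hy2 : y * y ≠ 1)
    (ha : a * y * a⁻¹ = y') (hβ : conjFun a (beta hM hmax y) = beta hM hmax y') :
    ∃ s ∈ P, s * y * s⁻¹ = y' := by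
  have := Fact.mk hM.1
  obtain ⟨s, hs, h⟩ := hR.conj_of_map
    (isSaturated_block hM (isBlockFusionSystemOn_blockFusion hM hmax))
    (isMap_of_beta hM hmax hy hy' ha hβ) (Subgroup.mem_zpowers y) hy2
  exact ⟨s, hs, h.trans ha⟩

/-- Central elements with fused subsections are equal. -/
theorem central_of_beta {a y y' : G} (hy : y ∈ P) (hy' : y' ∈ P)
    (hc : ∀ v ∈ P, Commute v y) (hc' : ∀ v ∈ P, Commute v y')
    (ha : a * y * a⁻¹ = y') (hβ : conjFun a (beta hM hmax y) = beta hM hmax y') : y' = y := by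
  have := Fact.mk hM.1
  have h := hR.central_eq
    (isSaturated_block hM (isBlockFusionSystemOn_blockFusion hM hmax))
    (isMap_of_beta hM hmax hy hy' ha hβ) (Subgroup.mem_zpowers y) hc (fun v hv => by
      show Commute v (a * y * a⁻¹)
      rw [ha]
      exact hc' v hv)
  exact ha.symm.trans h

end CfsgLib.BlockA.IndexFour.Resid
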