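import Cfsg.Agent.Lib.BlockA.IndexFour.Nilpotent
import Cfsg.Agent.Lib.BlockA.IndexFour.Fused
import Cfsg.Agent.Lib.BlockA.DihedralExpansion
import Cfsg.Agent.Lib.Char.Linear

/-!
A block with marked residual defect group: the columns of the subsections at the abelian subgroup
of index two, outside the elementary part, and at the central involution.
-/

set_option autoImplicit false
set_option linter.unusedSectionVars false
set_option maxHeartbeats 1000000

namespace CfsgLib.BlockA.IndexFour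

open Cfsg CfsgLib.Block CfsgLib.BlockA CfsgLib.BlockB CfsgLib.BlockB.SubSum
  CfsgLib.BlockB.HeightBound AbelianSub SectionOrth NilpotentSection
open scoped ComplexConjugate

universe u

variable {G : Type u} [Group G]

/-- The elements at which the columns are defined. -/
def Key (r b : G) (n : ℕ) (y : G) : Prop := y ∈ mx r b ∧ (y * y ≠ 1 ∨ y = r ^ (n / 2))

open Classical in
/-- The order of the centralizer in the defect group. -/
noncomputable def wt (r : G) (n : ℕ) (y : G) : ℕ := if y = r ^ (n / 2) then 4 * n else 2 * n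

namespace Resid

variable {P : Subgroup G} {r b x : G} {n : ℕ} (hR : Resid P r b x n)
include hR

theorem key_z : Key r b n (r ^ (n / 2)) := ⟨hR.z_mem_mx, Or.inr rfl⟩

theorem key_mem {y : G} (hy : Key r b n y) : y ∈ P := hR.mx_le hy.1

theorem key_ne_one {y : G} (hy : Key r b n y) : y ≠ 1 := by
  rintro rfl
  rcases hy.2 with h | h
  · exact h (one_mul 1)
  · exact hR.z_ne_one h.symm

theorem key_order {y : G} (hy : y ∈ P) : ∃ k : ℕ, orderOf y = 2 ^ k := by
  have : Fact (Nat.Prime 2) := ⟨Nat.prime_two⟩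
  obtain ⟨k, hk⟩ := IsPGroup.iff_orderOf.1 hR.isPGroup ⟨y, hy⟩
  exact ⟨k, by rw [← hk, Subgroup.orderOf_mk]⟩

theorem key_z_mem {y : G} (hy : Key r b n y) : r ^ (n / 2) ∈ Subgroup.zpowers y := by
  rcases hy.2 with h | h
  · exact hR.z_mem_zpowers hy.1 h
  · exact h ▸ Subgroup.mem_zpowers _

theorem centralizer_le_cz {y : G} (hy : Key r b n y) :
    Subgroup.centralizer ({y} : Set G) ≤ cz r n := fun w hw => by
  obtain ⟨i, hi⟩ := Subgroup.mem_zpowers_iff.1 (hR.key_z_mem hy)
  have h1 : Commute w y := Subgroup.mem_centralizer_singleton_iff.1 hw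
  rw [Subgroup.mem_centralizer_singleton_iff, ← hi]
  exact (h1.zpow_right i).eq

theorem natCard_centralizer {y : G} (hy : Key r b n y) :
    Nat.card (Subgroup.centralizer ({(⟨y, hR.key_mem hy⟩ : P)} : Set P)) = wt r n y := by
  unfold wt
  split_ifs with hz
  · rw [← hR.card_eq, show Subgroup.centralizer ({(⟨y, hR.key_mem hy⟩ : P)} : Set P) = ⊤ from ?_,
      Subgroup.card_top]
    refine eq_top_iff.2 fun w _ => Subgroup.mem_centralizer_singleton_iff.2 (Subtype.ext ?_)
    push_cast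
    rw [hz]
    exact (hR.comm_z w.2).symm.eq
  · have hy2 : y * y ≠ 1 := hy.2.resolve_right hz
    rw [show Subgroup.centralizer ({(⟨y, hR.key_mem hy⟩ : P)} : Set P) =
      (mx r b).subgroupOf P from ?_, Nat.card_congr (Subgroup.subgroupOfEquivOfLe hR.mx_le).toEquiv,
      hR.card_mx]
    ext w
    rw [Subgroup.mem_centralizer_singleton_iff, Subgroup.mem_subgroupOf, Subtype.ext_iff]
    push_cast
    refine ⟨fun h => ?_, fun h => (hR.comm_mx h hy.1).eq⟩
    by_contra hw
    exact hR.not_commute hy.1 hy2 w.2 hw h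

theorem key_conj {y : G} (hy : Key r b n y) : Key r b n (x * y * x⁻¹) := by
  refine ⟨hR.conj_mem_mx hR.x_mem hy.1, ?_⟩
  rcases hy.2 with h | h
  · refine Or.inl fun e => h ?_
    have : x * (y * y) * x⁻¹ = 1 := by rw [← e]; group
    exact conj_eq_one_iff.1 this
  · exact Or.inr (by rw [h, (hR.comm_z hR.x_mem).symm.eq, mul_inv_cancel_right])

/-- An element in the key set fixed by the involution is central. -/
theorem key_conj_ne {y : G} (hy : Key r b n y) (hz : y ≠ r ^ (n / 2)) : x * y * x⁻¹ ≠ y := fun h =>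
  hR.not_commute hy.1 (hy.2.resolve_right hz) hR.x_mem hR.x_not_mx (mul_inv_eq_iff_eq_mul.1 h)

end Resid

variable [Fintype G] {M : Ideal AlgInt} [M.IsPrime] {B : Set (IrrCharacter G)} {P : Subgroup G}
  {c : Set (IrrCharacter (Subgroup.centralizer (P : Set G)))} {r b x : G} {n : ℕ}

/-- The nilpotent block at the central involution with its parametrisation. -/
structure Setup (M : Ideal AlgInt) [M.IsPrime] (P : Subgroup G)
    (c : Set (IrrCharacter (Subgroup.centralizer (P : Set G)))) (r : G) (n : ℕ)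
    [Fintype (cz r n)] where
  g : Set (IrrCharacter (cz r n))
  hc : CenEq (P.subgroupOf (cz r n)) P
  hmaxH : IsMaximalBrauerPair 2 M g (P.subgroupOf (cz r n)) (subBlock hc c)
  hnil : IsNilpotentBlock 2 M g
  ψ : IrrCharacter (cz r n)
  hψ : ψ ∈ g
  Φ : IrrCharacter (P.subgroupOf (cz r n)) ≃ g
  hΦ : ∀ θ : IrrCharacter (P.subgroupOf (cz r n)),
    (((Φ θ : g) : IrrCharacter (cz r n)) : cz r n → ℂ) =
      CfsgLib.BlockB.Star.star 2 M (P.subgroupOf (cz r n)) (subBlock hc c) (ψ : cz r n → ℂ)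
        (θ : P.subgroupOf (cz r n) → ℂ)

theorem exists_setup (hM : IsPModular 2 M) (hmax : IsMaximalBrauerPair 2 M B P c)
    (hPD : IsDefectGroup 2 M B P) (hR : Resid P r b x n)
    (hmark : Marked P r b n (blockFusion hM hmax.1.1)) [Fintype (cz r n)] :
    Nonempty (Setup M P c r n) := by
  obtain ⟨g, hc, -, hmaxH, hnil⟩ := hR.exists_nilpotent_central hM hmax hPD hmark
  obtain ⟨ψ, hψ, h0⟩ := exists_height_zero hM hmaxH.1.2.1
  obtain ⟨Φ, hΦ⟩ := CfsgLib.BlockB.Star.exists_star_equiv hM hmaxH hnil hψ h0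
  exact ⟨⟨g, hc, hmaxH, hnil, ψ, hψ, Φ, hΦ⟩⟩

variable [Fintype (cz r n)] [Fintype (IrrCharacter (P.subgroupOf (cz r n)))]

open Classical in
/-- The column of the subsection at an element. -/
noncomputable def col (S : Setup M P c r n) (χ : IrrCharacter G) (y : G) : ℂ :=
  if h : y ∈ cz r n ∧ y ∈ P then fval S.Φ χ ⟨⟨y, h.1⟩, h.2⟩ else 0

theorem col_eq (hR : Resid P r b x n) (S : Setup M P c r n) (χ : IrrCharacter G) {y : G}
    (hy : y ∈ P) : col S χ y = fval S.Φ χ ⟨⟨y, hR.le_cz hy⟩, hy⟩ := by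
  rw [col, dif_pos ⟨hR.le_cz hy, hy⟩]

/-- The common factor of the subsection at an element. -/
noncomputable def common (S : Setup M P c r n) {v : G}
    (β : Set (IrrCharacter (Subgroup.centralizer ({v} : Set G))))
    (y : Subgroup.centralizer ({v} : Set G)) : ℂ :=
  blockPart β (fun k : Subgroup.centralizer ({v} : Set G) =>
    psiExt (S.ψ : cz r n → ℂ) (v * (k : G))) y

variable (hR : Resid P r b x n) (S : Setup M P c r n)
variable (hM : IsPModular 2 M) (hmax : IsMaximalBrauerPair 2 M B P c)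
include hR hM hmax

/-- **The subsection at a key element.** -/
theorem key_data {y : G} (hy : Key r b n y) :
    ∃ β : Set (IrrCharacter (Subgroup.centralizer ({y} : Set G))),
      IsInducedBlock M (Subgroup.centralizer ({y} : Set G)) β B ∧
      subgroupBlockCoeff (Subgroup.centralizer ({y} : Set G)) β = beta hM hmax y ∧
      (∀ (χ : IrrCharacter G) (t : Subgroup.centralizer ({y} : Set G)),
        ¬ 2 ∣ orderOf t → bp β χ t = col S χ y * common S β t) ∧
      (∀ t t' : Subgroup.centralizer ({y} : Set G), ¬ 2 ∣ orderOf t → ¬ 2 ∣ orderOf t' →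
        ∑ φ ∈ β.toFinite.toFinset, conj ((φ : _ → ℂ) t') * (φ : _ → ℂ) t =
          ((wt r n y : ℕ) : ℂ) * (conj (common S β t') * common S β t)) ∧
      common S β 1 ≠ 0 := by
  classical
  have hle := hR.centralizer_le_cz hy
  have hyP := hR.key_mem hy
  obtain ⟨β, hb, hbβ⟩ := exists_block_below hM hmax hyP
    (K := Subgroup.centralizer ({y} : Set G)) rfl
  obtain ⟨h1, h2⟩ := section_data hM hmax hR.le_cz S.hc S.hmaxH S.hnil S.hψ S.hΦ
    (⟨⟨y, hR.le_cz hyP⟩, hyP⟩ : P.subgroupOf (cz r n)) hle hb hbβ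
  have hcard : Nat.card (Subgroup.centralizer
      ({(⟨⟨y, hR.le_cz hyP⟩, hyP⟩ : P.subgroupOf (cz r n))} : Set (P.subgroupOf (cz r n)))) =
      wt r n y := by
    have hR' := hR.subgroupOf hR.le_cz
    have hy' : Key (⟨r, hR.le_cz hR.r_mem⟩ : cz r n) ⟨b, hR.le_cz hR.b_mem⟩ n
        (⟨y, hR.le_cz hyP⟩ : cz r n) := ⟨(hR.mem_mx_subgroupOf hR.le_cz _).2 hy.1,
      hy.2.imp (fun h e => h (congrArg Subtype.val e)) fun h => Subtype.ext (by push_cast; exact h)⟩
    refine (hR'.natCard_centralizer hy').trans ?_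
    unfold wt
    simp only [Subtype.ext_iff, SubmonoidClass.coe_pow]
  have h2' : ∀ t t' : Subgroup.centralizer ({y} : Set G), ¬ 2 ∣ orderOf t → ¬ 2 ∣ orderOf t' →
      ∑ φ ∈ β.toFinite.toFinset, conj ((φ : _ → ℂ) t') * (φ : _ → ℂ) t =
        ((wt r n y : ℕ) : ℂ) * (conj (common S β t') * common S β t) :=
    fun t t' ht ht' => hcard ▸ h2 t t' ht ht'
  refine ⟨β, hb, hbβ, fun χ t ht => ?_, h2', fun h0 => ?_⟩
  · rw [col_eq hR S χ hyP]
    exact h1 χ t ht
  have h3 := h2' 1 1 (by rw [orderOf_one]; norm_num) (by rw [orderOf_one]; norm_num)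
  rw [h0, mul_zero, mul_zero] at h3
  obtain ⟨φ₀, hφ₀⟩ := isPBlock_nonempty hb.1
  have h4 : (((∑ φ ∈ β.toFinite.toFinset,
      charDegree (φ : Subgroup.centralizer ({y} : Set G) → ℂ) ^ 2 : ℕ)) : ℂ) = 0 := by
    rw [← h3]
    push_cast
    refine Finset.sum_congr rfl fun φ _ => ?_
    rw [← CfsgLib.BlockB.irr_degree_cast φ, Complex.conj_natCast, pow_two]
  rw [Nat.cast_eq_zero] at h4
  have h5 := Finset.single_le_sum
    (f := fun φ : IrrCharacter (Subgroup.centralizer ({y} : Set G)) =>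
      charDegree (φ : Subgroup.centralizer ({y} : Set G) → ℂ) ^ 2)
    (fun φ _ => Nat.zero_le _) (β.toFinite.mem_toFinset.2 hφ₀)
  rw [h4] at h5
  exact charDegree_ne_zero φ₀.2 (by simpa using h5)

omit hM hmax in
theorem col_conj (χ : IrrCharacter G) {y : G} (hy : y ∈ P) {s : G} (hs : s ∈ P) :
    col S χ (s * y * s⁻¹) = col S χ y := by
  rw [col_eq hR S χ (P.mul_mem (P.mul_mem hs hy) (P.inv_mem hs)), col_eq hR S χ hy]
  refine Finset.sum_congr rfl fun θ _ => ?_
  congr 1
  rw [show (⟨⟨s * y * s⁻¹, hR.le_cz (P.mul_mem (P.mul_mem hs hy) (P.inv_mem hs))⟩,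
      P.mul_mem (P.mul_mem hs hy) (P.inv_mem hs)⟩ : P.subgroupOf (cz r n)) =
    (⟨⟨s, hR.le_cz hs⟩, hs⟩ : P.subgroupOf (cz r n)) * ⟨⟨y, hR.le_cz hy⟩, hy⟩ *
      (⟨⟨s, hR.le_cz hs⟩, hs⟩ : P.subgroupOf (cz r n))⁻¹ from rfl,
    CfsgLib.Char.irr_isClassFunction θ.2]

/-- Key elements with fused subsections are conjugate under the involution. -/
theorem key_fus {a y y' : G} (hy : Key r b n y) (hy' : Key r b n y')
    (ha : a * y * a⁻¹ = y') (hβ : conjFun a (beta hM hmax y) = beta hM hmax y') :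
    y' = y ∨ y' = x * y * x⁻¹ := by
  have e : a * (y * y) * a⁻¹ = y' * y' := by rw [← ha]; group
  by_cases hz : y = r ^ (n / 2)
  · left
    by_cases hz' : y' = r ^ (n / 2)
    · rw [hz, hz']
    · exact absurd (by rw [← e, hz, hR.z_sq, mul_one, mul_inv_cancel]) (hy'.2.resolve_right hz')
  · obtain ⟨s, hs, h⟩ := hR.conj_of_beta hM hmax (hR.key_mem hy) (hR.key_mem hy')
      (hy.2.resolve_right hz) ha hβ
    by_cases hsm : s ∈ mx r b
    · left
      rw [← h, (hR.comm_mx hsm hy.1).eq, mul_inv_cancel_right]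
    · exact Or.inr (by rw [← h, hR.conj_outside hs hsm hy.1])

open Classical in
/-- **Orthogonality of the columns.** -/
theorem col_orth {y y' : G} (hy : Key r b n y) (hy' : Key r b n y') :
    ∑ χ ∈ B.toFinite.toFinset, col S χ y * conj (col S χ y') =
      if y' = y ∨ y' = x * y * x⁻¹ then ((wt r n y : ℕ) : ℂ) else 0 := by
  have h1 : ∀ (H : Subgroup G), ¬ 2 ∣ orderOf (1 : H) := fun H => by rw [orderOf_one]; norm_num
  have hyo := hR.key_order (hR.key_mem hy)
  obtain ⟨β, hb, hbβ, hbp, hnorm, hne⟩ := key_data hR S hM hmax hy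
  split_ifs with hpm
  · have he : ∀ χ, col S χ y' = col S χ y := fun χ => by
      rcases hpm with rfl | rfl
      · rfl
      · exact col_conj hR S χ (hR.key_mem hy) hR.x_mem
    simp only [he]
    have h2 := sum_bp_same hM hyo hb.2.1 hb hb.1 (h1 _) (h1 _)
    rw [if_pos rfl, hnorm 1 1 (h1 _) (h1 _)] at h2
    refine mul_right_cancel₀ (mul_ne_zero ((map_ne_zero (starRingEnd ℂ)).2 hne) hne) ?_
    rw [← h2, Finset.sum_mul]
    refine Finset.sum_congr rfl fun χ _ => ?_
    rw [hbp χ 1 (h1 _), map_mul]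
    ring
  · obtain ⟨β', hb', hbβ', hbp', -, hne'⟩ := key_data hR S hM hmax hy'
    have h2 := DihedralDefect.sum_bp_eq_zero_of_ne hM hmax hyo (hR.key_order (hR.key_mem hy')) hb
      hb' fun a ha e => by
        rw [hbβ, hbβ'] at e
        exact hpm (key_fus hR hM hmax hy hy' ha e)
    refine (mul_eq_zero.1 (Eq.trans ?_ h2)).resolve_right
      (mul_ne_zero ((map_ne_zero (starRingEnd ℂ)).2 hne') hne)
    rw [Finset.sum_mul]
    refine Finset.sum_congr rfl fun χ _ => ?_
    rw [hbp χ 1 (h1 _), hbp' χ 1 (h1 _), map_mul]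
    ring

/-- The columns are orthogonal to the regular columns. -/
theorem col_regular {y : G} (hy : Key r b n y) {ρ : G} (hρ : ¬ 2 ∣ orderOf ρ) :
    ∑ χ ∈ B.toFinite.toFinset, (χ : G → ℂ) ρ * col S χ y = 0 := by
  obtain ⟨β, hb, -, hbp, -, hne⟩ := key_data hR S hM hmax hy
  have h1 : ¬ 2 ∣ orderOf (1 : Subgroup.centralizer ({y} : Set G)) := by
    rw [orderOf_one]; norm_num
  have h2 := sum_bp_mul_regular hM (hR.key_order (hR.key_mem hy)) hb.2.1 (hR.key_ne_one hy) hb.1
    (ρ := ρ⁻¹) (by rwa [orderOf_inv]) h1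
  refine (mul_eq_zero.1 (Eq.trans ?_ h2)).resolve_right hne
  rw [Finset.sum_mul]
  refine Finset.sum_congr rfl fun χ _ => ?_
  rw [hbp χ 1 h1, irr_conj_eq χ.2, inv_inv]
  ring

omit hM hmax in
/-- The columns on the abelian subgroup are invariant combinations of linear characters. -/
theorem exists_coeff (χ : IrrCharacter G) [Fintype (IrrCharacter (mx r b))] :
    ∃ a : IrrCharacter (mx r b) → ℕ,
      (∀ v : mx r b, col S χ v =
        ∑ φ : IrrCharacter (mx r b), (a φ : ℂ) * (φ : mx r b → ℂ) v) ∧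
      ∀ φ φ' : IrrCharacter (mx r b), (∀ v : mx r b, (φ' : mx r b → ℂ) v =
        (φ : mx r b → ℂ) ⟨x * v * x⁻¹, hR.conj_mem_mx hR.x_mem v.2⟩) → a φ' = a φ := by
  classical
  have := Fintype.ofFinite (mx r b)
  obtain ⟨m, hm⟩ := NilpotentSection.exists_mult S.Φ χ
  let emb : mx r b →* P.subgroupOf (cz r n) :=
    { toFun := fun v => ⟨⟨v, hR.le_cz (hR.mx_le v.2)⟩, hR.mx_le v.2⟩
      map_one' := rfl
      map_mul' := fun _ _ => rfl }
  set F : mx r b → ℂ := fun v => col S χ v with hF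
  have hFc : IsCharacter (mx r b) F := by
    have e : F = ∑ θ : IrrCharacter (P.subgroupOf (cz r n)),
        m θ • ((θ : P.subgroupOf (cz r n) → ℂ) ∘ emb) := by
      funext v
      rw [hF, Finset.sum_apply]
      simp only [col_eq hR S χ (hR.mx_le v.2), fval, hm, Pi.smul_apply, Function.comp,
        nsmul_eq_mul]
      rfl
    rw [e]
    exact CfsgLib.Char.isCharacter_sum _ fun θ _ => CfsgLib.Char.isCharacter_nsmul
      (CfsgLib.Char.isCharacter_comp (CfsgLib.Char.irr_isCharacter θ.2) emb) _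
  choose a ha using fun φ : IrrCharacter (mx r b) =>
    CfsgLib.Char.classInner_isCharacter_nat hFc (CfsgLib.Char.irr_isCharacter φ.2)
  refine ⟨a, fun v => ?_, fun φ φ' h => ?_⟩
  · rw [CfsgLib.Char.classFunction_apply_eq_sum
      (CfsgLib.Char.isCharacter_isClassFunction hFc) v |> (fun h => (rfl : col S χ v = F v).trans h)]
    exact Finset.sum_congr rfl fun φ _ => by rw [ha]
  · refine Nat.cast_injective (R := ℂ) ?_
    rw [← ha, ← ha, CfsgLib.Char.classInner_def, CfsgLib.Char.classInner_def]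
    congr 1
    let σ : mx r b → mx r b := fun v => ⟨x * v * x⁻¹, hR.conj_mem_mx hR.x_mem v.2⟩
    have hσ : Function.Bijective σ := Finite.injective_iff_bijective.1 fun v w e =>
      Subtype.ext (mul_left_cancel (mul_right_cancel (congrArg Subtype.val e)))
    refine Fintype.sum_bijective σ hσ _ _ fun v => ?_
    show F v * conj ((φ' : mx r b → ℂ) v) = F (σ v) * conj ((φ : mx r b → ℂ) (σ v))
    rw [h v, hF]
    simp only [σ]
    rw [col_conj hR S χ (hR.mx_le v.2) hR.x_mem]

end CfsgLib.BlockA.IndexFour
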