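import Cfsg.Agent.Lib.BlockA.IndexFour.Fusion

/-!
Saturated fusion systems on the residual shape: what is and what is not fused.
-/

set_option autoImplicit false
set_option linter.unusedSectionVars false
set_option linter.unusedSimpArgs false

namespace CfsgLib.BlockA.IndexFour

open Cfsg Cfsg.FusionSystem Subgroup CfsgLib.Fusion

universe u

variable {G : Type u} [Group G]

namespace Resid

variable {P : Subgroup G} {r b x : G} {n : ℕ} (hR : Resid P r b x n)
include hR

variable {F : FusionSystem P} (hF : F.IsSaturated 2)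
include hF

/-- An essential subgroup is an elementary candidate. -/
theorem elem_of_essential {Q : Subgroup G} (hQ : F.IsEssential 2 Q) : IsElem P r b n Q := by
  have : Fact (Nat.Prime 2) := ⟨Nat.prime_two⟩
  have := hR.finite
  obtain ⟨hlt, hC, hA⟩ := shape_of_essential hR.isPGroup hF hQ
  have hle := hlt.le
  have hz : r ^ (n / 2) ∈ Q := hC ⟨hR.z_mem, Subgroup.mem_centralizer_iff.2 fun q hq =>
    ((hR.comm_z (hle hq)).symm).eq⟩
  have hb : b ∈ Q := hC ⟨hR.b_mem, Subgroup.mem_centralizer_iff.2 fun q hq =>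
    ((hR.comm_b (hle hq)).symm).eq⟩
  have hsq : ∀ q ∈ Q, q * q = 1 := fun q hq => by
    by_contra h
    exact hA (hR.isPGroup_mulAut hle hz hb hq h)
  refine ⟨hle, hz, hb, hsq, ?_⟩
  by_contra hno
  push Not at hno
  have hr : r ∈ Q := hC ⟨hR.r_mem, Subgroup.mem_centralizer_iff.2 fun q hq =>
    (hR.comm_mx (hno q hq) hR.r_mem_mx).eq⟩
  have h := hsq r hr
  rw [← pow_two, hR.pow_eq_one_iff] at h
  have := Nat.le_of_dvd two_pos h
  have := hR.four_le
  omega

theorem hasCandidates : HasCandidates F 2 (fun Q : {Q : Subgroup G // IsElem P r b n Q} => Q.1) :=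
  fun Q hQ => ⟨⟨Q, hR.elem_of_essential hF hQ⟩, 1, one_mem P, (conjSub_one Q).symm⟩

/-- A subset invariant under inner automorphisms and the elementary automizers is invariant. -/
theorem invariant (U : Set G) (hU : ∀ s ∈ P, ∀ y ∈ P, s * y * s⁻¹ ∈ U ↔ y ∈ U)
    (h : ∀ Q : Subgroup G, IsElem P r b n Q → ∀ α ∈ F.autGroup Q, ∀ q : Q,
      ((α q : Q) : G) ∈ U ↔ (q : G) ∈ U)
    {R : Subgroup G} {f : G → G} (hf : IsMap F R f) {y : G} (hy : y ∈ R) : f y ∈ U ↔ y ∈ U := by
  have : Fact (Nat.Prime 2) := ⟨Nat.prime_two⟩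
  have := hR.finite
  exact invariant_of_candidates hR.isPGroup hF U hU (hR.hasCandidates hF)
    (autGroup_top_invariant hR.isPGroup hF hR.isPGroup_mulAut_top U hU)
    (fun Q _ _ => h Q.1 Q.2) hf hy

/-- An element of order at least four is fused only to its conjugates. -/
theorem conj_of_map {R : Subgroup G} {f : G → G} (hf : IsMap F R f) {y : G} (hy : y ∈ R)
    (hy2 : y * y ≠ 1) : ∃ s ∈ P, s * y * s⁻¹ = f y := by
  have hyP := hf.le hy
  have key := (hR.invariant hF {w | ∃ s ∈ P, s * y * s⁻¹ = w} (fun s hs v hv => ?_)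
    (fun Q hQ α _ q => ?_) hf hy).2 ⟨1, one_mem P, by group⟩
  · exact key
  · constructor
    · rintro ⟨t, ht, e⟩
      refine ⟨s⁻¹ * t, mul_mem (inv_mem hs) ht, ?_⟩
      calc s⁻¹ * t * y * (s⁻¹ * t)⁻¹ = s⁻¹ * (t * y * t⁻¹) * s := by group
        _ = v := by rw [e]; group
    · rintro ⟨t, ht, e⟩
      exact ⟨s * t, mul_mem hs ht, by rw [← e]; group⟩
  · have hno : ∀ v : Q, (v : G) ∉ {w | ∃ s ∈ P, s * y * s⁻¹ = w} := by
      rintro v ⟨s, -, e⟩
      refine hy2 ?_
      have h1 := hQ.sq v v.2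
      rw [← e] at h1
      have h2 : s * (y * y) * s⁻¹ = 1 := by rw [← h1]; group
      exact conj_eq_one_iff.1 h2
    exact iff_of_false (hno _) (hno _)

/-- Central elements are not fused. -/
theorem central_eq {R : Subgroup G} {f : G → G} (hf : IsMap F R f) {y : G} (hy : y ∈ R)
    (hc : ∀ v ∈ P, Commute v y) (hc' : ∀ v ∈ P, Commute v (f y)) : f y = y := by
  have : Fact (Nat.Prime 2) := ⟨Nat.prime_two⟩
  have := hR.finite
  have hfy := hf.mem hy
  have hmap : IsMap F (zpowers y) f := hf.mono (Subgroup.zpowers_le.2 hy)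
  set Q := img (zpowers y) f with hQdef
  have hQle : Q ≤ P := hmap.img_le
  have hCtop : ∀ T : Subgroup G, T ≤ zpowers (f y) → centralizerIn P T = P := fun T hT =>
    inf_eq_left.2 fun v hv => Subgroup.mem_centralizer_iff.2 fun t ht => by
      obtain ⟨i, rfl⟩ := Subgroup.mem_zpowers_iff.1 (hT ht)
      exact ((hc' v hv).zpow_right i).symm.eq
  have hQz : Q ≤ zpowers (f y) := fun t ht => by
    obtain ⟨v, hv, rfl⟩ := hmap.mem_img.1 ht
    obtain ⟨i, rfl⟩ := Subgroup.mem_zpowers_iff.1 hv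
    have h1 : f (y ^ i) = f y ^ i :=
      (congrArg (fun t => t) (map_zpow hmap.toHom ⟨y, Subgroup.mem_zpowers y⟩ i))
    exact h1 ▸ Subgroup.zpow_mem_zpowers _ i
  have hfc : F.IsFullyCentralized Q := ⟨hQle, fun T _ => by
    rw [hCtop Q hQz]; exact Subgroup.card_le_of_le inf_le_left⟩
  obtain ⟨g, hg, hgx⟩ := receptive_extend_centralizer
    (receptive_of_fullyCentralized hR.isPGroup hF hfc) hmap rfl
  have hP : zpowers y ⊔ centralizerIn P (zpowers y) = P := by
    refine le_antisymm (sup_le (hmap.le) inf_le_left) fun v hv => Subgroup.mem_sup_right ⟨hv, ?_⟩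
    refine Subgroup.mem_centralizer_iff.2 fun t ht => ?_
    obtain ⟨i, rfl⟩ := Subgroup.mem_zpowers_iff.1 ht
    exact ((hc v hv).zpow_right i).symm.eq
  rw [hP] at hg
  have himg : img P g = P := eq_of_le_of_card_le hg.img_le (by rw [hg.card_img])
  have hmem := hg.toAut_mem himg
  rw [autGroup_eq_inn_of_isPGroup hR.isPGroup hF hR.isPGroup_mulAut_top] at hmem
  obtain ⟨a, ha⟩ := hmem
  have hyP : y ∈ P := hf.le hy
  have h1 := congrArg (fun t : MulAut P => ((t ⟨y, hyP⟩ : P) : G)) ha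
  rw [hg.toAut_apply himg] at h1
  rw [← hgx y (Subgroup.mem_zpowers y)]
  refine h1.symm.trans ?_
  show (a : G) * y * (a : G)⁻¹ = y
  rw [(hc a a.2).eq, mul_inv_cancel_right]

/-- A marked system fixing the involution is inner. -/
theorem eq_inner (hfix : ∀ Q : Subgroup G, Q ≤ P → ∀ α ∈ F.autGroup Q, ∀ q : Q,
      (q : G) = r ^ (n / 2) → α q = q) (hmark : Marked P r b n F) :
    F = innerFusionSystem P := by
  have : Fact (Nat.Prime 2) := ⟨Nat.prime_two⟩
  have := hR.finite
  refine eq_inner_of_pGroup hR.isPGroup hF fun Q hQ => ?_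
  rcases hQ with rfl | hQ
  · exact hR.isPGroup_mulAut_top.to_subgroup _
  have hE := hR.elem_of_essential hF hQ
  have := finite_of_le hE.le
  have := finite_mulAut (Q := Q)
  by_contra h
  obtain ⟨a, ha, ha1, hodd⟩ := exists_odd_of_not_isPGroup h
  exact ha1 (hmark Q hE a ha hodd fun q hq => hfix Q hE.le a ha q hq)

end Resid

end CfsgLib.BlockA.IndexFour
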