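import Cfsg.Agent.Lib.BlockA.IndexFour.Heights

/-!
A block with marked residual defect group: two integral rows of norm four bound the characters of
height zero, and the column at the involution bounds the number of characters.
-/

set_option autoImplicit false
set_option linter.unusedSectionVars false
set_option maxHeartbeats 1000000

namespace CfsgLib.BlockA.IndexFour

open Cfsg CfsgLib.Block CfsgLib.BlockA CfsgLib.BlockB CfsgLib.BlockB.SubSum
  CfsgLib.BlockB.HeightBound AbelianSub SectionOrth NilpotentSection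
open scoped ComplexConjugate

universe u

variable {G : Type u} [Group G] [Fintype G] {M : Ideal AlgInt} [M.IsPrime]
  {B : Set (IrrCharacter G)} {P : Subgroup G}
  {c : Set (IrrCharacter (Subgroup.centralizer (P : Set G)))} {r b x : G} {n : ℕ}
variable [Fintype (cz r n)] [Fintype (IrrCharacter (P.subgroupOf (cz r n)))]
variable (hR : Resid P r b x n) (S : Setup M P c r n)
variable (hM : IsPModular 2 M) (hmax : IsMaximalBrauerPair 2 M B P c)
include hR S hM hmax

/-- **The two rows.** -/
theorem exists_rows (hPD : IsDefectGroup 2 M B P) :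
    ∃ A : Bool → IrrCharacter G → ℤ,
      (∀ e, ∑ χ ∈ B.toFinite.toFinset, A e χ * A e χ = 4) ∧
      ∀ χ ∈ B, blockHeight 2 B (χ : G → ℂ) = 0 → Odd (A true χ + A false χ) := by
  classical
  have hfinP := hR.finite
  have : Finite (mx r b) := Finite.of_injective (Subgroup.inclusion hR.mx_le)
    (Subgroup.inclusion_injective hR.mx_le)
  have := Fintype.ofFinite (mx r b)
  have := Fintype.ofFinite (mx r b →* ℂˣ)
  obtain ⟨l, hlinj, hlfix, hlsq⟩ := hR.exists_fixed
  choose a ha hainv using exists_linear_coeff hR S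
  set E := B.toFinite.toFinset with hE
  let F : IrrCharacter G → mx r b → ℂ := fun χ v => col S χ v
  have hcoef : ∀ χ (lam : mx r b →* ℂˣ),
      classInner (F χ) (fun v : mx r b => (lam v : ℂ)) = a χ lam := by
    intro χ lam
    have e : F χ = fun v : mx r b => ∑ μ : mx r b →* ℂˣ, (a χ μ : ℂ) * (μ v : ℂ) :=
      funext fun v => ha χ v
    rw [e, CfsgLib.Char.classInner_def]
    simp only [Finset.sum_mul]
    rw [Finset.sum_comm, Finset.mul_sum]
    rw [Finset.sum_eq_single lam]
    · have h := CfsgLib.Char.irr_classInner_self (CfsgLib.Char.isIrrCharacter_linear lam)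
      rw [CfsgLib.Char.classInner_def] at h
      simp only [mul_assoc, ← Finset.mul_sum]
      rw [mul_left_comm, h, mul_one]
    · intro μ _ hne
      have h := CfsgLib.Char.irr_classInner (CfsgLib.Char.isIrrCharacter_linear μ)
        (CfsgLib.Char.isIrrCharacter_linear lam)
      rw [if_neg fun h => hne (MonoidHom.ext fun v => Units.ext (congrFun h v)),
        CfsgLib.Char.classInner_def] at h
      simp only [mul_assoc, ← Finset.mul_sum]
      rw [mul_left_comm, h, mul_zero]
    · exact fun h => absurd (Finset.mem_univ _) h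
  let ψ : Bool → mx r b → ℂ := fun e v => (l (true, e) v : ℂ) - (l (false, e) v : ℂ)
  let A : Bool → IrrCharacter G → ℤ := fun e χ => (a χ (l (true, e)) : ℤ) - a χ (l (false, e))
  have hA : ∀ e χ, (A e χ : ℂ) =
      (Nat.card (mx r b) : ℂ)⁻¹ * ∑ v : mx r b, F χ v * conj (ψ e v) := by
    intro e χ
    simp only [A]
    push_cast
    rw [← hcoef, ← hcoef, CfsgLib.Char.classInner_def, CfsgLib.Char.classInner_def, ← mul_sub,
      ← Finset.sum_sub_distrib]
    congr 1
    refine Finset.sum_congr rfl fun v _ => ?_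
    rw [map_sub, mul_sub]
  have hψflip : ∀ e v, ψ e (hR.flip v) = ψ e v := by
    intro e v
    have h : ∀ i, l i (hR.flip v) = l i v := fun i =>
      DFunLike.congr_fun ((hlfix (l i)).2 ⟨i, rfl⟩) v
    simp only [ψ, h]
  have hψ0 : ∀ e (v : mx r b), (v : G) * v = 1 → ψ e v = 0 := fun e v h => by
    simp only [ψ, hlsq e v h, sub_self]
  have hψnorm : ∀ e, ∑ v : mx r b, conj (ψ e v) * ψ e v = ((4 * n : ℕ) : ℂ) := by
    intro e
    have hne : (fun v : mx r b => (l (true, e) v : ℂ)) ≠ fun v => (l (false, e) v : ℂ) := fun h => by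
      have h1 := hlinj (MonoidHom.ext fun v => Units.ext (congrFun h v))
      simp at h1
    have h1 := CfsgLib.Char.irr_classInner_self (CfsgLib.Char.isIrrCharacter_linear (l (true, e)))
    have h2 := CfsgLib.Char.irr_classInner_self (CfsgLib.Char.isIrrCharacter_linear (l (false, e)))
    have h3 := CfsgLib.Char.irr_classInner (CfsgLib.Char.isIrrCharacter_linear (l (true, e)))
      (CfsgLib.Char.isIrrCharacter_linear (l (false, e)))
    have h4 := CfsgLib.Char.irr_classInner (CfsgLib.Char.isIrrCharacter_linear (l (false, e)))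
      (CfsgLib.Char.isIrrCharacter_linear (l (true, e)))
    rw [if_neg hne] at h3
    rw [if_neg (Ne.symm hne)] at h4
    simp only [CfsgLib.Char.classInner_def] at h1 h2 h3 h4
    have hc : (Nat.card (mx r b) : ℂ) ≠ 0 := Nat.cast_ne_zero.2 Nat.card_pos.ne'
    rw [inv_mul_eq_iff_eq_mul₀ hc, mul_one] at h1 h2
    rw [inv_mul_eq_iff_eq_mul₀ hc, mul_zero] at h3 h4
    rw [hR.card_mx] at h1 h2
    calc ∑ v : mx r b, conj (ψ e v) * ψ e v
        = ∑ v : mx r b, ((l (true, e) v : ℂ) * conj (l (true, e) v : ℂ) +
            (l (false, e) v : ℂ) * conj (l (false, e) v : ℂ) -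
            (l (true, e) v : ℂ) * conj (l (false, e) v : ℂ) -
            (l (false, e) v : ℂ) * conj (l (true, e) v : ℂ)) :=
          Finset.sum_congr rfl fun v _ => by simp only [ψ, map_sub]; ring
      _ = _ := by
          rw [Finset.sum_sub_distrib, Finset.sum_sub_distrib, Finset.sum_add_distrib, h1, h2, h3,
            h4]
          push_cast
          ring
  refine ⟨A, fun e => Int.cast_injective (α := ℂ) ?_, fun χ hχ h0 => ?_⟩
  · -- the norm
    have hinner : ∀ v w : mx r b, ψ e v ≠ 0 → ψ e w ≠ 0 →
        ∑ χ ∈ E, F χ v * conj (F χ w) =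
          if w = v ∨ w = hR.flip v then ((2 * n : ℕ) : ℂ) else 0 := by
      intro v w hv hw
      have kv : Key r b n v := ⟨v.2, Or.inl fun h => hv (hψ0 e v h)⟩
      have kw : Key r b n w := ⟨w.2, Or.inl fun h => hw (hψ0 e w h)⟩
      have hvz : (v : G) ≠ r ^ (n / 2) := fun h => hv (hψ0 e v (by rw [h, hR.z_sq]))
      have h := col_orth hR S hM hmax kv kw
      rw [wt, if_neg hvz] at h
      refine h.trans (if_congr ?_ rfl rfl)
      rw [Subtype.ext_iff, Subtype.ext_iff, hR.coe_flip]
    have hinner' : ∀ v : mx r b, ∑ w : mx r b, conj (ψ e v) * ψ e w *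
        (∑ χ ∈ E, F χ v * conj (F χ w)) = ((4 * n : ℕ) : ℂ) * (conj (ψ e v) * ψ e v) := by
      intro v
      by_cases hv : ψ e v = 0
      · rw [hv, mul_zero, mul_zero]
        exact Finset.sum_eq_zero fun w _ => by rw [map_zero, zero_mul, zero_mul]
      have hvv : hR.flip v ≠ v := fun h => by
        refine hR.key_conj_ne ⟨v.2, Or.inl fun h' => hv (hψ0 e v h')⟩
          (fun h' => hv (hψ0 e v (by rw [h', hR.z_sq]))) ?_
        rw [← hR.coe_flip, h]
      rw [← Finset.sum_subset (Finset.subset_univ {v, hR.flip v}) (fun w _ hw => ?_)]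
      · rw [Finset.sum_pair (Ne.symm hvv),
          hinner v v hv hv, if_pos (Or.inl rfl),
          hinner v (hR.flip v) hv (by rwa [hψflip]), if_pos (Or.inr rfl), hψflip]
        push_cast
        ring
      · simp only [Finset.mem_insert, Finset.mem_singleton] at hw
        by_cases hw0 : ψ e w = 0
        · rw [hw0, mul_zero, zero_mul]
        · rw [hinner v w hv hw0, if_neg hw, mul_zero]
    push_cast
    have hc : (Nat.card (mx r b) : ℂ) ≠ 0 := Nat.cast_ne_zero.2 Nat.card_pos.ne'
    refine mul_left_cancel₀ (mul_ne_zero hc hc) ?_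
    calc (Nat.card (mx r b) : ℂ) * Nat.card (mx r b) * ∑ χ ∈ E, (A e χ : ℂ) * (A e χ : ℂ)
        = ∑ χ ∈ E, (∑ v : mx r b, F χ v * conj (ψ e v)) *
            conj (∑ w : mx r b, F χ w * conj (ψ e w)) := by
          rw [Finset.mul_sum]
          refine Finset.sum_congr rfl fun χ _ => ?_
          have h1 : (Nat.card (mx r b) : ℂ) * A e χ = ∑ v : mx r b, F χ v * conj (ψ e v) := by
            rw [hA, mul_inv_cancel_left₀ hc]
          have h2 : conj (∑ w : mx r b, F χ w * conj (ψ e w)) =
              (Nat.card (mx r b) : ℂ) * A e χ := by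
            rw [← h1, map_mul, Complex.conj_natCast, map_intCast]
          rw [h2, ← h1]
          ring
      _ = ∑ v : mx r b, ∑ w : mx r b, conj (ψ e v) * ψ e w *
            (∑ χ ∈ E, F χ v * conj (F χ w)) := by
          simp only [map_sum, map_mul, Complex.conj_conj, Finset.sum_mul, Finset.mul_sum]
          conv_rhs => rw [Finset.sum_comm]
          rw [Finset.sum_comm]
          refine Finset.sum_congr rfl fun v _ => ?_
          rw [Finset.sum_comm]
          exact Finset.sum_congr rfl fun w _ => Finset.sum_congr rfl fun χ _ => by ring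
      _ = _ := by
          simp only [hinner']
          rw [← Finset.mul_sum, hψnorm, hR.card_mx]
          push_cast
          ring
  · -- the parity
    choose s hs hs' using lam_z hR
    set t : ℤ := ∑ lam : mx r b →* ℂˣ, (a χ lam : ℤ) * s lam with ht
    have hcol : col S χ (r ^ (n / 2)) = (t : ℂ) := by
      refine (ha χ ⟨r ^ (n / 2), hR.z_mem_mx⟩).trans ?_
      rw [ht]
      push_cast
      exact Finset.sum_congr rfl fun lam _ => by rw [hs]
    obtain ⟨-, -, hodd⟩ := col_height hR S hM hmax hPD hχ t hcol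
    rw [h0] at hodd
    have hmod : (t : ZMod 2) = ((A true χ + A false χ : ℤ) : ZMod 2) := by
      have h1 : (t : ZMod 2) = ∑ lam : mx r b →* ℂˣ, (a χ lam : ZMod 2) := by
        rw [ht]
        push_cast
        exact Finset.sum_congr rfl fun lam _ => by rw [hs', mul_one]
      have h2 : ∑ lam ∈ Finset.univ \ Finset.univ.image l, (a χ lam : ZMod 2) = 0 := by
        refine Finset.sum_involution (fun lam _ => lam.comp hR.flip.toMonoidHom) (fun lam _ => ?_)
          (fun lam hlam _ => ?_) (fun lam hlam => ?_) fun lam _ => ?_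
        · rw [hainv, CharTwo.add_self_eq_zero]
        · intro h
          obtain ⟨i, hi⟩ := (hlfix lam).1 h
          exact (Finset.mem_sdiff.1 hlam).2 (Finset.mem_image.2 ⟨i, Finset.mem_univ _, hi⟩)
        · refine Finset.mem_sdiff.2 ⟨Finset.mem_univ _, fun h => ?_⟩
          obtain ⟨i, -, hi⟩ := Finset.mem_image.1 h
          refine (Finset.mem_sdiff.1 hlam).2 (Finset.mem_image.2 ⟨i, Finset.mem_univ _, ?_⟩)
          refine MonoidHom.ext fun v => ?_
          have h1 := DFunLike.congr_fun ((hlfix (l i)).2 ⟨i, rfl⟩) v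
          rw [← h1, hi]
          simp [hR.flip_flip]
        · exact MonoidHom.ext fun v => by simp [hR.flip_flip]
      rw [h1, ← Finset.sum_sdiff (Finset.subset_univ (Finset.univ.image l)), h2, zero_add,
        Finset.sum_image fun i _ j _ h => hlinj h, Fintype.sum_prod_type, Fintype.sum_bool]
      simp only [Fintype.sum_bool, A]
      push_cast
      simp only [CharTwo.sub_eq_add]
      ring
    rw [← Int.not_even_iff_odd, ← ZMod.intCast_eq_zero_iff_even, ← hmod,
      ZMod.intCast_eq_zero_iff_even]
    exact fun he => hodd (by rw [zero_add, pow_one]; exact he.two_dvd)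

/-- **The number of characters.** -/
theorem card_le (hPD : IsDefectGroup 2 M B P) : Nat.card B ≤ n + 6 := by
  classical
  obtain ⟨A, hA, hodd⟩ := exists_rows hR S hM hmax hPD
  set E := B.toFinite.toFinset with hE
  choose a ha using col_z_int hR S
  have h1 : ∑ χ ∈ E, a χ * a χ = ((4 * n : ℕ) : ℤ) := by
    refine Int.cast_injective (α := ℂ) ?_
    have h := col_orth hR S hM hmax hR.key_z hR.key_z
    rw [if_pos (Or.inl rfl), wt, if_pos rfl] at h
    push_cast at h ⊢
    rw [← h]
    exact Finset.sum_congr rfl fun χ _ => by rw [ha, map_intCast]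
  have h0 : ∑ χ ∈ E, (if blockHeight 2 B (χ : G → ℂ) = 0 then (1 : ℤ) else 0) ≤ 8 := by
    calc _ ≤ ∑ χ ∈ E, (A true χ * A true χ + A false χ * A false χ) := by
          refine Finset.sum_le_sum fun χ hχ => ?_
          split_ifs with h
          · have h' := hodd χ (B.toFinite.mem_toFinset.1 hχ) h
            by_contra hlt
            have e1 : A true χ = 0 := mul_self_eq_zero.1 (le_antisymm
              (by nlinarith [mul_self_nonneg (A false χ)]) (mul_self_nonneg _))
            have e2 : A false χ = 0 := mul_self_eq_zero.1 (le_antisymm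
              (by nlinarith [mul_self_nonneg (A true χ)]) (mul_self_nonneg _))
            rw [e1, e2] at h'
            norm_num at h'
          · nlinarith [mul_self_nonneg (A true χ), mul_self_nonneg (A false χ)]
      _ = 8 := by rw [Finset.sum_add_distrib, hA, hA]; norm_num
  have h2 : ∀ χ ∈ E, (4 : ℤ) - 3 * (if blockHeight 2 B (χ : G → ℂ) = 0 then (1 : ℤ) else 0) ≤
      a χ * a χ := by
    intro χ hχ
    obtain ⟨hne, hdvd, -⟩ := col_height hR S hM hmax hPD (B.toFinite.mem_toFinset.1 hχ) (a χ) (ha χ)
    split_ifs with h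
    · nlinarith [mul_self_pos.2 hne]
    · have h' : (2 : ℤ) ∣ a χ := (dvd_pow_self 2 h).trans hdvd
      obtain ⟨q, hq⟩ := h'
      have hq0 : q ≠ 0 := fun e => hne (by rw [hq, e, mul_zero])
      rw [hq]
      nlinarith [mul_self_pos.2 hq0]
  have h3 := Finset.sum_le_sum h2
  rw [Finset.sum_sub_distrib, ← Finset.mul_sum, Finset.sum_const, nsmul_eq_mul, h1] at h3
  have hk : (E.card : ℤ) ≤ n + 6 := by push_cast at h3; linarith
  have hcard : Nat.card B = E.card := by
    rw [Nat.card_coe_set_eq, hE, Set.ncard_eq_toFinset_card B B.toFinite]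
  rw [hcard]
  exact_mod_cast hk

end CfsgLib.BlockA.IndexFour
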