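import Cfsg.Agent.Lib.Fusion.CandidateEngine

/-!
A group of automorphisms of an elementary group of order eight whose `2`-subgroups have order two,
one of them a transvection with centre `u`: the orbit of the centre.
-/

set_option autoImplicit false
set_option linter.unusedSectionVars false

set_option linter.unusedSimpArgs false

namespace CfsgLib.BlockA.IndexFour

open CfsgLib.Fusion

universe u

variable {E : Type u} [Group E]

/-- An automorphism of odd order fixing the square of its argument's translate is trivial there. -/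
theorem eq_of_odd_translate {α : MulAut E} (hodd : Odd (orderOf α)) {a z : E} (ha : α a = a * z)
    (hz : α z = z) (hz2 : z * z = 1) : α a = a := by
  have key : ∀ m : ℕ, (α ^ m) a = a * z ^ m := by
    intro m
    induction m with
    | zero => simp
    | succ m ih => rw [pow_succ', MulAut.mul_apply, ih, map_mul, map_pow, hz, ha, mul_assoc, ← pow_succ']
  have h := key (orderOf α)
  obtain ⟨k, hk⟩ := hodd
  rw [pow_orderOf_eq_one, MulAut.one_apply, hk, pow_succ, pow_mul, pow_two, hz2, one_pow, one_mul]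
    at h
  rw [ha, ← h]

theorem fix_of_sq_fix {α : MulAut E} (hodd : Odd (orderOf α)) {a : E} (h : α (α a) = a) :
    α a = a := by
  have key : ∀ k : ℕ, (α ^ (2 * k)) a = a := by
    intro k
    induction k with
    | zero => simp
    | succ k ih =>
      rw [show 2 * (k + 1) = 2 + 2 * k by ring, pow_add, MulAut.mul_apply, ih, pow_two,
        MulAut.mul_apply, h]
  obtain ⟨k, hk⟩ := hodd
  have h1 : (α ^ (2 * k + 1)) a = a := by rw [← hk, pow_orderOf_eq_one, MulAut.one_apply]
  rwa [pow_succ', MulAut.mul_apply, key] at h1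

/-- `τ` is a transvection with centre `u` in a group `X` whose `2`-subgroups have order two. -/
structure CubeData (X : Subgroup (MulAut E)) (τ : MulAut E) (u b : E) : Prop where
  sq_one : ∀ e : E, e * e = 1
  card_eq : Nat.card E = 8
  u_ne : u ≠ 1
  b_ne : b ≠ 1 ∧ b ≠ u
  tau_mem : τ ∈ X
  tau_u : τ u = u
  tau_b : τ b = b
  tau_out : ∀ y : E, y ≠ 1 → y ≠ u → y ≠ b → y ≠ b * u → τ y = y * u
  small : ∀ S : Subgroup (MulAut E), S ≤ X → IsPGroup 2 S → Nat.card S ≤ 2

namespace CubeData

variable {X : Subgroup (MulAut E)} {τ : MulAut E} {u b : E} (hD : CubeData X τ u b)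
include hD

theorem inv_eq (a : E) : a⁻¹ = a := inv_eq_of_mul_eq_one_left (hD.sq_one a)

theorem comm (a c : E) : a * c = c * a := by
  have h := hD.inv_eq (a * c)
  rw [mul_inv_rev, hD.inv_eq, hD.inv_eq] at h
  exact h.symm

theorem finite : Finite E := Nat.finite_of_card_ne_zero (by rw [hD.card_eq]; norm_num)

theorem exists_out : ∃ y : E, y ≠ 1 ∧ y ≠ u ∧ y ≠ b ∧ y ≠ b * u := by
  classical
  have := hD.finite
  have := Fintype.ofFinite E
  by_contra h
  push Not at h
  have h1 : (Finset.univ : Finset E) ⊆ {1, u, b, b * u} := fun y _ => by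
    simp only [Finset.mem_insert, Finset.mem_singleton]
    by_cases e1 : y = 1
    · exact Or.inl e1
    by_cases e2 : y = u
    · exact Or.inr (Or.inl e2)
    by_cases e3 : y = b
    · exact Or.inr (Or.inr (Or.inl e3))
    exact Or.inr (Or.inr (Or.inr (h y e1 e2 e3)))
  have h2 := (Finset.card_le_card h1).trans Finset.card_le_four
  rw [Finset.card_univ, ← Nat.card_eq_fintype_card, hD.card_eq] at h2
  omega

theorem tau_bu : τ (b * u) = b * u := by rw [map_mul, hD.tau_b, hD.tau_u]

theorem tau_cases (e : E) : τ e = e ∨ τ e = e * u := by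
  by_cases h1 : e = 1
  · exact Or.inl (by rw [h1, map_one])
  by_cases h2 : e = u
  · exact Or.inl (by rw [h2, hD.tau_u])
  by_cases h3 : e = b
  · exact Or.inl (by rw [h3, hD.tau_b])
  by_cases h4 : e = b * u
  · exact Or.inl (by rw [h4, hD.tau_bu])
  exact Or.inr (hD.tau_out e h1 h2 h3 h4)

theorem fixed_iff (e : E) : τ e = e ↔ e = 1 ∨ e = u ∨ e = b ∨ e = b * u := by
  constructor
  · intro h
    by_contra hn
    push Not at hn
    rw [hD.tau_out e hn.1 hn.2.1 hn.2.2.1 hn.2.2.2] at h
    exact hD.u_ne (mul_eq_left.1 h)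
  · rintro (rfl | rfl | rfl | rfl)
    exacts [map_one τ, hD.tau_u, hD.tau_b, hD.tau_bu]

theorem tau_ne : τ ≠ 1 := by
  obtain ⟨y, h1, h2, h3, h4⟩ := hD.exists_out
  intro e
  have := hD.tau_out y h1 h2 h3 h4
  rw [e, MulAut.one_apply] at this
  exact hD.u_ne (mul_eq_left.1 this.symm)

theorem tau_sq : τ * τ = 1 := by
  refine MulEquiv.ext fun e => ?_
  rw [MulAut.mul_apply, MulAut.one_apply]
  rcases hD.tau_cases e with h | h <;> rw [h]
  · exact h
  · rw [map_mul, hD.tau_u, h, mul_assoc, hD.sq_one, mul_one]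

/-- **No element of odd order fixes the centre.** -/
theorem eq_one_of_fix {α : MulAut E} (hα : α ∈ X) (hodd : Odd (orderOf α)) (hu : α u = u) :
    α = 1 := by
  set σ := α * τ * α⁻¹ with hσ
  have hσc : ∀ e, σ e = e ∨ σ e = e * u := by
    intro e
    rw [hσ, MulAut.mul_apply, MulAut.mul_apply]
    rcases hD.tau_cases (α⁻¹ e) with h | h <;> rw [h]
    · left; rw [MulAut.apply_inv_self]
    · right; rw [map_mul, MulAut.apply_inv_self, hu]
  have hσu : σ u = u := by
    have : α⁻¹ u = u := by conv_lhs => rw [← hu, MulAut.inv_apply_self]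
    rw [hσ, MulAut.mul_apply, MulAut.mul_apply, this, hD.tau_u, hu]
  have hσ2 : σ * σ = 1 := by
    rw [hσ, show α * τ * α⁻¹ * (α * τ * α⁻¹) = α * (τ * τ) * α⁻¹ by group, hD.tau_sq, mul_one,
      mul_inv_cancel]
  have hcomm : τ * σ = σ * τ := by
    refine MulEquiv.ext fun e => ?_
    show τ (σ e) = σ (τ e)
    rcases hσc e with h | h <;> rcases hD.tau_cases e with h' | h' <;> rw [h, h'] <;>
      simp only [map_mul, hD.tau_u, hσu, h, h']
  by_cases hne : σ = τ
  · -- `α` respects the fixed points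
    have hc : ∀ e, τ e = e → τ (α e) = α e := fun e he => by
      conv_lhs => rw [← hne, hσ, MulAut.mul_apply, MulAut.mul_apply, MulAut.inv_apply_self, he]
    have hb : α b = b := by
      rcases (hD.fixed_iff _).1 (hc b hD.tau_b) with h | h | h | h
      · exact absurd ((map_eq_one_iff α α.injective).1 h) hD.b_ne.1
      · exact absurd (α.injective (h.trans hu.symm)) hD.b_ne.2
      · exact h
      · refine fix_of_sq_fix hodd ?_
        rw [h, map_mul, h, hu, mul_assoc, hD.sq_one, mul_one]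
    have hfix : ∀ e, τ e = e → α e = e := fun e he => by
      rcases (hD.fixed_iff e).1 he with rfl | rfl | rfl | rfl
      exacts [map_one α, hu, hb, by rw [map_mul, hb, hu]]
    refine MulEquiv.ext fun e => ?_
    rw [MulAut.one_apply]
    by_cases he : τ e = e
    · exact hfix e he
    have h1 : τ (e * α e) = e * α e := by
      have h2 : τ (α e) = α (τ e) := by
        conv_lhs => rw [← hne, hσ, MulAut.mul_apply, MulAut.mul_apply, MulAut.inv_apply_self]
      rw [map_mul, h2, (hD.tau_cases e).resolve_left he, map_mul, hu, hD.comm (α e) u,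
        mul_assoc, ← mul_assoc u u, hD.sq_one, one_mul]
    refine eq_of_odd_translate hodd (z := e * α e) ?_ (hfix _ h1) (hD.sq_one _)
    rw [← mul_assoc, hD.sq_one, one_mul]
  · exfalso
    let S : Subgroup (MulAut E) :=
      { carrier := {g | g = 1 ∨ g = τ ∨ g = σ ∨ g = τ * σ}
        one_mem' := Or.inl rfl
        mul_mem' := by
          have e1 : ∀ g : MulAut E, τ * (τ * g) = g := fun g => by
            rw [← mul_assoc, hD.tau_sq, one_mul]
          have e2 : σ * (τ * σ) = τ := by rw [← mul_assoc, ← hcomm, mul_assoc, hσ2, mul_one]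
          have e3 : τ * σ * τ = σ := by rw [mul_assoc, ← hcomm, e1]
          have e4 : τ * σ * σ = τ := by rw [mul_assoc, hσ2, mul_one]
          rintro a c (rfl | rfl | rfl | rfl) (rfl | rfl | rfl | rfl) <;>
            simp only [Set.mem_setOf_eq, one_mul, mul_one, hσ2, hD.tau_sq, e1, e2, e3, e4, true_or,
              or_true]
          · exact Or.inr (Or.inr (Or.inr hcomm.symm))
          · exact Or.inl (by rw [mul_assoc, e2, hD.tau_sq])
        inv_mem' := by
          have i1 : τ⁻¹ = τ := inv_eq_of_mul_eq_one_left hD.tau_sq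
          have i2 : σ⁻¹ = σ := inv_eq_of_mul_eq_one_left hσ2
          rintro a (rfl | rfl | rfl | rfl) <;>
            simp only [Set.mem_setOf_eq, inv_one, i1, i2, mul_inv_rev, true_or, or_true]
          exact Or.inr (Or.inr (Or.inr hcomm.symm)) }
    have hSX : S ≤ X := by
      have hσX : σ ∈ X := X.mul_mem (X.mul_mem hα hD.tau_mem) (X.inv_mem hα)
      rintro a (rfl | rfl | rfl | rfl)
      exacts [X.one_mem, hD.tau_mem, hσX, X.mul_mem hD.tau_mem hσX]
    have hS2 : ∀ a : S, a ^ 2 = 1 := by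
      rintro ⟨a, ha⟩
      refine Subtype.ext ?_
      show a ^ 2 = 1
      rcases ha with rfl | rfl | rfl | rfl
      · exact one_pow 2
      · rw [pow_two, hD.tau_sq]
      · rw [pow_two, hσ2]
      · rw [(show Commute τ σ from hcomm).mul_pow, pow_two, pow_two, hD.tau_sq, hσ2, one_mul]
    have hcard := hD.small S hSX fun a => ⟨1, by rw [pow_one]; exact hS2 a⟩
    have := hD.finite
    have : Finite (MulAut E) := Finite.of_injective (fun f : MulAut E => (f : E → E))
      DFunLike.coe_injective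
    have hσne : σ ≠ 1 := fun h => hD.tau_ne (by
      rw [hσ, mul_inv_eq_one] at h
      exact mul_eq_left.1 h)
    have hinj : Function.Injective (![⟨1, Or.inl rfl⟩, ⟨τ, Or.inr (Or.inl rfl)⟩,
        ⟨σ, Or.inr (Or.inr (Or.inl rfl))⟩] : Fin 3 → S) := by
      intro i j h
      fin_cases i <;> fin_cases j <;> simp [Subtype.ext_iff, hD.tau_ne, hD.tau_ne.symm, hσne,
        hσne.symm, hne, Ne.symm hne] at h ⊢
    have := Nat.card_le_card_of_injective _ hinj
    rw [Nat.card_eq_fintype_card, Fintype.card_fin] at this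
    omega

/-- The stabiliser of the centre. -/
theorem stab {g : MulAut E} (hg : g ∈ X) (hu : g u = u) : g = 1 ∨ g = τ := by
  have := hD.finite
  have : Finite (MulAut E) := Finite.of_injective (fun f : MulAut E => (f : E → E))
    DFunLike.coe_injective
  let S : Subgroup (MulAut E) :=
    { carrier := {g | g ∈ X ∧ g u = u}
      one_mem' := ⟨X.one_mem, rfl⟩
      mul_mem' := fun {a c} ha hc => ⟨X.mul_mem ha.1 hc.1, by rw [MulAut.mul_apply, hc.2, ha.2]⟩
      inv_mem' := fun {a} ha => ⟨X.inv_mem ha.1, by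
        conv_lhs => rw [← ha.2, MulAut.inv_apply_self]⟩ }
  have hS : IsPGroup 2 S := by
    by_contra h
    obtain ⟨a, ha, ha1, hodd⟩ := exists_odd_of_not_isPGroup h
    exact ha1 (hD.eq_one_of_fix ha.1 hodd ha.2)
  have hcard := hD.small S (fun a ha => ha.1) hS
  by_contra hne
  push Not at hne
  have hinj : Function.Injective (![⟨1, S.one_mem⟩, ⟨τ, hD.tau_mem, hD.tau_u⟩, ⟨g, hg, hu⟩] :
      Fin 3 → S) := by
    intro i j h
    fin_cases i <;> fin_cases j <;> simp [Subtype.ext_iff, hD.tau_ne, hD.tau_ne.symm, hne.1,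
      hne.1.symm, hne.2, hne.2.symm] at h ⊢
  have := Nat.card_le_card_of_injective _ hinj
  rw [Nat.card_eq_fintype_card, Fintype.card_fin] at this
  omega

theorem fixed_orbit {g : MulAut E} (hg : g ∈ X) (h : τ (g u) = g u) : g u = u := by
  have h1 : g⁻¹ * τ * g ∈ X := X.mul_mem (X.mul_mem (X.inv_mem hg) hD.tau_mem) hg
  have h2 : (g⁻¹ * τ * g) u = u := by
    rw [MulAut.mul_apply, MulAut.mul_apply, h, MulAut.inv_apply_self]
  rcases hD.stab h1 h2 with e | e
  · refine absurd ?_ hD.tau_ne
    calc τ = g * (g⁻¹ * τ * g) * g⁻¹ := by group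
      _ = 1 := by rw [e]; group
  have hc : τ * g = g * τ := by
    calc τ * g = g * (g⁻¹ * τ * g) := by group
      _ = _ := by rw [e]
  obtain ⟨y, h1, h2, h3, h4⟩ := hD.exists_out
  have hy : g (τ y) = τ (g y) := by rw [← MulAut.mul_apply, ← hc, MulAut.mul_apply]
  rw [hD.tau_out y h1 h2 h3 h4, map_mul] at hy
  rcases hD.tau_cases (g y) with h5 | h5 <;> rw [h5] at hy
  · exact absurd ((map_eq_one_iff g g.injective).1 (mul_eq_left.1 hy)) hD.u_ne
  · exact mul_left_cancel hy

theorem orbit_avoid {g : MulAut E} (hg : g ∈ X) : g u ≠ b ∧ g u ≠ b * u := by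
  constructor <;> intro h
  · have := hD.fixed_orbit hg (by rw [h, hD.tau_b])
    rw [h] at this
    exact hD.b_ne.2 this
  · have := hD.fixed_orbit hg (by rw [h, hD.tau_bu])
    rw [h] at this
    exact hD.b_ne.1 (mul_eq_right.1 this)

/-- **An invariant four-group through the centre.** -/
theorem exists_invariant : ∃ y : E, y ≠ 1 ∧ y ≠ u ∧ y ≠ b ∧ y ≠ b * u ∧
    ∀ g ∈ X, ∀ e : E, (e = 1 ∨ e = u ∨ e = y ∨ e = y * u) →
      (g e = 1 ∨ g e = u ∨ g e = y ∨ g e = y * u) := by
  by_cases hall : ∀ g ∈ X, g u = u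
  · obtain ⟨y, h1, h2, h3, h4⟩ := hD.exists_out
    refine ⟨y, h1, h2, h3, h4, fun g hg e he => ?_⟩
    rcases hD.stab hg (hall g hg) with rfl | rfl
    · simpa using he
    · rcases he with he | he | he | he <;> rw [he]
      · simp
      · exact Or.inr (Or.inl hD.tau_u)
      · exact Or.inr (Or.inr (Or.inr (hD.tau_out y h1 h2 h3 h4)))
      · exact Or.inr (Or.inr (Or.inl (by
          rw [map_mul, hD.tau_out y h1 h2 h3 h4, hD.tau_u, mul_assoc, hD.sq_one, mul_one])))
  push Not at hall
  obtain ⟨g₀, hg₀, hne⟩ := hall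
  set y := g₀ u with hy
  have hy1 : y ≠ 1 := fun h => hD.u_ne ((map_eq_one_iff g₀ g₀.injective).1 h)
  have hyb : y ≠ b ∧ y ≠ b * u := hD.orbit_avoid hg₀
  have hτy : τ y = y * u := hD.tau_out y hy1 hne hyb.1 hyb.2
  by_cases hO : ∀ g ∈ X, g u = u ∨ g u = y ∨ g u = y * u
  · refine ⟨y, hy1, hne, hyb.1, hyb.2, fun g hg e he => ?_⟩
    rcases he with he | he | he | he <;> rw [he]
    · exact Or.inl (map_one g)
    · rcases hO g hg with h | h | h <;> simp [h]
    · rcases hO (g * g₀) (X.mul_mem hg hg₀) with h | h | h <;>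
        rw [MulAut.mul_apply, ← hy] at h <;> simp [h]
    · rcases hO (g * (τ * g₀)) (X.mul_mem hg (X.mul_mem hD.tau_mem hg₀)) with h | h | h <;>
        rw [MulAut.mul_apply, MulAut.mul_apply, ← hy, hτy] at h <;> simp [h]
  exfalso
  push Not at hO
  obtain ⟨g₁, hg₁, e1, e2, e3⟩ := hO
  set w := g₁ u with hw
  have hw1 : w ≠ 1 := fun h => hD.u_ne ((map_eq_one_iff g₁ g₁.injective).1 h)
  have hwb : w ≠ b ∧ w ≠ b * u := hD.orbit_avoid hg₁
  have hτw : τ w = w * u := hD.tau_out w hw1 e1 hwb.1 hwb.2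
  -- the orbit is everything outside `{1, b, b * u}`
  have horb : ∀ e : E, e ≠ 1 → e ≠ b → e ≠ b * u → ∃ g ∈ X, g u = e := by
    classical
    intro e he1 heb hebu
    have := hD.finite
    have := Fintype.ofFinite E
    have hcard : ({1, u, b, b * u, y, y * u, w, w * u} : Finset E) = Finset.univ := by
      refine Finset.eq_univ_of_card _ ?_
      rw [← Nat.card_eq_fintype_card, hD.card_eq]
      have uu := hD.sq_one u
      have n1 : b * u ≠ 1 := fun h => hD.b_ne.2 (by rw [← mul_one b, ← uu, ← mul_assoc, h, one_mul])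
      have c : ∀ {a c : E}, a ≠ c → a * u ≠ c * u := fun h h' => h (mul_right_cancel h')
      have s : ∀ {a c : E}, a * u = c → a = c * u := fun h => by
        rw [← h, mul_assoc, uu, mul_one]
      have y1 : y * u ≠ 1 := fun h => hne (by rw [s h, one_mul])
      have y2 : y * u ≠ b := fun h => hyb.2 (s h)
      have y3 : y * u ≠ u := fun h => hy1 (mul_eq_right.1 h)
      have y4 : y * u ≠ b * u := c hyb.1
      have y5 : y * u ≠ y := fun h => hD.u_ne (mul_eq_left.1 h)
      have w1 : w * u ≠ 1 := fun h => e1 (by rw [s h, one_mul])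
      have w2 : w * u ≠ b := fun h => hwb.2 (s h)
      have w3 : w * u ≠ u := fun h => hw1 (mul_eq_right.1 h)
      have w4 : w * u ≠ b * u := c hwb.1
      have w5 : w * u ≠ w := fun h => hD.u_ne (mul_eq_left.1 h)
      have w6 : w * u ≠ y := fun h => e3 (s h)
      have w7 : w * u ≠ y * u := c e2
      have n2 : b * u ≠ u := fun h => hD.b_ne.1 (mul_eq_right.1 h)
      have n3 : b * u ≠ b := fun h => hD.u_ne (mul_eq_left.1 h)
      simp [hD.u_ne, hD.u_ne.symm, hD.b_ne.1, hD.b_ne.1.symm, hD.b_ne.2, hD.b_ne.2.symm, n1, n1.symm,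
        n2, n2.symm, n3, n3.symm, hy1, hy1.symm, hne, Ne.symm hne, hyb.1, hyb.1.symm, hyb.2,
        hyb.2.symm, y1, y1.symm, y2, y2.symm, y3, y3.symm, y4, y4.symm, y5, y5.symm, hw1, hw1.symm,
        e1, Ne.symm e1, e2, Ne.symm e2, e3, Ne.symm e3, hwb.1, hwb.1.symm, hwb.2, hwb.2.symm, w1,
        w1.symm, w2, w2.symm, w3, w3.symm, w4, w4.symm, w5, w5.symm, w6, w6.symm, w7, w7.symm]
    have he := Finset.mem_univ e
    rw [← hcard] at he
    simp only [Finset.mem_insert, Finset.mem_singleton] at he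
    rcases he with h | h | h | h | h | h | h | h
    · exact absurd h he1
    · exact ⟨1, X.one_mem, by rw [h]; rfl⟩
    · exact absurd h heb
    · exact absurd h hebu
    · exact ⟨g₀, hg₀, by rw [h, hy]⟩
    · exact ⟨τ * g₀, X.mul_mem hD.tau_mem hg₀, by rw [MulAut.mul_apply, ← hy, hτy, h]⟩
    · exact ⟨g₁, hg₁, by rw [h, hw]⟩
    · exact ⟨τ * g₁, X.mul_mem hD.tau_mem hg₁, by rw [MulAut.mul_apply, ← hw, hτw, h]⟩
  have hinv : ∀ g ∈ X, ∀ e : E, e = b ∨ e = b * u → g e = b ∨ g e = b * u := by
    intro g hg e he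
    by_contra hn
    push Not at hn
    have he1 : e ≠ 1 := by
      rcases he with rfl | rfl
      · exact hD.b_ne.1
      · exact fun h => hD.b_ne.2 (by rw [← mul_one b, ← hD.sq_one u, ← mul_assoc, h, one_mul])
    obtain ⟨k, hk, hku⟩ := horb (g e) (fun h => he1 ((map_eq_one_iff g g.injective).1 h)) hn.1 hn.2
    have h1 := hD.orbit_avoid (X.mul_mem (X.inv_mem hg) hk)
    rw [MulAut.mul_apply, hku, MulAut.inv_apply_self] at h1
    rcases he with h | h
    exacts [h1.1 h, h1.2 h]
  have hfix : ∀ g ∈ X, g u = u := fun g hg => (by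
    have h1 := hinv g hg b (Or.inl rfl)
    have h2 := hinv g hg (b * u) (Or.inr rfl)
    have h3 : g b * g (b * u) = g u := by
      rw [← map_mul, ← mul_assoc, hD.sq_one, one_mul]
    have h4 : g b ≠ g (b * u) := fun h => hD.u_ne (mul_eq_left.1 (g.injective h).symm)
    rcases h1 with e | e <;> rcases h2 with e' | e' <;> rw [e, e'] at h3 h4
    · exact absurd rfl h4
    · rw [← h3, ← mul_assoc, hD.sq_one, one_mul]
    · rw [← h3, hD.comm (b * u) b, ← mul_assoc, hD.sq_one, one_mul]
    · exact absurd rfl h4)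
  exact hne (hfix g₀ hg₀)

/-- Odd automorphisms cannot fix different involutions beside the centre. -/
theorem eq_one_of_two_fix {α β : MulAut E} (hα : α ∈ X) (hαo : Odd (orderOf α)) (hαb : α b = b)
    (hβ : β ∈ X) (hβo : Odd (orderOf β)) (hβb : β (b * u) = b * u) : α = 1 ∨ β = 1 := by
  by_contra hn
  push Not at hn
  obtain ⟨y, hy1, hyu, hyb, hybu, hW⟩ := hD.exists_invariant
  have hnu : ∀ g : MulAut E, g ∈ X → g u = 1 → False := fun g _ h =>
    hD.u_ne ((map_eq_one_iff g g.injective).1 h)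
  have horb : ∀ g ∈ X, g u = u ∨ g u = y ∨ g u = y * u := fun g hg =>
    (hW g hg u (Or.inr (Or.inl rfl))).resolve_left fun h => hnu g hg h
  have hβu : β u ≠ u := fun h => hn.2 (hD.eq_one_of_fix hβ hβo h)
  have hβ2u : β (β u) ≠ u := fun h => hβu (fix_of_sq_fix hβo h)
  have hβ12 : β (β u) ≠ β u := fun h => hβu (β.injective h)
  obtain ⟨δ, hδ, hδu, hδb⟩ : ∃ δ ∈ X, δ u = α u ∧ δ (b * u) = b * u := by
    have hαu : α u ≠ u := fun h => hn.1 (hD.eq_one_of_fix hα hαo h)
    by_cases h : β u = α u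
    · exact ⟨β, hβ, h, hβb⟩
    refine ⟨β * β, X.mul_mem hβ hβ, ?_, by rw [MulAut.mul_apply, hβb, hβb]⟩
    have a1 := horb α hα
    have a2 := horb β hβ
    have a3 := horb (β * β) (X.mul_mem hβ hβ)
    rw [MulAut.mul_apply] at a3 ⊢
    rcases a1 with a1 | a1 | a1 <;> rcases a2 with a2 | a2 | a2 <;> rcases a3 with a3 | a3 | a3 <;>
      first
        | exact a3.trans a1.symm
        | exact absurd a1 hαu
        | exact absurd a2 hβu
        | exact absurd a3 hβ2u
        | exact absurd (a2.trans a1.symm) h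
        | exact absurd (a3.trans a2.symm) hβ12
  have h1 : (δ⁻¹ * α) u = u := by rw [MulAut.mul_apply, ← hδu, MulAut.inv_apply_self]
  have hb : δ b = b := by
    rcases hD.stab (X.mul_mem (X.inv_mem hδ) hα) h1 with e | e
    · rw [← inv_mul_eq_one.1 e] at hαb; exact hαb
    · have : α = δ * τ := by rw [← e, mul_inv_cancel_left]
      rw [this, MulAut.mul_apply, hD.tau_b] at hαb
      exact hαb
  have hu' : δ u = u := by
    rw [map_mul, hb] at hδb
    exact mul_left_cancel hδb
  exact hn.1 (hD.eq_one_of_fix hα hαo (hδu.symm.trans hu'))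

end CubeData

end CfsgLib.BlockA.IndexFour
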