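import Cfsg.Agent.Lib.BlockA.DihedralRot
import Cfsg.Agent.Lib.BlockA.QuatRot
import Cfsg.Agent.Lib.BlockA.SemiDihRot
import Cfsg.Agent.Lib.BlockA.HomocyclicShape

/-!
Defect groups with a cyclic subgroup of index four: the quotients by a central cyclic subgroup
that occur, and the residual shape.
-/

set_option autoImplicit false

namespace CfsgLib.BlockA.IndexFour

open Subgroup

universe u v

variable {G : Type u} [Group G]

/-- The residual shape: `⟨r⟩ × ⟨b⟩` of index two with `x` inverting `r` up to the central part. -/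
structure Resid (P : Subgroup G) (r b x : G) (n : ℕ) : Prop where
  two_pow : ∃ k : ℕ, n = 2 ^ k
  four_le : 4 ≤ n
  r_mem : r ∈ P
  b_mem : b ∈ P
  x_mem : x ∈ P
  orderOf_r : orderOf r = n
  b_sq : b * b = 1
  b_not : b ∉ zpowers r
  comm_r : Commute b r
  comm_x : Commute b x
  x_not : x ∉ zpowers r ∧ x * b ∉ zpowers r
  card_eq : Nat.card P = 4 * n
  kind : (x * x = 1 ∧ x * r * x⁻¹ = r⁻¹) ∨ (x * x = 1 ∧ x * r * x⁻¹ = r⁻¹ * b) ∨
    (8 ≤ n ∧ x * x = b ∧ x * r * x⁻¹ = r⁻¹ * r ^ (n / 2))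

/-- The shapes for which a `2`-block has rank at most three. -/
def Good (P : Subgroup G) : Prop :=
  Nat.card P ≤ 4 ∨ IsCyclic P ∨ (Nat.card P = 8 ∧ ∃ w ∈ P, 4 ≤ orderOf w) ∨
    (∃ r h, DihedralDefect.Rot P r h) ∨ (∃ r h, QuatDefect.QRot P r h) ∨
    (∃ r h, SemiDihDefect.SRot P r h) ∨
    ((∀ v ∈ P, ∀ w ∈ P, v * w = w * v) ∧ Homocyclic.IsHomo 2 P) ∨
    ∃ r b x n, Resid P r b x n

/-- A central element of `D` such that every image of `D` with kernel generated by it is good. -/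
def HasGoodQuotient (D : Subgroup G) : Prop :=
  ∃ z ∈ D, z ≠ 1 ∧ (∀ d ∈ D, d * z = z * d) ∧
    ∀ {H : Type u} [Group H] (f : D →* H),
      (∀ d : D, f d = 1 ↔ (d : G) ∈ zpowers z) → Good f.range

end CfsgLib.BlockA.IndexFour
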