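import Cfsg.Agent.Lib.BlockA.IndexFour.Aut

/-!
Saturated fusion systems on the residual shape: the only possible essential subgroups are the
elementary subgroups of order eight, and their automizers.
-/

set_option autoImplicit false
set_option linter.unusedSectionVars false
set_option linter.unusedSimpArgs false

namespace CfsgLib.BlockA.IndexFour

open Cfsg Cfsg.FusionSystem Subgroup CfsgLib.Fusion

universe u

variable {G : Type u} [Group G]

/-- An elementary subgroup of order eight over the central elements. -/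
structure IsElem (P : Subgroup G) (r b : G) (n : ℕ) (Q : Subgroup G) : Prop where
  le : Q ≤ P
  z_mem : r ^ (n / 2) ∈ Q
  b_mem : b ∈ Q
  sq : ∀ q ∈ Q, q * q = 1
  out : ∃ w ∈ Q, w ∉ mx r b

/-- No automorphism of odd order of an elementary candidate fixes the central involution. -/
def Marked (P : Subgroup G) (r b : G) (n : ℕ) (F : FusionSystem P) : Prop :=
  ∀ Q : Subgroup G, IsElem P r b n Q → ∀ α ∈ F.autGroup Q, Odd (orderOf α) →
    (∀ q : Q, (q : G) = r ^ (n / 2) → α q = q) → α = 1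

theorem finite_mulAut {Q : Type*} [Group Q] [Finite Q] : Finite (MulAut Q) :=
  Finite.of_injective (fun f : MulAut Q => (f : Q → Q)) DFunLike.coe_injective

namespace Resid

variable {P : Subgroup G} {r b x : G} {n : ℕ} (hR : Resid P r b x n)
include hR

theorem z_mem : r ^ (n / 2) ∈ P := hR.mx_le hR.z_mem_mx

/-- The automorphisms are a `2`-group unless the subgroup is elementary. -/
theorem isPGroup_mulAut {Q : Subgroup G} (hQ : Q ≤ P) (hz : r ^ (n / 2) ∈ Q) (hb : b ∈ Q)
    {q : G} (hqQ : q ∈ Q) (hq : q * q ≠ 1) : IsPGroup 2 (MulAut Q) := by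
  have := hR.finite
  have := finite_of_le hQ
  have := finite_mulAut (Q := Q)
  refine IsPGroup.of_equiv (H := MulAut Q) ?_ Subgroup.topEquiv
  by_contra h
  obtain ⟨a, -, ha1, hodd⟩ := exists_odd_of_not_isPGroup h
  exact ha1 (hR.eq_one_of_sq_ne hQ hodd hz hb (q := ⟨q, hqQ⟩) hq)

theorem isPGroup_mulAut_top : IsPGroup 2 (MulAut P) :=
  hR.isPGroup_mulAut le_rfl hR.z_mem hR.b_mem hR.r_mem fun h => by
    rw [← pow_two, hR.pow_eq_one_iff] at h
    have := Nat.le_of_dvd two_pos h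
    have := hR.four_le
    omega

theorem elem_iff {Q : Subgroup G} (hQ : IsElem P r b n Q) {w : G} (hw : w ∈ Q)
    (hw' : w ∉ mx r b) (q : G) :
    q ∈ Q ↔ (q ∈ mx r b ∧ q * q = 1) ∨ (w⁻¹ * q ∈ mx r b ∧ (w⁻¹ * q) * (w⁻¹ * q) = 1) := by
  have key : ∀ v, v ∈ mx r b → v * v = 1 → v ∈ Q := fun v hv h => by
    rcases hR.eq_z_of_sq hv h with e | e | e | e <;> rw [e]
    exacts [one_mem Q, hQ.z_mem, hQ.b_mem, mul_mem hQ.b_mem hQ.z_mem]
  constructor
  · intro hq
    by_cases hq' : q ∈ mx r b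
    · exact Or.inl ⟨hq', hQ.sq q hq⟩
    · exact Or.inr ⟨hR.outside_mul (hQ.le hw) hw' (hQ.le hq) hq', hQ.sq _ (mul_mem (inv_mem hw) hq)⟩
  · rintro (⟨h1, h2⟩ | ⟨h1, h2⟩)
    · exact key q h1 h2
    · have h3 := mul_mem hw (key _ h1 h2)
      rwa [mul_inv_cancel_left] at h3

theorem elem_card {Q : Subgroup G} (hQ : IsElem P r b n Q) : Nat.card Q = 8 := by
  classical
  obtain ⟨w, hw, hw'⟩ := hQ.out
  set z := r ^ (n / 2) with hz
  have hmem : ∀ q : G, q ∈ ({1, z, b, b * z, w, w * z, w * b, w * (b * z)} : Finset G) ↔ q ∈ Q := by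
    intro q
    simp only [Finset.mem_insert, Finset.mem_singleton]
    constructor
    · rintro (rfl | rfl | rfl | rfl | rfl | rfl | rfl | rfl)
      exacts [one_mem Q, hQ.z_mem, hQ.b_mem, mul_mem hQ.b_mem hQ.z_mem, hw, mul_mem hw hQ.z_mem,
        mul_mem hw hQ.b_mem, mul_mem hw (mul_mem hQ.b_mem hQ.z_mem)]
    · intro hq
      rcases (hR.elem_iff hQ hw hw' q).1 hq with ⟨h1, h2⟩ | ⟨h1, h2⟩
      · rcases hR.eq_z_of_sq h1 h2 with e | e | e | e <;> simp [e, hz]
      · have e0 : q = w * (w⁻¹ * q) := by rw [mul_inv_cancel_left]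
        rcases hR.eq_z_of_sq h1 h2 with e | e | e | e <;> rw [e] at e0 <;> simp [e0, hz]
  have n1 := hR.z_ne_one
  have n2 := hR.b_ne_one
  have n3 := hR.z_ne_b
  obtain ⟨n4, n5, n6⟩ := hR.bz_ne
  have hout : ∀ v, v ∈ mx r b → ∀ v', v' ∈ mx r b → w * v ≠ v' := fun v hv v' hv' h =>
    hw' (by
      have := mul_mem (h ▸ hv' : w * v ∈ mx r b) (inv_mem hv)
      rwa [mul_inv_cancel_right] at this)
  have o1 := hout _ (one_mem _)
  simp only [mul_one] at o1
  have o2 := hout _ hR.z_mem_mx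
  have o3 := hout _ hR.b_mem_mx
  have o4 := hout _ (mul_mem hR.b_mem_mx hR.z_mem_mx)
  have m1 := (one_mem (mx r b))
  have m2 := hR.z_mem_mx
  have m3 := hR.b_mem_mx
  have m4 := mul_mem hR.b_mem_mx hR.z_mem_mx
  rw [← hz] at n1 n3 n4 n5 n6 o2 o4 m2 m4
  have e : Nat.card Q = ({1, z, b, b * z, w, w * z, w * b, w * (b * z)} : Finset G).card := by
    rw [← Nat.card_eq_finsetCard]
    exact Nat.card_congr (Equiv.subtypeEquivRight fun q => (hmem q).symm)
  rw [e]
  simp [n1, n1.symm, n2, n2.symm, n3, n3.symm, n4, n4.symm, n5, n5.symm, n6, n6.symm, o1 _ m1,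
    (o1 _ m1).symm, o1 _ m2, (o1 _ m2).symm, o1 _ m3, (o1 _ m3).symm, o1 _ m4, (o1 _ m4).symm,
    o2 _ m1, (o2 _ m1).symm, o2 _ m2, (o2 _ m2).symm, o2 _ m3, (o2 _ m3).symm, o2 _ m4,
    (o2 _ m4).symm, o3 _ m1, (o3 _ m1).symm, o3 _ m2, (o3 _ m2).symm, o3 _ m3, (o3 _ m3).symm,
    o3 _ m4, (o3 _ m4).symm, o4 _ m1, (o4 _ m1).symm, o4 _ m2, (o4 _ m2).symm, o4 _ m3,
    (o4 _ m3).symm, o4 _ m4, (o4 _ m4).symm]

theorem ctr_mem_z : ctr r x n = r ^ (n / 2) ∨ ctr r x n = b * r ^ (n / 2) := by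
  rcases hR.ctr_cases with h | ⟨-, -, h⟩
  exacts [Or.inl h, Or.inr h]

theorem ctr_ne_one : ctr r x n ≠ 1 := by
  rcases hR.ctr_mem_z with h | h <;> rw [h]
  exacts [hR.z_ne_one, hR.bz_ne.1]

theorem ctr_mem_elem {Q : Subgroup G} (hQ : IsElem P r b n Q) : ctr r x n ∈ Q := by
  rcases hR.ctr_mem_z with h | h <;> rw [h]
  exacts [hQ.z_mem, mul_mem hQ.b_mem hQ.z_mem]

/-- The element inducing the transvection. -/
theorem conj_quarter {w : G} (hw : w ∈ P) (hw' : w ∉ mx r b) :
    r ^ (n / 4) * w * (r ^ (n / 4))⁻¹ = w * ctr r x n := by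
  have hv : r ^ (n / 4) ∈ mx r b := pow_mem hR.r_mem_mx _
  have h1 : w⁻¹ * r ^ (n / 4) * w = x * r ^ (n / 4) * x⁻¹ := by
    rw [← hR.conj_outside (P.inv_mem hw) (fun h => hw' (inv_mem_iff.1 h)) hv, inv_inv]
  calc r ^ (n / 4) * w * (r ^ (n / 4))⁻¹
      = w * ((w⁻¹ * r ^ (n / 4) * w) * (r ^ (n / 4))⁻¹) := by group
    _ = _ := by
      rw [h1, ctr, kap]
      congr 1
      have hc : Commute (x * r * x⁻¹) r⁻¹ :=
        hR.comm_mx (hR.conj_mem_mx hR.x_mem hR.r_mem_mx) (inv_mem hR.r_mem_mx)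
      rw [hc.mul_pow, _root_.conj_pow, inv_pow]

theorem quarter_fix {Q : Subgroup G} (hQ : IsElem P r b n Q) {q : G} (hq : q ∈ Q)
    (hq' : q ∈ mx r b) : r ^ (n / 4) * q * (r ^ (n / 4))⁻¹ = q := by
  rw [(hR.comm_mx (pow_mem hR.r_mem_mx _) hq').eq, mul_inv_cancel_right]

theorem quarter_mem_normalizer {Q : Subgroup G} (hQ : IsElem P r b n Q) :
    r ^ (n / 4) ∈ Subgroup.normalizer (Q : Set G) := by
  have := hR.finite
  have := finite_of_le hQ.le
  haveI : Finite (Q : Set G) := inferInstanceAs (Finite Q)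
  refine Subgroup.mem_normalizer_fintype fun q hq => ?_
  by_cases hq' : q ∈ mx r b
  · rwa [hR.quarter_fix hQ hq hq']
  · rw [hR.conj_quarter (hQ.le hq) hq']
    exact mul_mem hq (hR.ctr_mem_elem hQ)

theorem autInduced_cases {Q : Subgroup G} (hQ : IsElem P r b n Q) {α : MulAut Q}
    (hα : α ∈ autInducedBy P Q) :
    α = 1 ∨ ∀ q : Q, ((q : G) ∈ mx r b → α q = q) ∧
      ((q : G) ∉ mx r b → (α q : G) = q * ctr r x n) := by
  obtain ⟨g, hg, hgx⟩ := mem_autInducedBy_iff.1 hα
  obtain ⟨w, hw, hw'⟩ := hQ.out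
  have hwP := hQ.le hw
  -- replace `g` by an element inside
  obtain ⟨m, hm, hmx'⟩ : ∃ m ∈ mx r b, ∀ q : Q, (α q : G) = m * (q : G) * m⁻¹ := by
    by_cases hgm : g ∈ mx r b
    · exact ⟨g, hgm, hgx⟩
    refine ⟨w⁻¹ * g, hR.outside_mul hwP hw' hg hgm, fun q => ?_⟩
    rw [hgx q]
    have hc : w * (α q : G) * w⁻¹ = (α q : G) := by
      have h2 : w * (α q : G) = (α q : G) * w := by
        have hab : ∀ a ∈ Q, ∀ c ∈ Q, a * c = c * a := fun a ha c hc => by
          have h := hQ.sq _ (mul_mem ha hc)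
          have e1 : a⁻¹ = a := inv_eq_of_mul_eq_one_left (hQ.sq a ha)
          have e2 : c⁻¹ = c := inv_eq_of_mul_eq_one_left (hQ.sq c hc)
          calc a * c = (a * c)⁻¹ := (inv_eq_of_mul_eq_one_left h).symm
            _ = _ := by rw [mul_inv_rev, e1, e2]
        exact hab w hw _ (α q).2
      rw [h2, mul_inv_cancel_right]
    rw [← hgx q]
    calc (α q : G) = w⁻¹ * (α q : G) * w := by
          conv_rhs => rw [← hc]
          group
      _ = _ := by rw [hgx q]; group
  have hin : ∀ q : Q, (q : G) ∈ mx r b → α q = q := fun q hq => Subtype.ext (by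
    rw [hmx' q, (hR.comm_mx hm hq).eq, mul_inv_cancel_right])
  obtain ⟨l, hl⟩ := hR.conj_mul_inv hm
  have hout : ∀ q : Q, (q : G) ∉ mx r b → (α q : G) = q * kap r x ^ l := fun q hq => by
    rw [hmx' q]
    have h1 : (q : G)⁻¹ * m * q = x * m * x⁻¹ := by
      rw [← hR.conj_outside (P.inv_mem (hQ.le q.2)) (fun h => hq (inv_mem_iff.1 h)) hm, inv_inv]
    calc m * (q : G) * m⁻¹ = q * (((q : G)⁻¹ * m * q) * m⁻¹) := by group
      _ = _ := by rw [h1, hl]
  have hk : kap r x ^ l ∈ Q := by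
    have := mul_mem (inv_mem hw) (α ⟨w, hw⟩).2
    rwa [hout ⟨w, hw⟩ hw', inv_mul_cancel_left] at this
  rcases hR.eq_ctr (npow_mem_zpowers _ l) (hQ.sq _ hk) with e | e
  · left
    refine MulEquiv.ext fun q => ?_
    by_cases hq : (q : G) ∈ mx r b
    · exact hin q hq
    · exact Subtype.ext (by rw [hout q hq, e, mul_one]; rfl)
  · exact Or.inr fun q => ⟨hin q, fun hq => by rw [hout q hq, e]⟩

theorem card_autInduced {Q : Subgroup G} (hQ : IsElem P r b n Q) :
    Nat.card (autInducedBy P Q) ≤ 2 := by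
  classical
  have := hR.finite
  have := finite_of_le hQ.le
  have := finite_mulAut (Q := Q)
  obtain ⟨w, hw, hw'⟩ := hQ.out
  let f : autInducedBy P Q → Bool := fun α => decide ((α : MulAut Q) = 1)
  refine (Nat.card_le_card_of_injective f fun a c h => ?_).trans (by simp)
  simp only [f, decide_eq_decide] at h
  refine Subtype.ext ?_
  rcases hR.autInduced_cases hQ a.2 with ha | ha
  · rw [ha, h.1 ha]
  rcases hR.autInduced_cases hQ c.2 with hc | hc
  · rw [hc, h.2 hc]
  refine MulEquiv.ext fun q => ?_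
  by_cases hq : (q : G) ∈ mx r b
  · rw [(ha q).1 hq, (hc q).1 hq]
  · exact Subtype.ext (by rw [(ha q).2 hq, (hc q).2 hq])

variable {F : FusionSystem P} (hF : F.IsSaturated 2)
include hF

/-- A conjugate of an elementary candidate is one. -/
theorem elem_of_isConj {Q Q' : Subgroup G} (hQ : IsElem P r b n Q) (h : F.IsConj Q Q') :
    IsElem P r b n Q' := by
  have := hR.finite
  obtain ⟨f, hf, rfl⟩ := CfsgLib.Fusion.isConj_iff.1 h
  have hle := hf.img_le
  have hsq : ∀ q ∈ img Q f, q * q = 1 := fun q hq => by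
    obtain ⟨a, ha, rfl⟩ := hf.mem_img.1 hq
    rw [← hf.map_mul ha ha, hQ.sq a ha, hf.map_one]
  have hcard : Nat.card (img Q f) = 8 := by rw [hf.card_img, hR.elem_card hQ]
  have := finite_of_le hle
  -- the part inside
  set A : Subgroup G := img Q f ⊓ mx r b with hA
  have : Finite A := finite_of_le (le_trans inf_le_left hle)
  classical
  have hsub : ∀ q : A, (q : G) ∈ ({1, r ^ (n / 2), b, b * r ^ (n / 2)} : Finset G) := fun q => by
    rcases hR.eq_z_of_sq q.2.2 (hsq q q.2.1) with e | e | e | e <;> simp [e]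
  have hA4 : 4 ≤ Nat.card A := by
    have h1 : A.relIndex (img Q f) ≤ 2 := by
      have h2 : (mx r b).relIndex P = 2 := hR.index_mx
      rw [hA, Subgroup.inf_relIndex_left, ← h2]
      exact Subgroup.relIndex_le_of_le_right hle (by rw [h2]; norm_num)
    have h2 := (A.subgroupOf (img Q f)).card_mul_index
    rw [Nat.card_congr (Subgroup.subgroupOfEquivOfLe (inf_le_left : A ≤ img Q f)).toEquiv,
      hcard] at h2
    change Nat.card A * A.relIndex (img Q f) = 8 at h2
    nlinarith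
  have hall : ∀ v ∈ ({1, r ^ (n / 2), b, b * r ^ (n / 2)} : Finset G), v ∈ A := by
    intro v hv
    by_contra hn
    have h1 : Nat.card A ≤ (({1, r ^ (n / 2), b, b * r ^ (n / 2)} : Finset G).erase v).card := by
      rw [← Nat.card_eq_finsetCard]
      refine Nat.card_le_card_of_injective (fun q => ⟨(q : G), Finset.mem_erase.2
        ⟨fun e => hn (e ▸ q.2), hsub q⟩⟩) fun a c h => Subtype.ext (congrArg (fun t => t.1) h)
    rw [Finset.card_erase_of_mem hv] at h1
    have := Finset.card_le_four (a := (1 : G)) (b := r ^ (n / 2)) (c := b) (d := b * r ^ (n / 2))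
    omega
  refine ⟨hle, (hall _ (by simp)).1, (hall _ (by simp)).1, hsq, ?_⟩
  by_contra hno
  push Not at hno
  have e : A = img Q f := le_antisymm inf_le_left (le_inf le_rfl hno)
  have h1 : Nat.card A ≤ ({1, r ^ (n / 2), b, b * r ^ (n / 2)} : Finset G).card := by
    rw [← Nat.card_eq_finsetCard]
    refine Nat.card_le_card_of_injective (fun q => ⟨(q : G), hsub q⟩)
      fun a c h => Subtype.ext (congrArg (fun t => t.1) h)
  have := h1.trans Finset.card_le_four
  rw [e, hcard] at this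
  omega

/-- The transvection data of an elementary candidate. -/
theorem exists_cube {Q : Subgroup G} (hQ : IsElem P r b n Q) :
    ∃ (τ : MulAut Q) (u' b' : Q), (u' : G) = ctr r x n ∧ (b' : G) = b ∧
      CubeData (F.autGroup Q) τ u' b' := by
  have := hR.finite
  have hS := hR.isPGroup
  have := finite_of_le hQ.le
  have := finite_mulAut (Q := Q)
  have hN := hR.quarter_mem_normalizer hQ
  set τ : MulAut Q := Q.normalizerMonoidHom ⟨r ^ (n / 4), hN⟩ with hτ
  have hτx : ∀ q : Q, (τ q : G) = r ^ (n / 4) * (q : G) * (r ^ (n / 4))⁻¹ := fun q => rfl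
  have hτmem : τ ∈ F.autGroup Q := autInducedBy_le_autGroup hQ.le
    (mem_autInducedBy_iff.2 ⟨r ^ (n / 4), P.pow_mem hR.r_mem _, hτx⟩)
  refine ⟨τ, ⟨_, hR.ctr_mem_elem hQ⟩, ⟨b, hQ.b_mem⟩, rfl, rfl, ⟨fun e => ?_, hR.elem_card hQ, ?_,
    ⟨?_, ?_⟩, hτmem, ?_, ?_, fun y h1 h2 h3 h4 => ?_, fun S hSX hS2 => ?_⟩⟩
  · exact Subtype.ext (hQ.sq e e.2)
  · exact fun h => hR.ctr_ne_one (congrArg Subtype.val h)
  · exact fun h => hR.b_ne_one (congrArg Subtype.val h)
  · intro h
    have h' : b = ctr r x n := congrArg Subtype.val h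
    rcases hR.ctr_mem_z with e | e <;> rw [e] at h'
    exacts [hR.z_ne_b h'.symm, hR.bz_ne.2.2 h'.symm]
  · refine Subtype.ext ((hτx _).trans (hR.quarter_fix hQ (hR.ctr_mem_elem hQ) ?_))
    exact pow_mem hR.kap_mem _
  · exact Subtype.ext ((hτx _).trans (hR.quarter_fix hQ hQ.b_mem hR.b_mem_mx))
  · have hy : (y : G) ∉ mx r b := fun hy => by
      rcases hR.eq_z_of_sq hy (hQ.sq y y.2) with e | e | e | e
      · exact h1 (Subtype.ext e)
      all_goals
        rcases hR.ctr_mem_z with c | c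
      · exact h2 (Subtype.ext (e.trans c.symm))
      · refine h4 (Subtype.ext (e.trans ?_))
        push_cast
        rw [c, ← mul_assoc, hR.b_sq, one_mul]
      · exact h3 (Subtype.ext e)
      · exact h3 (Subtype.ext e)
      · refine h4 (Subtype.ext (e.trans ?_))
        push_cast
        rw [c]
      · exact h2 (Subtype.ext (e.trans c.symm))
    exact Subtype.ext ((hτx y).trans (hR.conj_quarter (hQ.le y.2) hy))
  · -- the bound on the two-subgroups
    have : Fact (Nat.Prime 2) := ⟨Nat.prime_two⟩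
    obtain ⟨Q', hc, hN'⟩ := exists_fullyNormalized_conj F hQ.le
    have hQ' := hR.elem_of_isConj hF hQ hc
    have := finite_of_le hQ'.le
    have := finite_mulAut (Q := Q')
    obtain ⟨T, hT⟩ := (fullyAutomized_of_fullyNormalized hS hF hN').2
    have hTc : Nat.card (T : Subgroup (F.autGroup Q')) ≤ 2 := by
      rw [hT, Nat.card_congr
        (Subgroup.subgroupOfEquivOfLe (autInducedBy_le_autGroup hQ'.le)).toEquiv]
      exact hR.card_autInduced hQ'
    have hdvd : Nat.card S ∣ Nat.card (F.autGroup Q') := by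
      rw [isConj_card_autGroup hc]
      exact Subgroup.card_dvd_of_le hSX
    obtain ⟨k, hk⟩ := IsPGroup.iff_card.1 hS2
    rw [hk] at hdvd ⊢
    refine le_trans ?_ hTc
    rw [T.card_eq_multiplicity]
    exact Nat.le_of_dvd (pow_pos two_pos _) (Nat.pow_dvd_pow 2
      ((Nat.Prime.pow_dvd_iff_le_factorization Nat.prime_two Nat.card_pos.ne').1 hdvd))

/-- With the commutator involution as central involution every system is marked. -/
theorem marked_of_ctr (hc : ctr r x n = r ^ (n / 2)) : Marked P r b n F := by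
  intro Q hQ α hα hodd hfix
  obtain ⟨τ, u', b', hu, -, hD⟩ := hR.exists_cube hF hQ
  exact hD.eq_one_of_fix hα hodd (hfix u' (hu.trans hc))

end Resid

end CfsgLib.BlockA.IndexFour
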