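import Cfsg.Agent.Lib.BlockA.IndexFour.Shape
import Cfsg.Agent.Lib.Char.Linear
import Mathlib.RingTheory.RootsOfUnity.Complex

/-!
The linear characters of the abelian subgroup of index two of the residual shape, and the four of
them fixed by the involution outside.
-/

set_option autoImplicit false
set_option linter.unusedSectionVars false
set_option maxHeartbeats 1000000

namespace CfsgLib.BlockA.IndexFour.Resid

open Subgroup

universe u

variable {G : Type u} [Group G] {P : Subgroup G} {r b x : G} {n : ℕ} (hR : Resid P r b x n)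
include hR

/-- The values of a linear character on the generators. -/
theorem lam_roots (lam : mx r b →* ℂˣ) :
    (lam ⟨r, hR.r_mem_mx⟩ : ℂ) ^ n = 1 ∧
      ((lam ⟨b, hR.b_mem_mx⟩ : ℂ) = 1 ∨ (lam ⟨b, hR.b_mem_mx⟩ : ℂ) = -1) := by
  constructor
  · rw [← Units.val_pow_eq_pow_val, ← map_pow,
      show (⟨r, hR.r_mem_mx⟩ : mx r b) ^ n = 1 from Subtype.ext (by
        push_cast
        rw [← hR.orderOf_r, pow_orderOf_eq_one]), map_one, Units.val_one]
  · refine mul_self_eq_one_iff.1 ?_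
    rw [← Units.val_mul, ← map_mul,
      show (⟨b, hR.b_mem_mx⟩ : mx r b) * ⟨b, hR.b_mem_mx⟩ = 1 from Subtype.ext hR.b_sq,
      map_one, Units.val_one]

theorem lam_apply (lam : mx r b →* ℂˣ) {y : mx r b} {l j : ℕ} (hy : (y : G) = r ^ l * b ^ j) :
    (lam y : ℂ) = (lam ⟨r, hR.r_mem_mx⟩ : ℂ) ^ l * (lam ⟨b, hR.b_mem_mx⟩ : ℂ) ^ j := by
  have e : y = (⟨r, hR.r_mem_mx⟩ : mx r b) ^ l * ⟨b, hR.b_mem_mx⟩ ^ j := Subtype.ext (by
    push_cast
    exact hy)
  rw [e, map_mul, map_pow, map_pow, Units.val_mul, Units.val_pow_eq_pow_val,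
    Units.val_pow_eq_pow_val]

theorem lam_ext {lam lam' : mx r b →* ℂˣ}
    (h1 : (lam ⟨r, hR.r_mem_mx⟩ : ℂ) = lam' ⟨r, hR.r_mem_mx⟩)
    (h2 : (lam ⟨b, hR.b_mem_mx⟩ : ℂ) = lam' ⟨b, hR.b_mem_mx⟩) : lam = lam' := by
  refine MonoidHom.ext fun y => Units.ext ?_
  obtain ⟨l, j, e⟩ := hR.mem_mx_iff.1 y.2
  rw [hR.lam_apply lam e, hR.lam_apply lam' e, h1, h2]

/-- Every pair of roots of unity is the pair of values of a linear character. -/
theorem exists_lam {u v : ℂ} (hu : u ^ n = 1) (hv : v = 1 ∨ v = -1) :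
    ∃ lam : mx r b →* ℂˣ,
      (lam ⟨r, hR.r_mem_mx⟩ : ℂ) = u ∧ (lam ⟨b, hR.b_mem_mx⟩ : ℂ) = v := by
  classical
  have := hR.finite
  have : Finite (mx r b) := Finite.of_injective (Subgroup.inclusion hR.mx_le)
    (Subgroup.inclusion_injective hR.mx_le)
  have hcomm : ∀ a c : mx r b, a * c = c * a := fun a c => Subtype.ext (hR.comm_mx a.2 c.2).eq
  have hcard : Nat.card (mx r b →* ℂˣ) = 2 * n := by
    rw [CfsgLib.Char.natCard_linear, show commutator (mx r b) = ⊥ from ?_, Subgroup.index_bot,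
      hR.card_mx]
    rw [commutator_eq_bot_iff_center_eq_top, eq_top_iff]
    exact fun a _ => Subgroup.mem_center_iff.2 fun c => hcomm c a
  have : NeZero n := ⟨hR.n_pos.ne'⟩
  have : Finite (mx r b →* ℂˣ) := Nat.finite_of_card_ne_zero (by
    rw [hcard]; have := hR.n_pos; omega)
  let f : (mx r b →* ℂˣ) → rootsOfUnity n ℂ × rootsOfUnity 2 ℂ := fun lam =>
    (⟨lam ⟨r, hR.r_mem_mx⟩, by
      rw [mem_rootsOfUnity, Units.ext_iff, Units.val_pow_eq_pow_val, Units.val_one]
      exact (hR.lam_roots lam).1⟩,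
    ⟨lam ⟨b, hR.b_mem_mx⟩, by
      rw [mem_rootsOfUnity, Units.ext_iff, Units.val_pow_eq_pow_val, Units.val_one]
      rcases (hR.lam_roots lam).2 with e | e <;> rw [e] <;> norm_num⟩)
  have hinj : Function.Injective f := fun lam lam' e => hR.lam_ext
    (congrArg (fun p => ((p.1 : ℂˣ) : ℂ)) e) (congrArg (fun p => ((p.2 : ℂˣ) : ℂ)) e)
  have hbij : Function.Bijective f := (Nat.bijective_iff_injective_and_card f).2 ⟨hinj, by
    rw [hcard, Nat.card_prod, Complex.card_rootsOfUnity, Complex.card_rootsOfUnity, mul_comm]⟩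
  have hu0 : u ≠ 0 := fun e => by
    rw [e, zero_pow hR.n_pos.ne'] at hu
    exact zero_ne_one hu
  have hv0 : v ≠ 0 := by rcases hv with e | e <;> rw [e] <;> norm_num
  obtain ⟨lam, hlam⟩ := hbij.2 (⟨Units.mk0 u hu0, by
      rw [mem_rootsOfUnity, Units.ext_iff, Units.val_pow_eq_pow_val, Units.val_one]
      exact hu⟩,
    ⟨Units.mk0 v hv0, by
      rw [mem_rootsOfUnity, Units.ext_iff, Units.val_pow_eq_pow_val, Units.val_one]
      rcases hv with e | e <;> subst e <;> norm_num⟩)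
  exact ⟨lam, congrArg (fun p => ((p.1 : ℂˣ) : ℂ)) hlam, congrArg (fun p => ((p.2 : ℂˣ) : ℂ)) hlam⟩

/-- Conjugation by the outside involution on the abelian subgroup. -/
def flip : mx r b ≃* mx r b where
  toFun v := ⟨x * v * x⁻¹, hR.conj_mem_mx hR.x_mem v.2⟩
  invFun v := ⟨x⁻¹ * v * x, by
    have h := hR.conj_mem_mx (P.inv_mem hR.x_mem) v.2
    rwa [inv_inv] at h⟩
  left_inv v := Subtype.ext (by
    show x⁻¹ * (x * (v : G) * x⁻¹) * x = v
    group)
  right_inv v := Subtype.ext (by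
    show x * (x⁻¹ * (v : G) * x) * x⁻¹ = v
    group)
  map_mul' v w := Subtype.ext (by
    show x * ((v : G) * w) * x⁻¹ = x * (v : G) * x⁻¹ * (x * (w : G) * x⁻¹)
    group)

theorem coe_flip (v : mx r b) : ((hR.flip v : mx r b) : G) = x * (v : G) * x⁻¹ := rfl

theorem flip_flip (v : mx r b) : hR.flip (hR.flip v) = v := by
  refine Subtype.ext ?_
  rw [hR.coe_flip, hR.coe_flip]
  have h : Commute (x * x) (v : G) := by
    rcases hR.kind with ⟨h1, -⟩ | ⟨h1, -⟩ | ⟨-, h1, -⟩ <;> rw [h1]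
    exacts [Commute.one_left _, Commute.one_left _, hR.comm_b (hR.mx_le v.2)]
  calc x * (x * (v : G) * x⁻¹) * x⁻¹ = x * x * (v : G) * (x * x)⁻¹ := by group
    _ = v := by rw [h.eq, mul_inv_cancel_right]

/-- The four fixed linear characters, in two pairs agreeing on the squares. -/
theorem exists_fixed : ∃ l : Bool × Bool → (mx r b →* ℂˣ),
    Function.Injective l ∧
    (∀ lam : mx r b →* ℂˣ, lam.comp hR.flip.toMonoidHom = lam ↔ ∃ i, l i = lam) ∧
    ∀ (e : Bool) (y : mx r b), (y : G) * y = 1 → l (true, e) y = l (false, e) y := by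
  classical
  obtain ⟨k, hk⟩ := hR.two_pow
  have h4 := hR.four_le
  set re : mx r b := ⟨eps r x, hR.eps_mem⟩ with hre
  -- the value at the twist
  obtain ⟨ω, hω, hfix⟩ : ∃ ω : Bool → ℂ, (∀ e, ω e ^ 4 = 1) ∧
      ∀ (lam : mx r b →* ℂˣ) (e : Bool), (lam ⟨b, hR.b_mem_mx⟩ : ℂ) = (if e then 1 else -1) →
        ((lam re : ℂ) = (lam ⟨r, hR.r_mem_mx⟩ : ℂ) ^ 2 ↔
          (lam ⟨r, hR.r_mem_mx⟩ : ℂ) = ω e ∨ (lam ⟨r, hR.r_mem_mx⟩ : ℂ) = -ω e) := by
    rcases hR.eps_cases with he | he | ⟨h8, he⟩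
    · refine ⟨fun _ => 1, fun _ => one_pow 4, fun lam e _ => ?_⟩
      rw [show re = 1 from Subtype.ext he, map_one, Units.val_one, eq_comm (a := (1 : ℂ)),
        pow_two, mul_self_eq_one_iff]
    · refine ⟨fun e => if e then 1 else Complex.I, fun e => ?_, fun lam e hle => ?_⟩
      · cases e <;> simp
      rw [show re = ⟨b, hR.b_mem_mx⟩ from Subtype.ext he, hle, eq_comm]
      cases e
      · simp only [Bool.false_eq_true, if_false]
        rw [← Complex.I_sq, sq_eq_sq_iff_eq_or_eq_neg]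
      · simp only [if_true]
        rw [pow_two, mul_self_eq_one_iff]
    · refine ⟨fun _ => 1, fun _ => one_pow 4, fun lam e _ => ?_⟩
      set u := (lam ⟨r, hR.r_mem_mx⟩ : ℂ) with hu
      have hz : (lam re : ℂ) = u ^ (n / 2) := by
        rw [show re = (⟨r, hR.r_mem_mx⟩ : mx r b) ^ (n / 2) from Subtype.ext (by
          push_cast; exact he), map_pow, Units.val_pow_eq_pow_val]
      rw [hz]
      have hq := hR.quarter
      obtain ⟨c, hc⟩ := hR.even_quarter h8
      constructor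
      · intro h
        have h1 : u ^ (n / 2) * u ^ (n / 2) = 1 := by
          rw [← pow_add, ← two_mul, hR.half, (hR.lam_roots lam).1]
        have h2 : u ^ (n / 2) = 1 := by
          rw [show n / 2 = 2 * (c + c) by omega, pow_mul, ← h]
          rcases mul_self_eq_one_iff.1 h1 with e | e <;> rw [e]
          · rw [one_pow]
          · rw [← two_mul c, pow_mul, neg_one_sq, one_pow]
        rw [h2, eq_comm, pow_two, mul_self_eq_one_iff] at h
        exact h
      · rintro (h | h) <;> rw [h]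
        · rw [one_pow, one_pow]
        · rw [neg_one_sq, show n / 2 = 2 * (c + c) by omega, pow_mul, neg_one_sq, one_pow]
  have hωn : ∀ (i : Bool × Bool), (if i.1 then ω i.2 else -ω i.2) ^ n = 1 := by
    rintro ⟨s, e⟩
    rw [← hR.quarter, pow_mul]
    cases s
    · simp only [Bool.false_eq_true, if_false]
      rw [Even.neg_pow ⟨2, rfl⟩, hω, one_pow]
    · simp only [if_true]
      rw [hω, one_pow]
  choose l hlr hlb using fun i : Bool × Bool => hR.exists_lam (hωn i)
    (v := if i.2 then 1 else -1) (by cases i.2 <;> simp)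
  refine ⟨l, fun i i' e => ?_, fun lam => ?_, fun e y hy => ?_⟩
  · have e1 := congrArg (fun t : mx r b →* ℂˣ => (t ⟨b, hR.b_mem_mx⟩ : ℂ)) e
    have e2 := congrArg (fun t : mx r b →* ℂˣ => (t ⟨r, hR.r_mem_mx⟩ : ℂ)) e
    simp only [hlr, hlb] at e1 e2
    obtain ⟨s, e'⟩ := i
    obtain ⟨s', e''⟩ := i'
    have he : e' = e'' := by cases e' <;> cases e'' <;> first | rfl | norm_num at e1
    subst he
    have hne : ω e' ≠ -ω e' := fun h => by
      have h0 : ω e' = 0 := by linear_combination h / 2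
      have := hω e'
      rw [h0] at this
      norm_num at this
    cases s <;> cases s' <;> first | rfl | exact absurd e2 hne | exact absurd e2.symm hne
  · have hflip : lam.comp hR.flip.toMonoidHom = lam ↔
        (lam re : ℂ) = (lam ⟨r, hR.r_mem_mx⟩ : ℂ) ^ 2 := by
      have hr : (lam (hR.flip ⟨r, hR.r_mem_mx⟩) : ℂ) =
          ((lam ⟨r, hR.r_mem_mx⟩ : ℂ))⁻¹ * (lam re : ℂ) := by
        rw [show hR.flip ⟨r, hR.r_mem_mx⟩ = (⟨r, hR.r_mem_mx⟩ : mx r b)⁻¹ * re from
          Subtype.ext (by rw [hR.coe_flip]; push_cast; exact hR.conj_r), map_mul, Units.val_mul,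
          map_inv, Units.val_inv_eq_inv_val]
      have hb : hR.flip ⟨b, hR.b_mem_mx⟩ = ⟨b, hR.b_mem_mx⟩ := Subtype.ext (by
        rw [hR.coe_flip, hR.comm_x.symm.eq, mul_inv_cancel_right])
      constructor
      · intro h
        have h1 := congrArg (fun t : mx r b →* ℂˣ => (t ⟨r, hR.r_mem_mx⟩ : ℂ)) h
        simp only [MonoidHom.comp_apply, MulEquiv.toMonoidHom_eq_coe, MonoidHom.coe_coe, hr] at h1
        rw [inv_mul_eq_iff_eq_mul₀ (Units.ne_zero _)] at h1
        rw [h1, pow_two]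
      · intro h
        refine hR.lam_ext ?_ ?_
        · simp only [MonoidHom.comp_apply, MulEquiv.toMonoidHom_eq_coe, MonoidHom.coe_coe, hr]
          rw [h, pow_two, inv_mul_cancel_left₀ (Units.ne_zero _)]
        · simp only [MonoidHom.comp_apply, MulEquiv.toMonoidHom_eq_coe, MonoidHom.coe_coe, hb]
    rw [hflip]
    constructor
    · intro h
      obtain ⟨e, he⟩ : ∃ e : Bool, (lam ⟨b, hR.b_mem_mx⟩ : ℂ) = if e then 1 else -1 := by
        rcases (hR.lam_roots lam).2 with h' | h'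
        exacts [⟨true, h'⟩, ⟨false, h'⟩]
      rcases (hfix lam e he).1 h with h' | h'
      · exact ⟨(true, e), hR.lam_ext ((hlr _).trans h'.symm) ((hlb _).trans he.symm)⟩
      · exact ⟨(false, e), hR.lam_ext ((hlr _).trans h'.symm) ((hlb _).trans he.symm)⟩
    · rintro ⟨⟨s, e⟩, rfl⟩
      refine (hfix _ e (hlb _)).2 ?_
      cases s
      exacts [Or.inr (hlr _), Or.inl (hlr _)]
  · obtain ⟨m, j, e'⟩ := hR.mem_mx_iff.1 y.2
    refine Units.ext ?_
    rw [hR.lam_apply _ e', hR.lam_apply _ e', hlr, hlr, hlb, hlb]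
    simp only [if_true, Bool.false_eq_true, if_false]
    congr 1
    have h2m : r ^ (2 * m) = 1 := by
      have h1 : (y : G) * y = r ^ (2 * m) := by
        rw [e', ← pow_two, (hR.comm_r.symm.pow_pow m j).mul_pow, ← pow_mul, ← pow_mul, mul_comm m 2,
          mul_comm j 2, pow_mul b, pow_two, hR.b_sq, one_pow, mul_one]
      rw [← h1, hy]
    rw [hR.pow_eq_one_iff] at h2m
    have hev : Even m := by
      obtain ⟨d, hd⟩ := hR.four_dvd.trans h2m
      exact ⟨d, by omega⟩
    rw [hev.neg_pow]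

end CfsgLib.BlockA.IndexFour.Resid
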