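import Cfsg.Agent.Lib.BlockA.IndexFour.Columns
import Cfsg.Agent.Lib.BlockA.IndexFour.Linear

/-!
A block with marked residual defect group: the column at the central involution and the heights.
-/

set_option autoImplicit false
set_option linter.unusedSectionVars false
set_option maxHeartbeats 1000000

namespace CfsgLib.BlockA.IndexFour

open Cfsg CfsgLib.Block CfsgLib.BlockA CfsgLib.BlockB CfsgLib.BlockB.SubSum
  CfsgLib.BlockB.HeightBound AbelianSub SectionOrth NilpotentSection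
open scoped ComplexConjugate

universe u

variable {G : Type u} [Group G] [Fintype G] {M : Ideal AlgInt} [M.IsPrime]
  {B : Set (IrrCharacter G)} {P : Subgroup G}
  {c : Set (IrrCharacter (Subgroup.centralizer (P : Set G)))} {r b x : G} {n : ℕ}
variable [Fintype (cz r n)] [Fintype (IrrCharacter (P.subgroupOf (cz r n)))]
variable (hR : Resid P r b x n) (S : Setup M P c r n)
include hR

/-- The multiplicities of the linear characters in the columns. -/
theorem exists_linear_coeff (χ : IrrCharacter G) [Fintype (mx r b →* ℂˣ)] :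
    ∃ a : (mx r b →* ℂˣ) → ℕ,
      (∀ v : mx r b, col S χ v = ∑ lam : mx r b →* ℂˣ, (a lam : ℂ) * (lam v : ℂ)) ∧
      ∀ lam : mx r b →* ℂˣ, a (lam.comp hR.flip.toMonoidHom) = a lam := by
  classical
  have := Fintype.ofFinite (mx r b)
  have := Fintype.ofFinite (IrrCharacter (mx r b))
  obtain ⟨a, ha, hinv⟩ := exists_coeff hR S χ
  let f : (mx r b →* ℂˣ) → IrrCharacter (mx r b) := fun lam =>
    ⟨fun v => (lam v : ℂ), CfsgLib.Char.isIrrCharacter_linear lam⟩
  have hf : Function.Bijective f := by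
    refine ⟨fun l l' e => MonoidHom.ext fun v => Units.ext
      (congrFun (congrArg Subtype.val e) v), fun φ => ?_⟩
    obtain ⟨lam, hlam⟩ := CfsgLib.Char.exists_hom_of_degree_one
      (CfsgLib.Char.irr_isCharacter φ.2)
      (CfsgLib.Char.irr_degree_one_of_comm (fun a c => Subtype.ext (hR.comm_mx a.2 c.2).eq) φ.2)
    exact ⟨lam, Subtype.ext hlam.symm⟩
  refine ⟨fun lam => a (f lam), fun v => ?_, fun lam => hinv (f lam) _ fun v => rfl⟩
  rw [ha]
  exact (Fintype.sum_bijective f hf _ _ fun lam => rfl).symm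

/-- The sign of a linear character at the central involution. -/
theorem lam_z (lam : mx r b →* ℂˣ) :
    ∃ s : ℤ, (lam ⟨r ^ (n / 2), hR.z_mem_mx⟩ : ℂ) = s ∧ (s : ZMod 2) = 1 := by
  have h : (lam ⟨r ^ (n / 2), hR.z_mem_mx⟩ : ℂ) * lam ⟨r ^ (n / 2), hR.z_mem_mx⟩ = 1 := by
    rw [← Units.val_mul, ← map_mul,
      show (⟨r ^ (n / 2), hR.z_mem_mx⟩ : mx r b) * ⟨r ^ (n / 2), hR.z_mem_mx⟩ = 1 from
        Subtype.ext hR.z_sq, map_one, Units.val_one]
  rcases mul_self_eq_one_iff.1 h with e | e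
  · exact ⟨1, by rw [e, Int.cast_one], Int.cast_one⟩
  · exact ⟨-1, by rw [e]; norm_num, by decide⟩

/-- The values at the central involution are integers. -/
theorem col_z_int (χ : IrrCharacter G) : ∃ a : ℤ, col S χ (r ^ (n / 2)) = (a : ℂ) := by
  classical
  have := hR.finite
  have : Finite (mx r b) := Finite.of_injective (Subgroup.inclusion hR.mx_le)
    (Subgroup.inclusion_injective hR.mx_le)
  have := Fintype.ofFinite (mx r b →* ℂˣ)
  obtain ⟨a, ha, -⟩ := exists_linear_coeff hR S χ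
  choose s hs hs' using lam_z hR
  refine ⟨∑ lam : mx r b →* ℂˣ, (a lam : ℤ) * s lam, ?_⟩
  refine (ha ⟨r ^ (n / 2), hR.z_mem_mx⟩).trans ?_
  push_cast
  exact Finset.sum_congr rfl fun lam _ => by rw [hs]

variable (hM : IsPModular 2 M) (hmax : IsMaximalBrauerPair 2 M B P c)
include hM hmax

/-- **The values at the involution and the heights.** -/
theorem col_height (hPD : IsDefectGroup 2 M B P) {χ : IrrCharacter G} (hχ : χ ∈ B) :
    ∀ a : ℤ, col S χ (r ^ (n / 2)) = (a : ℂ) → a ≠ 0 ∧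
      ((2 : ℤ) ^ blockHeight 2 B (χ : G → ℂ)) ∣ a ∧
      ¬ ((2 : ℤ) ^ (blockHeight 2 B (χ : G → ℂ) + 1)) ∣ a := by
  classical
  intro a ha
  have := Fact.mk hM.1
  have := Fintype.ofFinite (IrrCharacter G)
  have hzP := hR.z_mem
  have hx : ∃ k : ℕ, orderOf (r ^ (n / 2)) = 2 ^ k := hR.key_order hzP
  obtain ⟨β, hb, hbβ, hbp, hnorm, -⟩ := key_data hR S hM hmax hR.key_z
  obtain ⟨f, hf, hfle⟩ := exists_below hM hmax hzP
  obtain ⟨b₀, hb₀, hb₀β, hd₀⟩ :=
    exists_major hM hmax hzP (fun w hw => (hR.comm_z hw).symm) hfle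
  obtain rfl : b₀ = β := subgroupBlockCoeff_injective hM hb₀.1 hb.1
    (hb₀β.trans ((beta_eq_of_below hM hmax hzP rfl hfle).trans hbβ.symm))
  have hwt : wt r n (r ^ (n / 2)) = 4 * n := if_pos rfl
  rw [hwt] at hnorm
  have hd : ((2 ^ blockDefect 2 b₀ : ℕ) : ℂ) = ((4 * n : ℕ) : ℂ) := by
    rw [hd₀, ← natCard_defectGroup hM hmax.1.2.1 hPD, hR.card_eq]
  let K := Subgroup.centralizer ({r ^ (n / 2)} : Set G)
  set N : ℂ := (Nat.card K : ℂ)⁻¹ *
    ∑ y : K, regInd 2 y * (common S b₀ y * conj (common S b₀ y)) with hN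
  have hrank : (blockRank 2 b₀ : ℂ) = ((4 * n : ℕ) : ℂ) * N := by
    rw [CfsgLib.BlockB.blockRank_eq_sum hM hb₀.1, hN]
    simp only [CfsgLib.Char.classInner_def, Finset.mul_sum]
    rw [Finset.sum_comm]
    refine Finset.sum_congr (by ext; simp) fun y _ => ?_
    by_cases hy : 2 ∣ orderOf y
    · simp [regInd, hy]
    · have h1 := hnorm y y hy hy
      calc ∑ φ ∈ b₀.toFinite.toFinset,
            (Nat.card K : ℂ)⁻¹ * (regInd 2 y * (φ : K → ℂ) y * conj ((φ : K → ℂ) y))
          = (Nat.card K : ℂ)⁻¹ * regInd 2 y *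
              ∑ φ ∈ b₀.toFinite.toFinset, conj ((φ : K → ℂ) y) * (φ : K → ℂ) y := by
            rw [Finset.mul_sum]
            exact Finset.sum_congr rfl fun φ _ => by ring
        _ = _ := by rw [h1]; ring
  have hsub : ∀ χ ξ : IrrCharacter G, subEntry 2 b₀ χ ξ 1 =
      (blockRank 2 b₀ : ℂ) * (col S χ (r ^ (n / 2)) * conj (col S ξ (r ^ (n / 2)))) := by
    intro χ ξ
    rw [subEntry_one hM hx hb₀, hd, hrank, hN, CfsgLib.Char.classInner_def]
    simp only [Finset.mul_sum, Finset.sum_mul]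
    refine Finset.sum_congr (by ext; simp) fun y _ => ?_
    by_cases hy : 2 ∣ orderOf y
    · simp [sectionFun, regInd, hy]
    · have e : ∀ χ : IrrCharacter G, sectionFun 2 (r ^ (n / 2)) b₀ (χ : G → ℂ) y =
          col S χ (r ^ (n / 2)) * common S b₀ y := fun χ => by
        rw [sectionFun, ← hbp χ y hy, regInd, if_neg hy, one_mul]
        rfl
      rw [e, e, regInd, if_neg hy, map_mul]
      ring
  obtain ⟨ξ, hξ, hξ0⟩ := exists_height_zero hM hb₀.2.1
  obtain ⟨e, he⟩ := col_z_int hR S ξ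
  have h1 := not_memLocalIdeal_subEntry hM hx hb₀ hξ hξ hξ0 hξ0
  rw [hsub, he, map_intCast, ← Int.cast_natCast, ← Int.cast_mul, ← Int.cast_mul,
    ← div_one ((Int.cast _ : ℂ)), ← Nat.cast_one, memLocalIdeal_intCast_div_iff hM one_ne_zero,
    Nat.factorization_one, Finsupp.coe_zero, Pi.zero_apply, zero_add, pow_one] at h1
  have hodd : ¬ (2 : ℤ) ∣ (blockRank 2 b₀ : ℤ) * e := fun hd2 => h1 (by
    push_cast
    rw [← mul_assoc]
    exact dvd_mul_of_dvd_left hd2 e)
  have hpow : (2 ^ blockHeight 2 B (χ : G → ℂ)).factorization 2 = blockHeight 2 B (χ : G → ℂ) := by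
    rw [Nat.Prime.factorization_pow Nat.prime_two, Finsupp.single_eq_same]
  have h2 := memLocalRing_subEntry_div hM hx hb₀ hd₀ hχ ξ
  have h3 : ¬ MemLocalIdeal M
      (subEntry 2 b₀ χ ξ 1 / ((2 ^ blockHeight 2 B (χ : G → ℂ) : ℕ) : ℂ)) :=
    fun hh => (memLocalIdeal_subEntry_div_iff hM hx hb₀ hd₀ hχ hξ).1 hh hξ0
  rw [hsub, ha, he, map_intCast, ← Int.cast_natCast, ← Int.cast_mul, ← Int.cast_mul] at h2 h3
  have h4 := pow_dvd_of_memLocalRing hM h2
  rw [memLocalIdeal_intCast_div_iff hM (pow_ne_zero _ two_ne_zero), hpow] at h3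
  rw [hpow] at h4
  push_cast at h3 h4
  have hcop : IsCoprime ((2 : ℤ) ^ blockHeight 2 B (χ : G → ℂ)) ((blockRank 2 b₀ : ℤ) * e) :=
    ((Int.prime_two.coprime_iff_not_dvd).2 hodd).pow_left
  refine ⟨fun h0 => h3 (by rw [h0]; simp), hcop.dvd_of_dvd_mul_right ?_, fun hd2 => h3 ?_⟩
  · rw [show a * ((blockRank 2 b₀ : ℤ) * e) = (blockRank 2 b₀ : ℤ) * (a * e) by ring]
    exact h4
  · exact dvd_mul_of_dvd_right (dvd_mul_of_dvd_left hd2 _) _

end CfsgLib.BlockA.IndexFour
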