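import Cfsg.Agent.Lib.BlockA.IndexFour.Control

/-!
The residual shape: a marking exists, and for the dihedral times cyclic kind an invariant subgroup
of index two avoids the outer central involution.
-/

set_option autoImplicit false
set_option linter.unusedSectionVars false
set_option linter.unusedSimpArgs false

namespace CfsgLib.BlockA.IndexFour

open Cfsg Cfsg.FusionSystem Subgroup CfsgLib.Fusion

universe u

variable {G : Type u} [Group G]

namespace Resid

variable {P : Subgroup G} {r b x : G} {n : ℕ} (hR : Resid P r b x n)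
include hR

theorem kind_two (he : eps r x = b) : x * x = 1 ∧ x * r * x⁻¹ = r⁻¹ * b := by
  rcases hR.kind with ⟨hx, h⟩ | ⟨hx, h⟩ | ⟨-, -, h⟩
  · rw [eps, h, mul_inv_cancel] at he
    exact absurd he.symm hR.b_ne_one
  · exact ⟨hx, h⟩
  · rw [eps, h, mul_inv_cancel_left] at he
    exact absurd he hR.z_ne_b

/-- The other marking in the smallest case of the second kind. -/
theorem swap (hn : n = 4) (he : eps r x = b) : Resid P (x * r) (r * r) x 4 := by
  obtain ⟨hx, hxr⟩ := hR.kind_two he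
  have hxi : x⁻¹ = x := inv_eq_of_mul_eq_one_left hx
  subst hn
  have hz : r ^ (4 / 2) = r * r := by rw [show 4 / 2 = 2 from rfl, pow_two]
  have hzne : r * r ≠ 1 := hz ▸ hR.z_ne_one
  have hz2 : r * r * (r * r) = 1 := hz ▸ hR.z_sq
  have hzx : Commute (r * r) x := hz ▸ hR.comm_z hR.x_mem
  have hsq : x * r * (x * r) = b := by
    calc x * r * (x * r) = x * r * x⁻¹ * r := by rw [hxi]; group
      _ = _ := by rw [hxr, mul_assoc, hR.comm_r.eq, inv_mul_cancel_left]
  have hmem : x * r ∉ mx r b := fun h =>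
    hR.x_not_mx (by
      have := mul_mem h (inv_mem hR.r_mem_mx)
      rwa [mul_inv_cancel_right] at this)
  have hord : orderOf (x * r) = 4 := by
    have h1 : orderOf (x * r) = 2 ^ (1 + 1) := orderOf_eq_prime_pow
      (fun h => hR.b_ne_one (by rw [← hsq, ← pow_two]; simpa using h))
      (by rw [show 2 ^ (1 + 1) = 2 * 2 from rfl, pow_mul, pow_two (x * r), hsq, pow_two, hR.b_sq])
    exact h1
  have hcases : ∀ v ∈ zpowers (x * r), v = 1 ∨ v = x * r ∨ v = b ∨ v = x * r * b := by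
    intro v hv
    obtain ⟨k, rfl⟩ := Subgroup.mem_zpowers_iff.1 hv
    have h4 : (x * r) ^ (4 : ℤ) = 1 := by
      rw [show (4 : ℤ) = ((4 : ℕ) : ℤ) from rfl, zpow_natCast, ← hord, pow_orderOf_eq_one]
    have hb2 : (x * r) ^ (2 : ℤ) = b := by rw [zpow_two, hsq]
    have hk := Int.emod_add_mul_ediv k 4
    rw [← hk, zpow_add, zpow_mul, h4, one_zpow, mul_one]
    have := Int.emod_nonneg k (show (4 : ℤ) ≠ 0 by norm_num)
    have := Int.emod_lt_of_pos k (show (0 : ℤ) < 4 by norm_num)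
    interval_cases h : k % 4
    · exact Or.inl (zpow_zero _)
    · exact Or.inr (Or.inl (zpow_one _))
    · exact Or.inr (Or.inr (Or.inl hb2))
    · refine Or.inr (Or.inr (Or.inr ?_))
      rw [show (3 : ℤ) = 1 + 2 from rfl, zpow_add, zpow_one, hb2]
  have hzmem : r * r ∈ mx r b := mul_mem hR.r_mem_mx hR.r_mem_mx
  refine ⟨⟨2, rfl⟩, le_rfl, P.mul_mem hR.x_mem hR.r_mem, P.mul_mem hR.r_mem hR.r_mem, hR.x_mem,
    hord, hz2, fun h => ?_, ?_, hzx, ⟨fun h => ?_, fun h => ?_⟩, hR.card_eq, Or.inr (Or.inl ⟨hx, ?_⟩)⟩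
  · rcases hcases _ h with e | e | e | e
    · exact hzne e
    · exact hmem (e ▸ hzmem)
    · exact hR.z_ne_b (hz.trans e)
    · refine hmem ?_
      have h1 := mul_mem (e ▸ hzmem : x * r * b ∈ mx r b) hR.b_mem_mx
      rwa [mul_assoc, hR.b_sq, mul_one] at h1
  · exact hzx.mul_right ((Commute.refl r).mul_left (Commute.refl r))
  · rcases hcases _ h with e | e | e | e
    · exact hR.x_not_mx (e ▸ one_mem _)
    · have e1 : r = 1 := mul_eq_left.1 e.symm
      exact hzne (by rw [e1, one_mul])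
    · exact hR.x_not_mx (e ▸ hR.b_mem_mx)
    · rw [mul_assoc, eq_comm, mul_eq_left] at e
      exact hR.b_not (by rw [eq_inv_of_mul_eq_one_right e]; exact inv_mem (mem_zpowers r))
  · rcases hcases _ h with e | e | e | e
    · exact hR.x_not_mx (by rw [eq_inv_of_mul_eq_one_left e]; exact inv_mem hzmem)
    · have e1 : r * r = r := mul_left_cancel e
      rw [mul_eq_left] at e1
      exact hzne (by rw [e1, one_mul])
    · refine hR.x_not_mx ?_
      have h1 := mul_mem (e.symm ▸ hR.b_mem_mx : x * (r * r) ∈ mx r b) (inv_mem hzmem)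
      rwa [mul_inv_cancel_right] at h1
    · rw [mul_assoc x r b] at e
      exact hR.b_not (mul_left_cancel (mul_left_cancel e) ▸ mem_zpowers r)
  · calc x * (x * r) * x⁻¹ = (x * x) * (r * x) := by rw [hxi]; group
      _ = r * x := by rw [hx, one_mul]
      _ = r⁻¹ * (r * r * x) := by group
      _ = _ := by rw [hzx.eq, mul_inv_rev, hxi, mul_assoc]

theorem mem_of_n_four (hn : n = 4) (he : eps r x = b) {Q : Subgroup G} (hQ : IsElem P r b n Q) :
    x ∈ Q := by
  obtain ⟨w, hw, hw'⟩ := hQ.out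
  obtain ⟨m, hm, rfl⟩ := hR.exists_outside (hQ.le hw) hw'
  obtain ⟨hx, -⟩ := hR.kind_two he
  obtain ⟨l, j, rfl⟩ := hR.mem_mx_iff.1 hm
  have h1 : x * (r ^ l * b ^ j) * x⁻¹ = (r ^ l * b ^ j)⁻¹ := by
    refine eq_inv_of_mul_eq_one_left ?_
    rw [inv_eq_of_mul_eq_one_left hx, mul_assoc]
    exact hQ.sq _ hw
  rw [hR.conj_elem, he, mul_inv_rev] at h1
  have h3 : b ^ l = 1 := by
    have hbj : (b ^ j)⁻¹ = b ^ j := by rw [← inv_pow, hR.b_inv]
    rw [hbj, ← (hR.comm_r.symm.pow_pow l j).inv_left.eq, mul_assoc, ← pow_add] at h1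
    have h2 := mul_left_cancel h1
    rw [pow_add] at h2
    exact mul_eq_right.1 h2
  have hl : Even l := by
    by_contra hodd
    obtain ⟨c, rfl⟩ := Nat.not_even_iff_odd.1 hodd
    rw [pow_succ, pow_mul, pow_two, hR.b_sq, one_pow, one_mul] at h3
    exact hR.b_ne_one h3
  have hm2 : r ^ l * b ^ j * (r ^ l * b ^ j) = 1 := by
    rw [← pow_two, (hR.comm_r.symm.pow_pow l j).mul_pow, ← pow_mul, ← pow_mul,
      (hR.pow_eq_one_iff _).2 (by obtain ⟨c, rfl⟩ := hl; subst hn; exact ⟨c, by ring⟩), one_mul,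
      mul_comm j 2, pow_mul, pow_two, hR.b_sq, one_pow]
  have hmQ : r ^ l * b ^ j ∈ Q := by
    rcases hR.eq_z_of_sq hm hm2 with e | e | e | e <;> rw [e]
    exacts [one_mem Q, hQ.z_mem, hQ.b_mem, mul_mem hQ.b_mem hQ.z_mem]
  have := mul_mem hw (inv_mem hmQ)
  rwa [mul_inv_cancel_right] at this

variable {F : FusionSystem P} (hF : F.IsSaturated 2)
include hF

/-- **A marking exists.** -/
theorem exists_marked : ∃ r' b' x', Resid P r' b' x' n ∧ Marked P r' b' n F := by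
  rcases hR.ctr_cases with hc | ⟨hn, he, hc⟩
  · exact ⟨r, b, x, hR, hR.marked_of_ctr hF hc⟩
  by_cases hm : Marked P r b n F
  · exact ⟨r, b, x, hR, hm⟩
  subst hn
  have hR' := hR.swap rfl he
  refine ⟨x * r, r * r, x, hR', fun Q' hQ' β hβ hβo hβfix => ?_⟩
  by_contra hβ1
  simp only [Marked, not_forall] at hm
  obtain ⟨Q, hQ, α, hα, hαo, hαfix, hα1⟩ := hm
  have hz : r ^ (4 / 2) = r * r := by rw [show 4 / 2 = 2 from rfl, pow_two]
  obtain ⟨hx, hxr⟩ := hR.kind_two he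
  have hsq : (x * r) ^ (4 / 2) = b := by
    rw [show 4 / 2 = 2 from rfl, pow_two]
    calc x * r * (x * r) = x * r * x⁻¹ * r := by rw [inv_eq_of_mul_eq_one_left hx]; group
      _ = _ := by rw [hxr, mul_assoc, hR.comm_r.eq, inv_mul_cancel_left]
  have hE : IsElem P r b 4 Q' := by
    refine ⟨hQ'.le, hz ▸ hQ'.b_mem, hsq ▸ hQ'.z_mem, hQ'.sq, ?_⟩
    by_contra hno
    push Not at hno
    have h8 := hR'.elem_card hQ'
    classical
    have hle : Nat.card Q' ≤ ({1, r ^ (4 / 2), b, b * r ^ (4 / 2)} : Finset G).card := by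
      rw [← Nat.card_eq_finsetCard]
      refine Nat.card_le_card_of_injective (fun q => ⟨(q : G), ?_⟩)
        fun a c h => Subtype.ext (congrArg (fun t => t.1) h)
      rcases hR.eq_z_of_sq (hno q q.2) (hQ'.sq q q.2) with e | e | e | e <;> simp [e]
    have := hle.trans Finset.card_le_four
    omega
  obtain rfl : Q' = Q := by
    ext q
    rw [hR.elem_iff hE (hR.mem_of_n_four rfl he hE) hR.x_not_mx,
      hR.elem_iff hQ (hR.mem_of_n_four rfl he hQ) hR.x_not_mx]
  obtain ⟨τ, u', b', hu, hb, hD⟩ := hR.exists_cube hF hQ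
  let z' : Q' := ⟨_, hQ.z_mem⟩
  have hbu : b' * u' = z' := Subtype.ext (by
    push_cast
    rw [hb, hu, hc, ← mul_assoc, hR.b_sq, one_mul])
  have hC' : CubeData (F.autGroup Q') τ u' z' :=
    ⟨hD.sq_one, hD.card_eq, hD.u_ne,
      ⟨fun h => hR.z_ne_one (congrArg Subtype.val h), fun h => hR.bz_ne.2.1 (by
        rw [← hc, ← hu, ← h])⟩,
      hD.tau_mem, hD.tau_u, by rw [← hbu, map_mul, hD.tau_b, hD.tau_u],
      fun y h1 h2 h3 h4 => hD.tau_out y h1 h2 (fun e => h4 (by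
        rw [e, ← hbu, mul_assoc, hD.sq_one, mul_one]))
        (fun e => h3 (e.trans hbu)),
      hD.small⟩
  rcases hC'.eq_one_of_two_fix hα hαo (hαfix z' rfl) hβ hβo (by
      rw [← hbu, mul_assoc, hD.sq_one, mul_one]
      exact hβfix b' (hb.trans hsq.symm)) with h | h
  · exact hα1 h
  · exact hβ1 h

/-- **An invariant subgroup of index two for the first kind.** -/
theorem exists_index_two (he : eps r x = 1) :
    ∃ K : Subgroup G, K ≤ P ∧ r ^ (n / 2) ∈ K ∧ b ∉ K ∧ (∀ q ∈ P, q * b ∈ K ↔ q ∉ K) ∧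
      ∀ (R : Subgroup G) (f : G → G), IsMap F R f → ∀ y ∈ R, f y ∈ K ↔ y ∈ K := by
  have := hR.finite
  obtain ⟨hx, hxr⟩ : x * x = 1 ∧ x * r * x⁻¹ = r⁻¹ := by
    rcases hR.kind with h | ⟨-, h⟩ | ⟨-, -, h⟩
    · exact h
    · rw [eps, h, mul_inv_cancel_left] at he
      exact absurd he hR.b_ne_one
    · rw [eps, h, mul_inv_cancel_left] at he
      exact absurd he hR.z_ne_one
  have hxi : x⁻¹ = x := inv_eq_of_mul_eq_one_left hx
  have hbz : b * r ^ (n / 2) = r ^ (n / 2) * b := (hR.comm_z hR.b_mem).symm.eq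
  -- the candidate through `x * r ^ i`
  have hcand : ∀ i : ℕ, ∃ Q : Subgroup G, IsElem P r b n Q ∧ x * r ^ i ∈ Q := by
    intro i
    have hwP : x * r ^ i ∈ P := P.mul_mem hR.x_mem (P.pow_mem hR.r_mem i)
    have hwout : x * r ^ i ∉ mx r b := fun h => hR.x_not_mx (by
      have := mul_mem h (inv_mem (pow_mem hR.r_mem_mx i))
      rwa [mul_inv_cancel_right] at this)
    have hw2 : x * r ^ i * (x * r ^ i) = 1 := by
      calc x * r ^ i * (x * r ^ i) = x * r ^ i * x⁻¹ * r ^ i := by rw [hxi]; group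
        _ = 1 := by rw [hR.conj_r_pow, he, one_pow, mul_one, inv_mul_cancel]
    have hgen : ∀ q ∈ ({r ^ (n / 2), b, x * r ^ i} : Set G), ∀ v ∈ P, v ∈ ({r ^ (n / 2), b, x * r ^ i} : Set G) →
        q * v = v * q := by
      rintro q (rfl | rfl | rfl) v hv hv'
      · exact (hR.comm_z hv).eq
      · exact (hR.comm_b hv).eq
      · rcases hv' with rfl | rfl | rfl
        · exact (hR.comm_z hwP).symm.eq
        · exact (hR.comm_b hwP).symm.eq
        · rfl
    set S : Set G := {r ^ (n / 2), b, x * r ^ i} with hS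
    have hSP : S ⊆ P := by
      rintro q (rfl | rfl | rfl)
      exacts [hR.z_mem, hR.b_mem, hwP]
    refine ⟨Subgroup.closure S, ⟨(Subgroup.closure_le P).2 hSP, Subgroup.subset_closure (by simp [hS]),
      Subgroup.subset_closure (by simp [hS]), fun q hq => ?_,
      ⟨_, Subgroup.subset_closure (by simp [hS]), hwout⟩⟩, Subgroup.subset_closure (by simp [hS])⟩
    have hcomm := Subgroup.isMulCommutative_closure (k := S)
      fun a ha c hc => hgen a ha c (hSP hc) hc
    induction hq using Subgroup.closure_induction with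
    | mem q hq =>
      rcases hq with rfl | rfl | rfl
      exacts [hR.z_sq, hR.b_sq, hw2]
    | one => exact one_mul 1
    | mul a c ha hc iha ihc =>
      have h1 : a * c = c * a :=
        congrArg Subtype.val (hcomm.is_comm.comm (⟨a, ha⟩ : Subgroup.closure S) ⟨c, hc⟩)
      calc a * c * (a * c) = a * (c * a) * c := by group
        _ = a * a * (c * c) := by rw [← h1]; group
        _ = 1 := by rw [iha, ihc, one_mul]
    | inv a _ iha => rw [← mul_inv_rev, iha, inv_one]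
  -- the invariant four-groups
  have hW : ∀ i : ℕ, ∃ m, m ∈ mx r b ∧ m * m = 1 ∧ ∃ Q : Subgroup G, IsElem P r b n Q ∧
      x * r ^ i ∈ Q ∧ ∀ α ∈ F.autGroup Q, ∀ q : Q,
        ((q : G) = 1 ∨ (q : G) = r ^ (n / 2) ∨ (q : G) = x * r ^ i * m ∨
          (q : G) = x * r ^ i * m * r ^ (n / 2)) →
        ((α q : G) = 1 ∨ (α q : G) = r ^ (n / 2) ∨ (α q : G) = x * r ^ i * m ∨
          (α q : G) = x * r ^ i * m * r ^ (n / 2)) := by
    intro i
    obtain ⟨Q, hQ, hwQ⟩ := hcand i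
    obtain ⟨τ, u', b', hu, hb, hD⟩ := hR.exists_cube hF hQ
    have hu' : (u' : G) = r ^ (n / 2) := by
      rw [hu, hR.ctr_eq, he, one_pow, mul_one]
    obtain ⟨y, hy1, hyu, hyb, hybu, hinv⟩ := hD.exists_invariant
    have hwout : x * r ^ i ∉ mx r b := fun h => hR.x_not_mx (by
      have := mul_mem h (inv_mem (pow_mem hR.r_mem_mx i))
      rwa [mul_inv_cancel_right] at this)
    rcases (hR.elem_iff hQ hwQ hwout y).1 y.2 with ⟨h1, h2⟩ | ⟨h1, h2⟩
    · rcases hR.eq_z_of_sq h1 h2 with e | e | e | e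
      · exact absurd (Subtype.ext e) hy1
      · exact absurd (Subtype.ext (e.trans hu'.symm)) hyu
      · exact absurd (Subtype.ext (e.trans hb.symm)) hyb
      · refine absurd (Subtype.ext ?_) hybu
        rw [e]; push_cast; rw [hb, hu']
    refine ⟨_, h1, h2, Q, hQ, hwQ, fun α hα q hq => ?_⟩
    have ey : x * r ^ i * ((x * r ^ i)⁻¹ * (y : G)) = y := by rw [mul_inv_cancel_left]
    simp only [ey] at hq ⊢
    have hcv : ∀ e : Q, (e = 1 ∨ e = u' ∨ e = y ∨ e = y * u') ↔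
        ((e : G) = 1 ∨ (e : G) = r ^ (n / 2) ∨ (e : G) = y ∨ (e : G) = y * r ^ (n / 2)) := fun e => by
      simp only [Subtype.ext_iff, Subgroup.coe_one, Subgroup.coe_mul, hu']
    exact (hcv _).1 (hinv α hα q ((hcv q).2 hq))
  obtain ⟨m₀, hm₀, hm₀2, Q₀, hQ₀, hwQ₀, hinv₀⟩ := hW 0
  obtain ⟨m₁, hm₁, hm₁2, Q₁, hQ₁, hwQ₁, hinv₁⟩ := hW 1
  -- the rotation and the reflection
  set e := m₀ * m₁ with hedef
  have he2 : e * e = 1 := by
    calc e * e = m₀ * (m₁ * m₀) * m₁ := by rw [hedef]; group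
      _ = m₀ * m₀ * (m₁ * m₁) := by rw [(hR.comm_mx hm₁ hm₀).eq]; group
      _ = 1 := by rw [hm₀2, hm₁2, one_mul]
  have hemx : e ∈ mx r b := mul_mem hm₀ hm₁
  set s := r * e with hsdef
  set y₀ := x * r ^ 0 * m₀ with hy₀def
  have hy₀' : y₀ = x * m₀ := by rw [hy₀def, pow_zero, mul_one]
  have hconjZ : ∀ m, m ∈ mx r b → m * m = 1 → x * m * x⁻¹ = m := fun m hm h2 => by
    have hc : Commute x m := by
      rcases hR.eq_z_of_sq hm h2 with q | q | q | q <;> rw [q]
      exacts [Commute.one_right x, (hR.comm_z hR.x_mem).symm, hR.comm_x.symm,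
        hR.comm_x.symm.mul_right (hR.comm_z hR.x_mem).symm]
    rw [hc.eq, mul_inv_cancel_right]
  have hsmem : s ∈ mx r b := mul_mem hR.r_mem_mx hemx
  have hy₀out : y₀ ∉ mx r b := fun h => hR.x_not_mx (by
    rw [hy₀'] at h
    have := mul_mem h (inv_mem hm₀)
    rwa [mul_inv_cancel_right] at this)
  have hy₀P : y₀ ∈ P := by rw [hy₀']; exact P.mul_mem hR.x_mem (hR.mx_le hm₀)
  have hy₀2 : y₀ * y₀ = 1 := by
    rw [hy₀']
    calc x * m₀ * (x * m₀) = x * m₀ * x⁻¹ * m₀ := by rw [hxi]; group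
      _ = 1 := by rw [hconjZ m₀ hm₀ hm₀2, hm₀2]
  have hflip : y₀ * s * y₀⁻¹ = s⁻¹ := by
    rw [hR.conj_outside hy₀P hy₀out hsmem, hsdef]
    calc x * (r * e) * x⁻¹ = x * r * x⁻¹ * (x * e * x⁻¹) := by group
      _ = r⁻¹ * e := by rw [hxr, hconjZ e hemx he2]
      _ = (r * e)⁻¹ := by
        rw [mul_inv_rev, inv_eq_of_mul_eq_one_left he2,
          (hR.comm_mx (inv_mem hR.r_mem_mx) hemx).eq]
  have hflipz : ∀ a : ℤ, s ^ a * y₀ = y₀ * s ^ (-a) := fun a => by
    have h1 : y₀ * s ^ (-a) * y₀⁻¹ = s ^ a := by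
      rw [← _root_.conj_zpow, hflip, inv_zpow, ← zpow_neg, neg_neg]
    rw [← h1, inv_mul_cancel_right]
  let K : Subgroup G :=
    { carrier := {q | ∃ a : ℤ, q = s ^ a ∨ q = y₀ * s ^ a}
      one_mem' := ⟨0, Or.inl (zpow_zero s).symm⟩
      mul_mem' := by
        rintro p q ⟨a, rfl | rfl⟩ ⟨c, rfl | rfl⟩
        · exact ⟨a + c, Or.inl (zpow_add s a c).symm⟩
        · exact ⟨-a + c, Or.inr (by rw [← mul_assoc, hflipz, mul_assoc, ← zpow_add])⟩
        · exact ⟨a + c, Or.inr (by rw [mul_assoc, ← zpow_add])⟩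
        · refine ⟨-a + c, Or.inl ?_⟩
          rw [mul_assoc, ← mul_assoc (s ^ a), hflipz, mul_assoc y₀, ← mul_assoc y₀, hy₀2, one_mul,
            ← zpow_add]
      inv_mem' := by
        rintro p ⟨a, rfl | rfl⟩
        · exact ⟨-a, Or.inl (zpow_neg s a).symm⟩
        · refine ⟨a, Or.inr ?_⟩
          rw [mul_inv_rev, inv_eq_of_mul_eq_one_left hy₀2, ← zpow_neg, hflipz, neg_neg] }
  have hsP : s ∈ P := hR.mx_le hsmem
  have hKP : K ≤ P := by
    rintro q ⟨a, rfl | rfl⟩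
    exacts [zpow_mem hsP a, P.mul_mem hy₀P (zpow_mem hsP a)]
  have hsK : s ∈ K := ⟨1, Or.inl (zpow_one s).symm⟩
  have hy₀K : y₀ ∈ K := ⟨0, Or.inr (by rw [zpow_zero, mul_one])⟩
  have hzK : r ^ (n / 2) ∈ K := by
    obtain ⟨c, hc⟩ : 2 ∣ n / 2 := by have := hR.four_dvd; omega
    have h1 : s ^ (n / 2) = r ^ (n / 2) := by
      rw [hsdef, (hR.comm_mx hR.r_mem_mx hemx).mul_pow, hc, pow_mul e, pow_two, he2, one_pow,
        mul_one]
    exact h1 ▸ pow_mem hsK _
  have hbK : b ∉ K := by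
    rintro ⟨a, h | h⟩
    · have h1 : b = r ^ a * e ^ a := by
        rw [h, hsdef, (hR.comm_mx hR.r_mem_mx hemx).mul_zpow]
      rcases Int.even_or_odd' a with ⟨c, rfl | rfl⟩
      · rw [zpow_mul e, zpow_two, he2, one_zpow, mul_one] at h1
        exact hR.b_not (h1 ▸ zpow_mem_zpowers r _)
      · rw [zpow_add e, zpow_mul e, zpow_two, he2, one_zpow, one_mul, zpow_one] at h1
        have h2 : r ^ (2 * c + 1) = b * e := by rw [h1, mul_assoc, he2, mul_one]
        have h3 : r ^ (2 * c + 1) * r ^ (2 * c + 1) = 1 := by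
          rw [h2]
          calc b * e * (b * e) = b * b * (e * e) := by
                rw [mul_assoc, ← mul_assoc e b, (hR.comm_mx hemx hR.b_mem_mx).eq]; group
            _ = 1 := by rw [hR.b_sq, he2, one_mul]
        rw [← zpow_add, ← orderOf_dvd_iff_zpow_eq_one, hR.orderOf_r] at h3
        have h4 : (4 : ℤ) ∣ 2 * c + 1 + (2 * c + 1) :=
          (Int.natCast_dvd_natCast.2 hR.four_dvd).trans h3
        omega
    · refine hy₀out ?_
      have h5 := mul_mem (h ▸ hR.b_mem_mx : y₀ * s ^ a ∈ mx r b) (inv_mem (zpow_mem hsmem a))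
      rwa [mul_inv_cancel_right] at h5
  -- the two cosets
  have hcov : ∀ q ∈ P, q ∈ K ∨ q * b ∈ K := by
    have hZ : ∀ m, m ∈ mx r b → m * m = 1 → m ∈ K ∨ m * b ∈ K := fun m hm h2 => by
      rcases hR.eq_z_of_sq hm h2 with q | q | q | q <;> rw [q]
      · exact Or.inl (one_mem K)
      · exact Or.inl hzK
      · exact Or.inr (by rw [hR.b_sq]; exact one_mem K)
      · exact Or.inr (by rw [hbz, mul_assoc, hR.b_sq, mul_one]; exact hzK)
    intro q hq
    have hmul : ∀ p q : G, q ∈ P → (p ∈ K ∨ p * b ∈ K) → (q ∈ K ∨ q * b ∈ K) →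
        (p * q ∈ K ∨ p * q * b ∈ K) := by
      rintro p q hqP (hp | hp) (hq | hq)
      · exact Or.inl (mul_mem hp hq)
      · exact Or.inr (by rw [mul_assoc]; exact mul_mem hp hq)
      · refine Or.inr ?_
        have := mul_mem hp hq
        rwa [mul_assoc, (hR.comm_b hqP).eq, ← mul_assoc] at this
      · refine Or.inl ?_
        have := mul_mem hp hq
        have e1 : p * b * (q * b) = p * q := by
          rw [← mul_assoc, mul_assoc p b q, (hR.comm_b hqP).eq, ← mul_assoc, mul_assoc, hR.b_sq,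
            mul_one]
        rwa [e1] at this
    have hrK : r ∈ K ∨ r * b ∈ K := by
      have := hmul s e (hR.mx_le hemx) (Or.inl hsK) (hZ e hemx he2)
      rwa [hsdef, mul_assoc r e e, he2, mul_one] at this
    have hxK : x ∈ K ∨ x * b ∈ K := by
      have := hmul y₀ m₀ (hR.mx_le hm₀) (Or.inl hy₀K) (hZ m₀ hm₀ hm₀2)
      rwa [hy₀', mul_assoc x m₀ m₀, hm₀2, mul_one] at this
    have hrpow : ∀ l : ℕ, r ^ l ∈ K ∨ r ^ l * b ∈ K := by
      intro l
      induction l with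
      | zero => rw [pow_zero]; exact Or.inl (one_mem K)
      | succ l ih => rw [pow_succ]; exact hmul _ _ hR.r_mem ih hrK
    have hmxK : ∀ q ∈ mx r b, q ∈ K ∨ q * b ∈ K := fun q hq => by
      obtain ⟨l, j, rfl⟩ := hR.mem_mx_iff.1 hq
      refine hmul _ _ (P.pow_mem hR.b_mem j) (hrpow l) ?_
      rcases hR.b_pow j with e' | e' <;> rw [e']
      exacts [Or.inl (one_mem K), Or.inr (by rw [hR.b_sq]; exact one_mem K)]
    by_cases hq' : q ∈ mx r b
    · exact hmxK q hq'
    · obtain ⟨m, hm, rfl⟩ := hR.exists_outside hq hq'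
      exact hmul _ _ (hR.mx_le hm) hxK (hmxK m hm)
  have hiff : ∀ q ∈ P, q * b ∈ K ↔ q ∉ K := fun q hq =>
    ⟨fun h h' => hbK (by
      have := mul_mem (inv_mem h') h
      rwa [inv_mul_cancel_left] at this), fun h => (hcov q hq).resolve_left h⟩
  have hnorm : ∀ t ∈ P, ∀ q ∈ P, t * q * t⁻¹ ∈ K ↔ q ∈ K := by
    intro t ht q hq
    rcases hcov t ht with h | h
    · constructor <;> intro h'
      · have := mul_mem (mul_mem (inv_mem h) h') h
        simpa [mul_assoc] using this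
      · exact mul_mem (mul_mem h h') (inv_mem h)
    · have e1 : t * q * t⁻¹ = t * b * q * (t * b)⁻¹ := by
        rw [mul_inv_rev, mul_assoc t b q, (hR.comm_b hq).eq]
        group
      rw [e1]
      constructor <;> intro h'
      · have := mul_mem (mul_mem (inv_mem h) h') h
        simpa [mul_assoc] using this
      · exact mul_mem (mul_mem h h') (inv_mem h)
  refine ⟨K, hKP, hzK, hbK, hiff, fun R f hf y hy => ?_⟩
  -- the trace on the two chosen candidates
  have hW0 : ∀ (i : ℕ) (m : G), m ∈ mx r b → m * m = 1 → x * r ^ i * m ∈ K → ∀ Q : Subgroup G,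
      IsElem P r b n Q → x * r ^ i ∈ Q → ∀ q ∈ Q, q ∈ K ↔ (q = 1 ∨ q = r ^ (n / 2) ∨
        q = x * r ^ i * m ∨ q = x * r ^ i * m * r ^ (n / 2)) := by
    intro i m hm hm2 hy1 Q hQ hwQ q hq
    set y := x * r ^ i * m with hydef
    have hy' : y ∉ mx r b := fun h => hR.x_not_mx (by
      have := mul_mem (mul_mem h (inv_mem hm)) (inv_mem (pow_mem hR.r_mem_mx i))
      rwa [hydef, mul_inv_cancel_right, mul_inv_cancel_right] at this)
    have hyQ : y ∈ Q := by
      refine mul_mem hwQ ?_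
      rcases hR.eq_z_of_sq hm hm2 with q' | q' | q' | q' <;> rw [q']
      exacts [one_mem Q, hQ.z_mem, hQ.b_mem, mul_mem hQ.b_mem hQ.z_mem]
    constructor
    · intro hqK
      rcases (hR.elem_iff hQ hyQ hy' q).1 hq with ⟨h1, h2⟩ | ⟨h1, h2⟩
      · rcases hR.eq_z_of_sq h1 h2 with q' | q' | q' | q'
        · exact Or.inl q'
        · exact Or.inr (Or.inl q')
        · exact absurd (q' ▸ hqK) hbK
        · refine absurd ?_ hbK
          have := mul_mem (q' ▸ hqK : b * r ^ (n / 2) ∈ K) hzK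
          rwa [mul_assoc, hR.z_sq, mul_one] at this
      · have h3 : y⁻¹ * q ∈ K := mul_mem (inv_mem hy1) hqK
        have e0 : q = y * (y⁻¹ * q) := by rw [mul_inv_cancel_left]
        rcases hR.eq_z_of_sq h1 h2 with q' | q' | q' | q' <;> rw [q'] at h3 e0
        · exact Or.inr (Or.inr (Or.inl (by rw [e0, mul_one])))
        · exact Or.inr (Or.inr (Or.inr e0))
        · exact absurd h3 hbK
        · refine absurd ?_ hbK
          have := mul_mem h3 hzK
          rwa [mul_assoc, hR.z_sq, mul_one] at this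
    · rintro (rfl | rfl | rfl | rfl)
      exacts [one_mem K, hzK, hy1, mul_mem hy1 hzK]
  have hy₁K : x * r ^ 1 * m₁ ∈ K := by
    have e1 : x * r ^ 1 * m₁ = y₀ * s := by
      rw [hy₀', hsdef, hedef, pow_one]
      calc x * r * m₁ = x * (r * (m₀ * m₀)) * m₁ := by rw [hm₀2, mul_one]
        _ = x * (m₀ * r * m₀) * m₁ := by
            rw [← mul_assoc r, (hR.comm_mx hR.r_mem_mx hm₀).eq]
        _ = _ := by group
    exact e1 ▸ mul_mem hy₀K hsK
  refine hR.invariant hF (K : Set G) (fun t ht q hq => hnorm t ht q hq) (fun Q hQ α hα q => ?_) hf hy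
  obtain ⟨w, hw, hw'⟩ := hQ.out
  obtain ⟨m, hm, rfl⟩ := hR.exists_outside (hQ.le hw) hw'
  obtain ⟨l, j, rfl⟩ := hR.mem_mx_iff.1 hm
  obtain ⟨k, i, hi, rfl⟩ : ∃ k i, i ≤ 1 ∧ l = 2 * k + i :=
    ⟨l / 2, l % 2, by omega, by omega⟩
  obtain ⟨mi, hmi, hmi2, Qi, hQi, hwQi, hinvi, hKi⟩ : ∃ mi, mi ∈ mx r b ∧ mi * mi = 1 ∧
      ∃ Qi : Subgroup G, IsElem P r b n Qi ∧ x * r ^ i ∈ Qi ∧
        (∀ α ∈ F.autGroup Qi, ∀ q : Qi,
        ((q : G) = 1 ∨ (q : G) = r ^ (n / 2) ∨ (q : G) = x * r ^ i * mi ∨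
          (q : G) = x * r ^ i * mi * r ^ (n / 2)) →
        ((α q : G) = 1 ∨ (α q : G) = r ^ (n / 2) ∨ (α q : G) = x * r ^ i * mi ∨
          (α q : G) = x * r ^ i * mi * r ^ (n / 2))) ∧ x * r ^ i * mi ∈ K := by
    interval_cases i
    · exact ⟨m₀, hm₀, hm₀2, Q₀, hQ₀, hwQ₀, hinv₀, hy₀K⟩
    · exact ⟨m₁, hm₁, hm₁2, Q₁, hQ₁, hwQ₁, hinv₁, hy₁K⟩
  -- conjugate onto the chosen candidate
  set t := r ^ k with htdef
  have htP : t ∈ P := P.pow_mem hR.r_mem k
  have htw : t * (x * (r ^ (2 * k + i) * b ^ j)) * t⁻¹ = x * r ^ i * b ^ j := by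
    have h1 : x⁻¹ * t * x = t⁻¹ := by
      have := hR.conj_r_pow k
      rw [he, one_pow, mul_one] at this
      rw [htdef, hxi]
      rwa [hxi] at this
    calc t * (x * (r ^ (2 * k + i) * b ^ j)) * t⁻¹
        = x * ((x⁻¹ * t * x) * (r ^ (2 * k + i) * b ^ j * t⁻¹)) := by group
      _ = x * (t⁻¹ * (r ^ (2 * k + i) * b ^ j * t⁻¹)) := by rw [h1]
      _ = x * (r ^ i * b ^ j) := by
        congr 1
        rw [mul_assoc (r ^ (2 * k + i)), (hR.comm_mx (pow_mem hR.b_mem_mx j)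
          (inv_mem (pow_mem hR.r_mem_mx k))).eq, ← mul_assoc, ← mul_assoc, htdef]
        congr 1
        group
      _ = _ := by rw [mul_assoc]
  have hcs : conjSub t Q = Qi := by
    have hE : IsElem P r b n (conjSub t Q) :=
      hR.elem_of_isConj hF hQ (by rw [← img_conj]; exact (isMap_conj F hQ.le htP).isConj)
    have hbjQ : ∀ {T : Subgroup G}, IsElem P r b n T → b ^ j ∈ T := fun hT => pow_mem hT.b_mem j
    have hwE : x * r ^ i ∈ conjSub t Q := by
      have h1 := mul_mem (htw ▸ conj_mem_conjSub (g := t) hw) (inv_mem (hbjQ hE))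
      rwa [mul_inv_cancel_right] at h1
    have hwout : x * r ^ i ∉ mx r b := fun h => hR.x_not_mx (by
      have := mul_mem h (inv_mem (pow_mem hR.r_mem_mx i))
      rwa [mul_inv_cancel_right] at this)
    ext v
    rw [hR.elem_iff hE hwE hwout, hR.elem_iff hQi hwQi hwout]
  have hcm := isMap_conj F hQ.le htP
  have himg : img Q (fun v => t * v * t⁻¹) = Qi := by rw [img_conj, hcs]
  set φ := hcm.equivImg.trans (MulEquiv.subgroupCongr himg) with hφ
  have hφx : ∀ v : Q, (φ v : G) = t * (v : G) * t⁻¹ := fun v => rfl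
  have hα' : MulAut.congr φ α ∈ F.autGroup Qi := by
    subst himg
    exact hcm.congr_mem_autGroup hα
  have e2 := hW0 i mi hmi hmi2 hKi Qi hQi hwQi
  have hmaps : ∀ v : Q, (v : G) ∈ K → (α v : G) ∈ K := fun v hv => by
    have e1 : ((MulAut.congr φ α) (φ v) : G) = t * (α v : G) * t⁻¹ := by
      show (φ (α (φ.symm (φ v))) : G) = _
      rw [MulEquiv.symm_apply_apply, hφx]
    have h1 : (φ v : G) ∈ K := hφx v ▸ (hnorm t htP _ (hQ.le v.2)).2 hv
    have h2 := (e2 _ ((MulAut.congr φ α) (φ v)).2).2 (hinvi _ hα' (φ v) ((e2 _ (φ v).2).1 h1))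
    exact (hnorm t htP _ (hQ.le (α v).2)).1 (e1 ▸ h2)
  refine ⟨fun h => ?_, hmaps q⟩
  have := finite_of_le hQ.le
  let S : Set Q := {v | (v : G) ∈ K}
  have hbij := ((Set.toFinite S).injOn_iff_bijOn_of_mapsTo
    (show Set.MapsTo α S S from hmaps)).1 α.injective.injOn
  obtain ⟨v, hv, hv'⟩ := hbij.surjOn (show α q ∈ S from h)
  exact (α.injective hv') ▸ hv

end Resid

end CfsgLib.BlockA.IndexFour
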