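import Cfsg.Agent.Lib.BlockA.IndexFour.Marking
import Cfsg.Agent.Lib.BlockA.DihedralCentral

/-!
A block with marked residual defect group: the block below the maximal pair at the central
involution is nilpotent.
-/

set_option autoImplicit false
set_option linter.unusedSectionVars false
set_option maxHeartbeats 1000000

namespace CfsgLib.BlockA.IndexFour

open Cfsg CfsgLib.Block CfsgLib.BlockA CfsgLib.BlockB CfsgLib.BlockB.HeightBound MonoidAlgebra
  CfsgLib.Fusion Cfsg.FusionSystem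

universe u

variable {G : Type u} [Group G]

local notation "cen" Q => Subgroup.centralizer ((Q : Subgroup G) : Set G)

/-- The centralizer of the central involution. -/
abbrev cz (r : G) (n : ℕ) : Subgroup G := Subgroup.centralizer ({r ^ (n / 2)} : Set G)

namespace Resid

variable {P : Subgroup G} {r b x : G} {n : ℕ} (hR : Resid P r b x n)
include hR

theorem le_cz : P ≤ cz r n := fun _ hw =>
  Subgroup.mem_centralizer_singleton_iff.2 (hR.comm_z hw).symm.eq

/-- The residual shape read in a subgroup containing it. -/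
theorem subgroupOf {H : Subgroup G} (hle : P ≤ H) :
    Resid (P.subgroupOf H) (⟨r, hle hR.r_mem⟩ : H) ⟨b, hle hR.b_mem⟩ ⟨x, hle hR.x_mem⟩ n := by
  have hmem : ∀ w : H, w ∈ Subgroup.zpowers (⟨r, hle hR.r_mem⟩ : H) ↔
      (w : G) ∈ Subgroup.zpowers r := fun w => by
    simp only [Subgroup.mem_zpowers_iff, Subtype.ext_iff]
    push_cast
    rfl
  exact
    { two_pow := hR.two_pow
      four_le := hR.four_le
      r_mem := hR.r_mem
      b_mem := hR.b_mem
      x_mem := hR.x_mem
      orderOf_r := by rw [Subgroup.orderOf_mk, hR.orderOf_r]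
      b_sq := Subtype.ext hR.b_sq
      b_not := fun h => hR.b_not ((hmem _).1 h)
      comm_r := Subtype.ext hR.comm_r.eq
      comm_x := Subtype.ext hR.comm_x.eq
      x_not := ⟨fun h => hR.x_not.1 ((hmem _).1 h), fun h => hR.x_not.2 ((hmem _).1 h)⟩
      card_eq := by rw [Nat.card_congr (Subgroup.subgroupOfEquivOfLe hle).toEquiv, hR.card_eq]
      kind := by
        rcases hR.kind with ⟨h1, h2⟩ | ⟨h1, h2⟩ | ⟨h0, h1, h2⟩
        · exact Or.inl ⟨Subtype.ext h1, Subtype.ext h2⟩
        · exact Or.inr (Or.inl ⟨Subtype.ext h1, Subtype.ext h2⟩)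
        · exact Or.inr (Or.inr ⟨h0, Subtype.ext h1, Subtype.ext (by push_cast; exact h2)⟩) }

theorem mem_mx_subgroupOf {H : Subgroup G} (hle : P ≤ H) (w : H) :
    w ∈ mx (⟨r, hle hR.r_mem⟩ : H) ⟨b, hle hR.b_mem⟩ ↔ (w : G) ∈ mx r b := by
  rw [(hR.subgroupOf hle).mem_mx_iff, hR.mem_mx_iff]
  simp only [Subtype.ext_iff]
  push_cast
  rfl

variable [Finite G] {M : Ideal AlgInt} [M.IsPrime] {B : Set (IrrCharacter G)}
  {c : Set (IrrCharacter (Subgroup.centralizer (P : Set G)))}
  (hM : IsPModular 2 M) (hmax : IsMaximalBrauerPair 2 M B P c)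
include hM hmax

/-- **The block at the central involution is nilpotent.** -/
theorem exists_nilpotent_central (hPD : IsDefectGroup 2 M B P)
    (hmark : Marked P r b n (blockFusion hM hmax.1.1)) :
    ∃ (g : Set (IrrCharacter (cz r n))) (hc : CenEq (P.subgroupOf (cz r n)) P),
      IsInducedBlock M (cz r n) g B ∧
      IsMaximalBrauerPair 2 M g (P.subgroupOf (cz r n)) (subBlock hc c) ∧
      IsNilpotentBlock 2 M g := by
  classical
  have := Fact.mk hM.1
  have := Fintype.ofFinite G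
  have hz : r ^ (n / 2) ∈ P := hR.z_mem
  have hle : P ≤ cz r n := hR.le_cz
  obtain ⟨g, hc, hind, hmax'⟩ := DihedralDefect.exists_central_data hM hmax hPD
    (Subgroup.zpowers_le.2 hz) (by rw [cen_zpowers]; exact hle)
    (H := cz r n) (cen_zpowers (r ^ (n / 2))).symm
  have hR' := hR.subgroupOf hle
  have hF := isBlockFusionSystemOn_blockFusion hM hmax'
  have hFG := isBlockFusionSystemOn_blockFusion hM hmax
  refine ⟨g, hc, hind, hmax', nilpotent_of_inner hM hF fun Q => ?_⟩
  rw [hR'.eq_inner (isSaturated_block hM hF) ?_ ?_]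
  · intro Q hQle α hα q hq
    obtain ⟨-, t, ht, -⟩ := (CfsgLib.BlockA.isMap_iff hM hF).1 (isMap_of_autGroup hQle hα)
    refine Subtype.ext ?_
    rw [← toFun_aut_apply α q.2, ht q q.2, hq]
    refine Subtype.ext ?_
    push_cast
    rw [Subgroup.mem_centralizer_singleton_iff.1 t.2, mul_inv_cancel_right]
  · -- an odd automorphism in the centralizer is one of the whole group
    intro Q hQ α hα hodd hfix
    obtain ⟨-, t, ht, hfus⟩ := (CfsgLib.BlockA.isMap_iff hM hF).1 (isMap_of_autGroup hQ.le hα)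
    have hαt : ∀ q : Q, ((α q : Q) : (cz r n)) = t * (q : (cz r n)) * t⁻¹ := fun q => by
      rw [← toFun_aut_apply α q.2, ht q q.2]
    set Q₀ : Subgroup G := Q.map (cz r n).subtype with hQ₀
    have hQ₀H : Q₀ ≤ (cz r n) := Subgroup.map_subtype_le Q
    have hsub : Q₀.subgroupOf (cz r n) = Q := by
      rw [hQ₀, Subgroup.subgroupOf, Subgroup.comap_map_eq_self_of_injective (cz r n).subtype_injective]
    have hQ₀P : Q₀ ≤ P := by
      rintro _ ⟨q, hq, rfl⟩
      exact hQ.le hq
    have hzQ : r ^ (n / 2) ∈ Q₀ := ⟨_, hQ.z_mem, by simp⟩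
    have hC : (cen Q₀) ≤ (cz r n) := fun w hw => Subgroup.mem_centralizer_singleton_iff.2
      (Subgroup.mem_centralizer_iff.1 hw _ hzQ).symm
    have htN : (t : G) ∈ Subgroup.normalizer (Q₀ : Set G) := by
      refine mem_normalizer_of_map_le ?_
      rintro _ ⟨_, ⟨q, hq, rfl⟩, rfl⟩
      exact ⟨(α ⟨q, hq⟩ : Q), (α ⟨q, hq⟩).2, by rw [hαt]; simp⟩
    -- the pair below
    obtain ⟨f, hf, hfle⟩ := exists_subpair hM hmax.1.1 _ Q₀ hQ₀P rfl
    obtain ⟨h₁, h₂, hle'⟩ := subpairLE_subBlock hM hfle hle hC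
    have hst : t ∈ pairStab M (Q₀.subgroupOf (cz r n)) (subBlock h₁ f) := by
      refine mem_pairStab_of_fus hM hmax'.1.1 hle' (hsub.symm ▸ hfus) ?_
      exact (mem_normalizer_subgroupOf hQ₀H t).2 htN
    have hfb := (isBrauerPair_of_subpairLE hmax.1.1 hfle).2
    have hstG : (t : G) ∈ pairStab M Q₀ f := ⟨htN,
      (stabilizesBlock_iff_coeff hM hfb htN).1
        ((stabilizesBlock_subBlock hM hQ₀H h₁ hfb t htN).1
          ((stabilizesBlock_iff_coeff hM (isPBlock_subBlock h₁ hfb)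
            ((mem_normalizer_subgroupOf hQ₀H t).2 htN)).2 hst.2))⟩
    have hmap : IsMap (blockFusion hM hmax.1.1) Q₀ (fun w => (t : G) * w * (t : G)⁻¹) :=
      (CfsgLib.BlockA.isMap_iff hM hFG).2 ⟨hQ₀P, t, fun _ _ => rfl,
        isFus_of_mem_pairStab hM hmax.1.1 hfle hstG⟩
    let e : Q ≃* Q₀ := Subgroup.equivMapOfInjective Q (cz r n).subtype (cz r n).subtype_injective
    have he : ∀ q : Q, ((e q : Q₀) : G) = ((q : (cz r n)) : G) := fun _ => rfl
    let α₀ : MulAut Q₀ := MulAut.congr e α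
    have hα₀ : ∀ q : Q₀, ((α₀ q : Q₀) : G) = (t : G) * (q : G) * (t : G)⁻¹ := fun q => by
      show ((e (α (e.symm q)) : Q₀) : G) = _
      rw [he, hαt]
      push_cast
      rw [← he (e.symm q), MulEquiv.apply_symm_apply]
    have hel : IsElem P r b n Q₀ := by
      refine ⟨hQ₀P, hzQ, ⟨_, hQ.b_mem, rfl⟩, ?_, ?_⟩
      · rintro _ ⟨q, hq, rfl⟩
        exact congrArg Subtype.val (hQ.sq q hq)
      · obtain ⟨w, hw, hw'⟩ := hQ.out
        exact ⟨_, ⟨w, hw, rfl⟩, fun h => hw' ((hR.mem_mx_subgroupOf hle w).2 h)⟩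
    have h1 : α₀ = 1 := hmark Q₀ hel α₀ ((autGroup_iff_isMap hQ₀P hα₀).2 hmap)
      (by rwa [show orderOf α₀ = orderOf α from MulEquiv.orderOf_eq (MulAut.congr e) α])
      (fun q hq => Subtype.ext (by
        rw [hα₀ q, hq, Subgroup.mem_centralizer_singleton_iff.1 t.2, mul_inv_cancel_right]))
    exact (MulAut.congr e).injective (h1.trans (map_one _).symm)

end Resid

end CfsgLib.BlockA.IndexFour
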