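import Cfsg.Agent.Lib.BlockA.IndexFour.ReductionAbelian

/-!
Defect groups with a cyclic subgroup of index four: a modular subgroup of index two in which the
cyclic subgroup is not normalised by the whole group.
-/

set_option autoImplicit false

namespace CfsgLib.BlockA.IndexFour

open Subgroup

universe u

variable {Γ : Type u} [Group Γ] {q : ℕ} {c a : Γ}

theorem hasGood_of_modular (hq : ∃ k : ℕ, q = 2 ^ k) (hq2 : 2 ≤ q)
    (hcard : Nat.card Γ = 16 * q) (hc : orderOf c = 4 * q) {M : Subgroup Γ} (hM : M.index = 2)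
    (hcM : c ∈ M) (haM : a ∈ M) (ha : a * a = 1) (ha' : a ∉ zpowers c)
    (hac : a * c * a⁻¹ = c ^ (1 + 2 * (q : ℤ))) {t : Γ} (htM : t ∉ M)
    (htc : t * c * t⁻¹ ∉ zpowers c) : HasGood Γ := by
  have hcardM : Nat.card M = 2 * (4 * q) := by
    have h := M.card_mul_index
    rw [hM, hcard] at h
    omega
  have hform : ∀ x ∈ M, ∃ i : ℤ, x = c ^ i ∨ x = c ^ i * a := fun x hx =>
    pair_form (by omega) hc hcM hcardM haM ha' hx
  have hz : ∀ i j : ℤ, c ^ i = c ^ j ↔ 4 * (q : ℤ) ∣ j - i := fun i j => by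
    rw [zpow_eq_iff hc]
    push_cast
    rfl
  have hne : ∀ i j : ℤ, c ^ i * a ≠ c ^ j := fun i j h =>
    ha' (((zpowers c).mul_mem_cancel_left (zpow_mem (mem_zpowers c) i)).1
      (h ▸ zpow_mem (mem_zpowers c) j))
  obtain ⟨p, hp⟩ := even_of_two_le hq hq2
  have hainv : a⁻¹ = a := inv_eq_of_mul_eq_one_left ha
  have hac' : ∀ i : ℤ, a * c ^ i = c ^ ((1 + 2 * (q : ℤ)) * i) * a := fun i => by
    rw [← mul_inv_eq_iff_eq_mul, conj_zpow_of_eq hac, ← zpow_mul]
  have hsqa : ∀ i : ℤ, c ^ i * a * (c ^ i * a) = c ^ (2 * ((1 + (q : ℤ)) * i)) := fun i => by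
    rw [show c ^ i * a * (c ^ i * a) = c ^ i * (a * c ^ i) * a by group, hac', ← mul_assoc,
      mul_assoc, ha, mul_one, ← zpow_add]
    congr 1
    ring
  have hM' : M.Normal := normal_of_index_eq_two hM
  have hci : ∀ t : Γ, t * c * t⁻¹ ∉ zpowers c → ∃ i : ℤ, Odd i ∧ t * c * t⁻¹ = c ^ i * a := by
    intro t htc
    obtain ⟨i, hi | hi⟩ := hform _ (hM'.conj_mem c hcM t)
    · exact absurd (hi ▸ zpow_mem (mem_zpowers c) i) htc
    refine ⟨i, Int.not_even_iff_odd.1 fun ⟨w, hw⟩ => ?_, hi⟩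
    have h1 : (t * c * t⁻¹) ^ (2 * (q : ℤ)) = 1 := by
      rw [hi, zpow_mul, zpow_two, hsqa, ← zpow_mul, zpow_one_iff hc]
      exact ⟨(1 + q) * w, by rw [hw]; push_cast; ring⟩
    rw [conj_zpow, conj_eq_one_iff] at h1
    obtain ⟨v, hv⟩ := (zpow_one_iff hc _).1 h1
    push_cast at hv
    have h3 : (2 : ℤ) * q * (2 * v - 1) = 0 := by linear_combination -hv
    rcases mul_eq_zero.1 h3 with h | h <;> omega
  -- `t` may be chosen to centralise `a`
  obtain ⟨t, htM, i, ⟨i', hi'⟩, hi, hta⟩ :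
      ∃ t, t ∉ M ∧ ∃ i : ℤ, Odd i ∧ t * c * t⁻¹ = c ^ i * a ∧ t * a * t⁻¹ = a := by
    obtain ⟨i, ⟨i', hi'⟩, hi⟩ := hci t htc
    have hz0 : ∀ w : ℤ, t * c ^ (2 * (q : ℤ) * w) * t⁻¹ = c ^ (2 * (q : ℤ) * w) := fun w => by
      rw [show 2 * (q : ℤ) * w = 2 * ((q : ℤ) * w) by ring, conj_zpow_of_eq hi,
        zpow_mul (c ^ i * a), zpow_two, hsqa, ← zpow_mul, hz]
      exact ⟨-(w * ((1 + q) * i' + p)), by rw [hi']; linear_combination (-2 * (q : ℤ) * w) * hp⟩
    have h2 : (t * a * t⁻¹) * (t * a * t⁻¹) = 1 := by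
      rw [show t * a * t⁻¹ * (t * a * t⁻¹) = t * (a * a) * t⁻¹ by group, ha]
      group
    obtain ⟨v, hv | hv⟩ := hform _ (hM'.conj_mem a haM t)
    · exfalso
      rw [hv, ← zpow_add, zpow_one_iff hc] at h2
      obtain ⟨w, hw⟩ := h2
      push_cast at hw
      rw [show v = 2 * (q : ℤ) * w by linarith, ← hz0 w, mul_left_inj, mul_right_inj] at hv
      exact ha' (hv ▸ zpow_mem (mem_zpowers c) _)
    rw [hv, hsqa, zpow_one_iff hc] at h2
    push_cast at h2
    obtain ⟨w, hw⟩ := h2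
    have h3 : 2 * (q : ℤ) ∣ v := by
      have := cancel_odd (two_mul_two_pow hq) (o := 1 + (q : ℤ)) (x := v)
        ⟨p, by rw [hp]; ring⟩ ⟨w, by push_cast; linarith⟩
      exact_mod_cast this
    obtain ⟨v', rfl⟩ := h3
    rcases Int.even_or_odd' v' with ⟨s, rfl | rfl⟩
    · refine ⟨t, htM, i, ⟨i', hi'⟩, hi, hv.trans ?_⟩
      rw [show c ^ (2 * (q : ℤ) * (2 * s)) = 1 by
        rw [zpow_one_iff hc]; exact ⟨s, by push_cast; ring⟩, one_mul]
    · refine ⟨t * c, fun h => htM ((M.mul_mem_cancel_right hcM).1 h), i, ⟨i', hi'⟩, ?_, ?_⟩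
      · rw [← hi]
        group
      · have h4 : c * a * c⁻¹ = c ^ (2 * (q : ℤ) * (-1)) * a := by
          rw [show c * a * c⁻¹ = c * (a * c ^ (-1 : ℤ)) by group, hac', ← mul_assoc, ← zpow_one_add]
          congr 2
          ring
        rw [show t * c * a * (t * c)⁻¹ = t * (c * a * c⁻¹) * t⁻¹ by group, h4,
          show t * (c ^ (2 * (q : ℤ) * (-1)) * a) * t⁻¹ =
            t * c ^ (2 * (q : ℤ) * (-1)) * t⁻¹ * (t * a * t⁻¹) by group, hz0, hv, ← mul_assoc,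
          ← zpow_add, show c ^ (2 * (q : ℤ) * (-1) + 2 * (q : ℤ) * (2 * s + 1)) = 1 by
            rw [zpow_one_iff hc]; exact ⟨s, by push_cast; ring⟩, one_mul]
  clear htc
  obtain ⟨j, hj⟩ : ∃ j : ℤ, j = i * (1 + (q : ℤ)) := ⟨_, rfl⟩
  have hs : ∀ l : ℤ, t * c ^ (2 * l) * t⁻¹ = c ^ (2 * (j * l)) := fun l => by
    rw [conj_zpow_of_eq hi, zpow_mul, zpow_two, hsqa, ← zpow_mul, hj]
    congr 1
    ring
  -- the square of `t`
  obtain ⟨k, e, he, hk⟩ : ∃ k e : ℤ, (e = 0 ∨ e = 1) ∧ t * t = c ^ k * a ^ e := by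
    obtain ⟨k, h | h⟩ := hform _ ((mul_mem_iff_of_index_two hM).2 Iff.rfl : t * t ∈ M)
    · exact ⟨k, 0, Or.inl rfl, by rw [h, zpow_zero, mul_one]⟩
    · exact ⟨k, 1, Or.inr rfl, by rw [h, zpow_one]⟩
  have hfix : t * (c ^ k * a ^ e) * t⁻¹ = c ^ k * a ^ e := by
    rw [← hk]
    group
  obtain ⟨l, rfl⟩ : (2 : ℤ) ∣ k := by
    rcases Int.even_or_odd' k with ⟨l, rfl | rfl⟩
    · exact dvd_mul_right _ _
    exfalso
    rw [zpow_add_one, show t * (c ^ (2 * l) * c * a ^ e) * t⁻¹ =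
      t * c ^ (2 * l) * t⁻¹ * (t * c * t⁻¹) * (t * a ^ e * t⁻¹) by group, hs, hi,
      conj_zpow_of_eq hta, ← zpow_add_one, ← mul_assoc, ← zpow_add] at hfix
    exact hne _ _ (mul_right_cancel hfix)
  have hlj : 2 * (q : ℤ) ∣ l * (j - 1) := by
    rw [show t * (c ^ (2 * l) * a ^ e) * t⁻¹ = t * c ^ (2 * l) * t⁻¹ * (t * a ^ e * t⁻¹) by group,
      hs, conj_zpow_of_eq hta, mul_left_inj, hz] at hfix
    obtain ⟨w, hw⟩ := hfix
    exact ⟨-w, by linarith⟩
  -- the action of the square of `t` on `c`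
  have hE : 4 * (q : ℤ) ∣ j * (i - 1) + i - 1 - 2 * q * e := by
    have h1 : t * t * c * (t * t)⁻¹ = c ^ (j * (i - 1) + i) := by
      calc t * t * c * (t * t)⁻¹ = t * (t * c * t⁻¹) * t⁻¹ := by group
        _ = t * c ^ (2 * i') * t⁻¹ * (t * c * t⁻¹) * (t * a * t⁻¹) := by
          conv_lhs => rw [hi, hi', zpow_add_one]
          group
        _ = c ^ (j * (i - 1) + i) := by
          rw [hs, hi, hta, show c ^ (2 * (j * i')) * (c ^ i * a) * a =
            c ^ (2 * (j * i')) * c ^ i * (a * a) by group, ha, mul_one, ← zpow_add]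
          congr 1
          rw [hi']
          ring
    have h2 : t * t * c * (t * t)⁻¹ = c ^ (1 + 2 * (q : ℤ) * e) := by
      rw [hk]
      rcases he with rfl | rfl
      · rw [zpow_zero, mul_one, mul_zero, add_zero]
        group
      · rw [zpow_one, mul_one, show c ^ (2 * l) * a * c * (c ^ (2 * l) * a)⁻¹ =
          c ^ (2 * l) * (a * c * a⁻¹) * (c ^ (2 * l))⁻¹ by group, hac]
        group
    rw [h1, hz] at h2
    obtain ⟨w, hw⟩ := h2
    exact ⟨-w, by linarith⟩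
  have hj2 : 2 * (q : ℤ) ∣ j * j - 1 := by
    have h1 : c ^ (2 * (j * j)) = c ^ (2 : ℤ) := by
      calc c ^ (2 * (j * j)) = t * c ^ (2 * j) * t⁻¹ := (hs j).symm
        _ = t * t * c ^ (2 * 1 : ℤ) * (t * t)⁻¹ := by
          rw [show t * t * c ^ (2 * 1 : ℤ) * (t * t)⁻¹ =
            t * (t * c ^ (2 * 1 : ℤ) * t⁻¹) * t⁻¹ by group, hs 1, mul_one j, hs j]
        _ = c ^ (2 : ℤ) := by
          have h3 : Commute (t * t) (c ^ (2 * 1 : ℤ)) := by
            rw [hk]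
            refine (((Commute.refl c).zpow_zpow _ _).mul_left (Commute.zpow_left ?_ e))
            refine (hac' _).trans ?_
            rw [mul_left_inj, hz]
            exact ⟨-1, by ring⟩
          rw [h3.eq, mul_inv_cancel_right, mul_one]
    obtain ⟨w, hw⟩ := (hz _ _).1 h1
    exact ⟨-w, by linarith⟩
  have hcentral : ∀ s : ℤ, 2 * (q : ℤ) ∣ s * (j - 1) → ∀ d, d * c ^ (2 * s) = c ^ (2 * s) * d := by
    intro s hs'
    refine central_of_index_two hM htM (fun x hx => ?_) ?_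
    · have h1 : Commute a (c ^ (2 * s)) := by
        refine (hac' _).trans ?_
        rw [mul_left_inj, hz]
        exact ⟨-s, by ring⟩
      obtain ⟨v, rfl | rfl⟩ := hform x hx
      · exact (Commute.refl c).zpow_zpow v _
      · exact ((Commute.refl c).zpow_zpow v _).mul_left h1
    · rw [hs, hz]
      obtain ⟨w, hw⟩ := hs'
      exact ⟨-w, by linarith⟩
  -- powers of `c` among those of a central one
  have hmem : ∀ s k : ℤ, c ^ k ∈ zpowers (c ^ s) ↔ ∃ v : ℤ, 4 * (q : ℤ) ∣ k - s * v := by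
    intro s k
    rw [mem_zpowers_iff]
    refine exists_congr fun v => ?_
    rw [← zpow_mul, hz]
  by_cases h1j : 2 * (q : ℤ) ∣ j - 1
  · -- `c ^ 2` is central: the quotient has order eight and is not of exponent two
    set z := c ^ (2 : ℤ) with hzdef
    have ho : orderOf z = 2 * q := orderOf_eq_of_iff fun v => by
      rw [hzdef, ← zpow_mul, zpow_one_iff hc]
      push_cast
      rw [show (4 : ℤ) * q = 2 * (2 * q) by ring, Int.mul_dvd_mul_iff_left two_ne_zero]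
    refine ⟨z, fun h => ?_, ?_, fun {H} _ f hf => ?_⟩
    · rw [h, orderOf_one] at ho
      omega
    · have := hcentral 1 (by rwa [one_mul])
      rwa [mul_one] at this
    have hrange := card_range hf
    rw [ho, hcard] at hrange
    have hP : Nat.card f.range = 8 :=
      Nat.eq_of_mul_eq_mul_right (show 0 < 2 * q by omega) (by rw [hrange]; ring)
    by_cases hft : f t * f t = 1
    · refine good_of_card_eight hP (w := f (c * t)) ⟨_, rfl⟩ fun h => ?_
      have h1 : f (c ^ (1 + i) * a) = 1 := by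
        rw [← h, ← map_mul, show c * t * (c * t) = c * (t * c * t⁻¹) * (t * t) by group, hi,
          ← mul_assoc c, ← zpow_one_add, map_mul f _ (t * t), map_mul f t t, hft, mul_one]
      exact ha' (((zpowers c).mul_mem_cancel_left (zpow_mem (mem_zpowers c) (1 + i))).1
        (zpowers_le.2 (zpow_mem (mem_zpowers c) _) ((hf _).1 h1)))
    · exact good_of_card_eight hP (w := f t) ⟨t, rfl⟩ hft
  obtain ⟨p', hp', hpn⟩ : ∃ p' : ℕ, q = 2 * p' ∧ ∃ k : ℕ, p' = 2 ^ k := by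
    obtain ⟨k, rfl⟩ := hq
    rcases k with _ | k
    · norm_num at hq2
    · exact ⟨2 ^ k, by ring, k, rfl⟩
  have hqj : (q : ℤ) ∣ j - 1 ∨ (q : ℤ) ∣ j + 1 := by
    have h := sq_one hpn (k := j) (by
      rw [pow_two]
      obtain ⟨w, hw⟩ := hj2
      exact ⟨w, by rw [hw, hp']; push_cast; ring⟩)
    rwa [show 2 * (p' : ℤ) = q by rw [hp']; push_cast; ring] at h
  obtain ⟨j', hj'⟩ : Odd j := ⟨i' * (1 + q) + p, by rw [hj, hi']; linear_combination hp⟩
  rcases Int.even_or_odd' j' with ⟨g, rfl | rfl⟩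
  · -- `j ≡ 1` modulo four: the quotient by `c ^ 4` has the residual shape with `n = 4`
    obtain ⟨q4, hq4⟩ : (4 : ℤ) ∣ q := by
      obtain ⟨k, rfl⟩ := hq
      rcases k with _ | _ | k
      · norm_num at hq2
      · exact absurd ⟨g, by rw [hj']; push_cast; ring⟩ h1j
      · exact ⟨2 ^ k, by push_cast; ring⟩
    obtain ⟨w, hw⟩ : (q : ℤ) ∣ j - 1 := hqj.resolve_right fun ⟨v, hv⟩ => by
      rw [hj', hq4] at hv
      have : (2 : ℤ) = 4 * (q4 * v - g) := by linarith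
      omega
    obtain ⟨w', rfl⟩ : Odd w := Int.not_even_iff_odd.1 fun ⟨v, hv⟩ => h1j ⟨v, by rw [hw, hv]; ring⟩
    -- `i ≡ 1` modulo `2 * q`
    set σ : ℤ := w' - i' with hσ
    have hi1 : i - 1 = 2 * (q : ℤ) * σ := by
      rw [hj, hi'] at hw
      rw [hi', hσ]
      linarith
    have he0 : e = 0 := by
      obtain ⟨v, hv⟩ := hE
      rcases he with rfl | rfl
      · rfl
      exfalso
      have h5 : (2 : ℤ) * q * (1 - 2 * (σ * (2 * g + 1) - v)) = 0 := by
        rw [hj'] at hv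
        linear_combination -hv + (4 * g + 2) * hi1
      rcases mul_eq_zero.1 h5 with h | h <;> omega
    obtain ⟨l', rfl⟩ : (2 : ℤ) ∣ l := by
      obtain ⟨v, hv⟩ := hlj
      have := cancel_odd (d := 2) ⟨1, rfl⟩ (o := 2 * w' + 1) (x := l) ⟨w', rfl⟩
        ⟨v, mul_left_cancel₀ (show (q : ℤ) ≠ 0 by omega) (by rw [hw] at hv; push_cast; linarith)⟩
      exact_mod_cast this
    set z := c ^ (4 : ℤ) with hzdef
    have ho : orderOf z = q := orderOf_eq_of_iff fun v => by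
      rw [hzdef, ← zpow_mul, zpow_one_iff hc]
      push_cast
      rw [Int.mul_dvd_mul_iff_left four_ne_zero]
    refine ⟨z, fun h => ?_, ?_, fun {H} _ f hf => ?_⟩
    · rw [h, orderOf_one] at ho
      omega
    · refine fun d => ?_
      have := hcentral 2 ⟨2 * w' + 1, by rw [hw]; ring⟩ d
      exact this
    have hrange := card_range hf
    rw [ho, hcard] at hrange
    have hr : orderOf (f c) = 4 := orderOf_map hf fun v => by
      rw [hzdef, hmem]
      push_cast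
      constructor
      · rintro ⟨u, w, hw⟩
        exact ⟨u + q * w, by linarith⟩
      · rintro ⟨u, rfl⟩
        exact ⟨u, 0, by ring⟩
    have hzr : ∀ x y : ℤ, f c ^ x = f c ^ y ↔ (4 : ℤ) ∣ y - x := fun x y => by
      rw [zpow_eq_iff hr]
      rfl
    have hzc : z ∈ zpowers c := zpow_mem (mem_zpowers c) _
    refine Or.inr (Or.inr (Or.inr (Or.inr (Or.inr (Or.inr (Or.inr
      ⟨f c, f (c ^ (2 : ℤ) * a), f t, 4, ?_⟩))))))
    refine ⟨⟨2, rfl⟩, le_rfl, ⟨c, rfl⟩, ⟨_, rfl⟩, ⟨t, rfl⟩, hr, ?_,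
      map_not_mem hf hzc (mem_zpowers c) fun h => ha'
        (((zpowers c).mul_mem_cancel_left (zpow_mem (mem_zpowers c) _)).1 h),
      ?_, ?_, ⟨map_not_mem hf (M.zpow_mem hcM _) hcM htM, ?_⟩, ?_, Or.inr (Or.inl ⟨?_, ?_⟩)⟩
    · rw [← map_mul, hf, hsqa, hzdef, mem_zpowers_iff]
      exact ⟨1 + q, by rw [← zpow_mul]; congr 1; ring⟩
    · refine mul_inv_eq_iff_eq_mul.1 ?_
      rw [← map_inv, ← map_mul, ← map_mul, show c ^ (2 : ℤ) * a * c * (c ^ (2 : ℤ) * a)⁻¹ =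
        c ^ (2 : ℤ) * (a * c * a⁻¹) * (c ^ (2 : ℤ))⁻¹ by group, hac,
        show c ^ (2 : ℤ) * c ^ (1 + 2 * (q : ℤ)) * (c ^ (2 : ℤ))⁻¹ = c ^ (1 + 2 * (q : ℤ)) by group,
        map_zpow]
      conv_rhs => rw [← zpow_one (f c)]
      rw [hzr]
      exact ⟨-(2 * q4), by linarith⟩
    · show f (c ^ (2 : ℤ) * a) * f t = f t * f (c ^ (2 : ℤ) * a)
      refine (mul_inv_eq_iff_eq_mul.1 ?_).symm
      rw [← map_inv, ← map_mul, ← map_mul, show t * (c ^ (2 : ℤ) * a) * t⁻¹ =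
        t * c ^ (2 * 1 : ℤ) * t⁻¹ * (t * a * t⁻¹) by group, hs, hta, map_mul, map_mul,
        mul_left_inj, map_zpow, map_zpow, hzr]
      exact ⟨-(2 * g), by rw [hj']; ring⟩
    · rw [← map_mul]
      exact map_not_mem hf (M.zpow_mem hcM _) hcM fun h =>
        htM ((M.mul_mem_cancel_right (M.mul_mem (M.zpow_mem hcM _) haM)).1 h)
    · exact Nat.eq_of_mul_eq_mul_right (show 0 < q by omega) (by rw [hrange])
    · rw [← map_mul, hf, hk, he0, zpow_zero, mul_one, hzdef, mem_zpowers_iff]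
      exact ⟨l', by rw [← zpow_mul]; congr 1; ring⟩
    · rw [← map_inv, ← map_mul, ← map_mul, hi, map_mul, map_mul, ← mul_assoc, mul_left_inj,
        map_zpow, map_zpow, ← zpow_neg_one, ← zpow_add, hzr]
      exact ⟨-(2 * q4 * σ), by linear_combination (-(1 : ℤ)) * hi1 - 2 * σ * hq4⟩
  -- `j ≡ -1` modulo four: the quotient by the involution has the residual shape with `n = 2 * q`
  obtain ⟨w, hw⟩ : (q : ℤ) ∣ j + 1 := by
    rcases hqj with ⟨v, hv⟩ | h
    · obtain ⟨k, rfl⟩ := hq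
      rcases k with _ | _ | k
      · norm_num at hq2
      · exact ⟨2 * g + 2, by rw [hj']; push_cast; ring⟩
      · exfalso
        rw [hj'] at hv
        push_cast at hv
        have : (2 : ℤ) = 4 * (2 ^ k * v - g) := by ring_nf at hv ⊢; linarith
        omega
    · exact h
  set ω : ℤ := w - i with hω
  have hi1 : i + 1 = (q : ℤ) * ω := by
    rw [hj] at hw
    rw [hω]
    linarith
  have hpar : ∃ v : ℤ, ω + e + 1 = 2 * v := by
    obtain ⟨v, hv⟩ := hE
    obtain ⟨y, hy⟩ := Int.even_mul_succ_self ω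
    rw [hj] at hv
    have h1 : i' * (ω + i) - e = 2 * v := mul_left_cancel₀ (show 2 * (q : ℤ) ≠ 0 by omega)
      (by linear_combination hv - 2 * i' * hi1 - (i * (1 + (q : ℤ)) + 1) * hi')
    have h2 : i' + 1 = p * ω := mul_left_cancel₀ (show (2 : ℤ) ≠ 0 by norm_num)
      (by linear_combination hi1 - hi' + ω * hp)
    exact ⟨p * y + i' * i' - v, by linear_combination -h1 + i' * hi' + (ω + 1) * h2 + p * hy⟩
  obtain ⟨l', hl'⟩ : (q : ℤ) ∣ l := by
    obtain ⟨v, hv⟩ := hlj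
    exact cancel_odd hq (o := 2 * g + 1) (x := l) ⟨g, rfl⟩
      ⟨v, mul_left_cancel₀ (show (2 : ℤ) ≠ 0 by norm_num) (by rw [hj'] at hv; linarith)⟩
  set z := c ^ (2 * (q : ℤ)) with hzdef
  have ho : orderOf z = 2 := orderOf_eq_of_iff fun v => by
    rw [hzdef, ← zpow_mul, zpow_one_iff hc]
    push_cast
    rw [show (4 : ℤ) * q = 2 * q * 2 by ring, Int.mul_dvd_mul_iff_left (by omega)]
  refine ⟨z, fun h => ?_, hcentral q ⟨2 * g + 1, by rw [hj']; ring⟩, fun {H} _ f hf => ?_⟩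
  · rw [h, orderOf_one] at ho
    omega
  have hrange := card_range hf
  rw [ho, hcard] at hrange
  have hr : orderOf (f c) = 2 * q := orderOf_map hf fun v => by
    rw [hzdef, hmem]
    push_cast
    constructor
    · rintro ⟨u, w, hw⟩
      exact ⟨u + 2 * w, by linarith⟩
    · rintro ⟨u, rfl⟩
      exact ⟨u, 0, by ring⟩
  have hzr : ∀ x y : ℤ, f c ^ x = f c ^ y ↔ 2 * (q : ℤ) ∣ y - x := fun x y => by
    rw [zpow_eq_iff hr]
    push_cast
    rfl
  have hzc : z ∈ zpowers c := zpow_mem (mem_zpowers c) _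
  have hbr : Commute (f (c ^ ((q : ℤ) * ω) * a)) (f c) := by
    refine mul_inv_eq_iff_eq_mul.1 ?_
    rw [← map_inv, ← map_mul, ← map_mul, show c ^ ((q : ℤ) * ω) * a * c * (c ^ ((q : ℤ) * ω) * a)⁻¹
      = c ^ ((q : ℤ) * ω) * (a * c * a⁻¹) * (c ^ ((q : ℤ) * ω))⁻¹ by group, hac,
      show c ^ ((q : ℤ) * ω) * c ^ (1 + 2 * (q : ℤ)) * (c ^ ((q : ℤ) * ω))⁻¹ =
        c ^ (1 + 2 * (q : ℤ)) by group, map_zpow]
    conv_rhs => rw [← zpow_one (f c)]
    rw [hzr]
    exact ⟨-1, by ring⟩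
  have hbt : Commute (f t) (f (c ^ ((q : ℤ) * ω) * a)) := by
    refine mul_inv_eq_iff_eq_mul.1 ?_
    rw [← map_inv, ← map_mul, ← map_mul, show (q : ℤ) * ω = 2 * (p * ω) by rw [hp]; ring,
      show t * (c ^ (2 * (p * ω)) * a) * t⁻¹ = t * c ^ (2 * (p * ω)) * t⁻¹ * (t * a * t⁻¹) by group,
      hs, hta, map_mul, map_mul, mul_left_inj, map_zpow, map_zpow, hzr]
    exact ⟨-(ω * (2 * g + 1)), by rw [hj', hp]; ring⟩
  refine Or.inr (Or.inr (Or.inr (Or.inr (Or.inr (Or.inr (Or.inr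
    ⟨f c, f (c ^ ((q : ℤ) * ω) * a), f (t * c ^ e), 2 * q, ?_⟩))))))
  refine ⟨two_mul_two_pow hq, by omega, ⟨c, rfl⟩, ⟨_, rfl⟩, ⟨_, rfl⟩, hr, ?_,
    map_not_mem hf hzc (mem_zpowers c) fun h => ha'
      (((zpowers c).mul_mem_cancel_left (zpow_mem (mem_zpowers c) _)).1 h),
    hbr, ?_, ⟨map_not_mem hf (M.zpow_mem hcM _) hcM fun h =>
      htM ((M.mul_mem_cancel_right (M.zpow_mem hcM _)).1 h), ?_⟩,
    by omega, Or.inr (Or.inl ⟨?_, ?_⟩)⟩
  · rw [← map_mul, hf, hsqa, hzdef, mem_zpowers_iff]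
    exact ⟨(1 + q) * ω, by rw [← zpow_mul]; congr 1; ring⟩
  · rw [map_mul f t, map_zpow]
    exact hbt.symm.mul_right (hbr.zpow_right e)
  · rw [← map_mul]
    exact map_not_mem hf (M.zpow_mem hcM _) hcM fun h => htM ((M.mul_mem_cancel_right
      (M.zpow_mem hcM e)).1 ((M.mul_mem_cancel_right (M.mul_mem (M.zpow_mem hcM _) haM)).1 h))
  · rw [← map_mul, hf, show t * c ^ e * (t * c ^ e) = t * c ^ e * t⁻¹ * (t * t) * c ^ e by group,
      conj_zpow_of_eq hi, hk]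
    rcases he with rfl | rfl
    · rw [zpow_zero, zpow_zero, zpow_zero, one_mul, mul_one, mul_one, hl', hzdef, mem_zpowers_iff]
      exact ⟨l', by rw [← zpow_mul]; congr 1; ring⟩
    · rw [zpow_one, zpow_one, zpow_one, show c ^ i * a * (c ^ (2 * l) * a) * c =
        c ^ i * (a * c ^ (2 * l)) * a * c by group, hac',
        show c ^ i * (c ^ ((1 + 2 * (q : ℤ)) * (2 * l)) * a) * a * c =
          c ^ i * c ^ ((1 + 2 * (q : ℤ)) * (2 * l)) * (a * a) * c by group, ha, mul_one,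
        ← zpow_add, ← zpow_add_one, hzdef, mem_zpowers_iff]
      obtain ⟨v, hv⟩ := hpar
      refine ⟨v - 1 + l' * (1 + 2 * q), ?_⟩
      rw [← zpow_mul]
      congr 1
      linear_combination (-(q : ℤ)) * hv - hi1 - (2 * (1 + 2 * (q : ℤ))) * hl'
  · rw [← map_inv, ← map_inv, ← map_mul, ← map_mul, ← map_mul,
      show t * c ^ e * c * (t * c ^ e)⁻¹ = t * c * t⁻¹ by group, hi, ← zpow_neg_one,
      ← mul_assoc, ← zpow_add]
    congr 3
    linarith

end CfsgLib.BlockA.IndexFour
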