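import Cfsg.Agent.Lib.BlockA.IndexFour.ReductionImage

/-!
Defect groups with a cyclic subgroup of index four: the cyclic subgroup is normal and equal to its
own centralizer.
-/

set_option autoImplicit false

namespace CfsgLib.BlockA.IndexFour

open Subgroup

universe u

variable {Γ : Type u} [Group Γ] [Finite Γ] {q : ℕ} {c : Γ}

/-- Four cosets act by four different exponents. -/
theorem exists_action_four (hcard : Nat.card Γ = 16 * q) (hc : orderOf c = 4 * q) (hq1 : 1 ≤ q)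
    (hcent : ∀ x, Commute x c → x ∈ zpowers c) (S : Finset Γ) (hS : ∀ x, x * c * x⁻¹ ∈ S)
    (hS4 : S.card ≤ 4) : S.card = 4 ∧ ∀ y ∈ S, ∃ x, x * c * x⁻¹ = y := by
  classical
  have := Fintype.ofFinite Γ
  set T : Finset Γ := Finset.univ.image fun x => x * c * x⁻¹
  have hidx : (zpowers c).index = 4 := by
    have h := (zpowers c).card_mul_index
    rw [Nat.card_zpowers, hc, hcard] at h
    exact Nat.eq_of_mul_eq_mul_left (show 0 < 4 * q by omega) (by rw [h]; ring)
  have hT : 4 ≤ T.card := by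
    rw [← hidx, ← Fintype.card_coe, ← Nat.card_eq_fintype_card]
    refine Nat.card_le_card_of_injective
      (fun x : Γ ⧸ zpowers c => (⟨x.out * c * x.out⁻¹,
        Finset.mem_image_of_mem _ (Finset.mem_univ _)⟩ : T)) fun x y h => ?_
    have h1 : x.out * c * x.out⁻¹ = y.out * c * y.out⁻¹ := congrArg Subtype.val h
    rw [← QuotientGroup.out_eq' x, ← QuotientGroup.out_eq' y, QuotientGroup.eq]
    refine hcent _ ?_
    show x.out⁻¹ * y.out * c = c * (x.out⁻¹ * y.out)
    calc x.out⁻¹ * y.out * c = x.out⁻¹ * (y.out * c * y.out⁻¹) * y.out := by group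
      _ = c * (x.out⁻¹ * y.out) := by rw [← h1]; group
  have hTS : T ⊆ S := fun y hy => by
    obtain ⟨x, -, rfl⟩ := Finset.mem_image.1 hy
    exact hS x
  have hle := Finset.card_le_card hTS
  refine ⟨by omega, fun y hy => ?_⟩
  rw [← Finset.eq_of_subset_of_card_le hTS (by omega)] at hy
  obtain ⟨x, -, hx⟩ := Finset.mem_image.1 hy
  exact ⟨x, hx⟩

/-- The cyclic subgroup is normal and self-centralizing. -/
theorem hasGood_of_normal (hq : ∃ k : ℕ, q = 2 ^ k) (hcard : Nat.card Γ = 16 * q)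
    (hc : orderOf c = 4 * q) (hn : (zpowers c).Normal)
    (hcent : ∀ x, Commute x c → x ∈ zpowers c) : HasGood Γ := by
  classical
  have hq1 : 1 ≤ q := by
    obtain ⟨k, rfl⟩ := hq
    exact Nat.one_le_two_pow
  have hact : ∀ x : Γ, ∃ u : ℤ, x * c * x⁻¹ = c ^ u := fun x => by
    obtain ⟨u, hu⟩ := mem_zpowers_iff.1 (hn.conj_mem c (mem_zpowers c) x)
    exact ⟨u, hu.symm⟩
  have hz : ∀ i j : ℤ, c ^ i = c ^ j ↔ 4 * (q : ℤ) ∣ j - i := fun i j => by
    rw [zpow_eq_iff hc]
    push_cast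
    rfl
  have hodd : ∀ x : Γ, ∀ u : ℤ, x * c * x⁻¹ = c ^ u → Odd u := by
    intro x u hu
    refine Int.not_even_iff_odd.1 fun ⟨w, hw⟩ => ?_
    have h1 : (x * c * x⁻¹) ^ (2 * (q : ℤ)) = 1 := by
      rw [hu, ← zpow_mul, zpow_one_iff hc]
      exact ⟨w, by rw [hw]; push_cast; ring⟩
    rw [conj_zpow, conj_eq_one_iff] at h1
    obtain ⟨v, hv⟩ := (zpow_one_iff hc _).1 h1
    push_cast at hv
    have h3 : (2 : ℤ) * q * (2 * v - 1) = 0 := by linear_combination -hv
    rcases mul_eq_zero.1 h3 with h | h <;> omega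
  by_cases hcyc : ∃ t : Γ, t * t ∉ zpowers c
  · obtain ⟨t, htt⟩ := hcyc
    obtain ⟨u, hu⟩ := hact t
    have ht : t ∉ zpowers c := fun h => htt (mul_mem h h)
    obtain ⟨m, hm⟩ := hodd t u hu
    have hidx : (zpowers c).index = 4 := by
      have h := (zpowers c).card_mul_index
      rw [Nat.card_zpowers, hc, hcard] at h
      exact Nat.eq_of_mul_eq_mul_left (show 0 < 4 * q by omega) (by rw [h]; ring)
    have ht4 : t ^ (4 : ℤ) ∈ zpowers c := by
      have h := (zpowers c).pow_index_mem t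
      rw [hidx, ← zpow_natCast] at h
      exact h
    have hu2 : t * t * c * (t * t)⁻¹ = c ^ (u * u) := by
      calc t * t * c * (t * t)⁻¹ = t * (t * c * t⁻¹) * t⁻¹ := by group
        _ = c ^ (u * u) := by rw [hu, conj_zpow_of_eq hu, ← zpow_mul]
    have hu4 : 4 * (q : ℤ) ∣ (u * u) ^ 2 - 1 := by
      obtain ⟨j, hj⟩ := ht4
      simp only at hj
      have h1 : c ^ (u * u * (u * u)) = c ^ (1 : ℤ) := by
        calc c ^ (u * u * (u * u)) = t * t * c ^ (u * u) * (t * t)⁻¹ := by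
              rw [conj_zpow_of_eq hu2, ← zpow_mul]
          _ = t ^ (4 : ℤ) * c * (t ^ (4 : ℤ))⁻¹ := by
              rw [← hu2, show t ^ (4 : ℤ) = t * t * (t * t) by
                rw [show (4 : ℤ) = 2 + 2 from rfl, zpow_add, zpow_two]]
              group
          _ = c ^ (1 : ℤ) := by rw [← hj]; group
      obtain ⟨w, hw⟩ := (hz _ _).1 h1
      exact ⟨-w, by linarith⟩
    have hne : ¬ 4 * (q : ℤ) ∣ u * u - 1 := by
      rintro ⟨w, hw⟩
      refine htt (hcent _ (mul_inv_eq_iff_eq_mul.1 ?_))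
      conv_rhs => rw [← zpow_one c]
      rw [hu2, hz]
      exact ⟨-w, by linarith⟩
    obtain ⟨p, hp⟩ : (2 : ℤ) ∣ q := by
      refine even_of_two_le hq ?_
      by_contra hlt
      obtain rfl : q = 1 := by omega
      exact hne ⟨m * m + m, by rw [hm]; push_cast; ring⟩
    have h2q : 2 * (q : ℤ) ∣ u * u - 1 := by
      rcases sq_one hq hu4 with h | ⟨w, hw⟩
      · exact h
      · exfalso
        have h3 : (2 : ℤ) = 4 * (p * w - m * m - m) := by
          rw [hm, hp] at hw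
          linear_combination hw
        omega
    obtain ⟨p', hp', hpn⟩ : ∃ p' : ℕ, q = 2 * p' ∧ ∃ k : ℕ, p' = 2 ^ k := by
      obtain ⟨k, rfl⟩ := hq
      rcases k with _ | k
      · norm_num at hp
        omega
      · exact ⟨2 ^ k, by ring, k, rfl⟩
    have hsq : (q : ℤ) ∣ u - 1 ∨ (q : ℤ) ∣ u + 1 := by
      have h := sq_one hpn (k := u) (by
        rw [pow_two]
        obtain ⟨w, hw⟩ := h2q
        exact ⟨w, by rw [hw, hp']; push_cast; ring⟩)
      rwa [show 2 * (p' : ℤ) = q by rw [hp']; push_cast; ring] at h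
    have hq4 : (4 : ℤ) ∣ q := by
      by_contra h4
      obtain ⟨k, hk⟩ := hpn
      rcases k with _ | k
      · obtain rfl : q = 2 := by simpa [hk] using hp'
        rcases Int.even_or_odd' m with ⟨e, he | he⟩
        · exact hne ⟨2 * e * e + e, by rw [hm, he]; push_cast; ring⟩
        · exact hne ⟨2 * e * e + 3 * e + 1, by rw [hm, he]; push_cast; ring⟩
      · exact h4 ⟨2 ^ k, by rw [hp', hk]; push_cast; ring⟩
    obtain ⟨p4, hp4⟩ := hq4
    have hconj : ∀ i : ℤ, t * c ^ i * t⁻¹ = c ^ (u * i) := fun i => by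
      rw [conj_zpow_of_eq hu, ← zpow_mul]
    obtain ⟨j, hj⟩ := mem_zpowers_iff.1 ht4
    have hj0 : 4 * (q : ℤ) ∣ (u - 1) * j := by
      have h1 : c ^ (u * j) = c ^ j := by
        rw [← hconj, hj]
        group
      obtain ⟨w, hw⟩ := (hz _ _).1 h1
      exact ⟨-w, by linarith⟩
    have hord4 : orderOf (QuotientGroup.mk t : Γ ⧸ zpowers c) = 2 ^ 2 := by
      refine orderOf_eq_prime_pow ?_ ?_
      · rw [pow_one, ← QuotientGroup.mk_pow, QuotientGroup.eq_one_iff, pow_two]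
        exact htt
      · rw [← QuotientGroup.mk_pow, QuotientGroup.eq_one_iff, ← zpow_natCast]
        exact_mod_cast ht4
    have hform : ∀ d : Γ, ∃ i k : ℤ, d = c ^ i * t ^ k := by
      have htop : zpowers (QuotientGroup.mk t : Γ ⧸ zpowers c) = ⊤ := eq_top_of_card_eq _ (by
        rw [Nat.card_zpowers, hord4]
        exact hidx.symm)
      intro d
      obtain ⟨k, hk⟩ : (QuotientGroup.mk d : Γ ⧸ zpowers c) ∈
          zpowers (QuotientGroup.mk t : Γ ⧸ zpowers c) := htop ▸ mem_top _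
      simp only [← QuotientGroup.mk_zpow] at hk
      rw [QuotientGroup.eq] at hk
      obtain ⟨i, hi⟩ := hn.mem_comm_iff.1 hk
      simp only at hi
      exact ⟨i, k, by rw [hi]; group⟩
    have htk : ∀ k : ℤ, t ^ k ∈ zpowers c → 4 ∣ k := fun k hk => by
      rw [← QuotientGroup.eq_one_iff, QuotientGroup.mk_zpow, ← orderOf_dvd_iff_zpow_eq_one,
        hord4] at hk
      exact_mod_cast hk
    have hcentral : ∀ i : ℤ, 4 * (q : ℤ) ∣ (u - 1) * i → ∀ d, d * c ^ i = c ^ i * d := by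
      intro i hi d
      obtain ⟨l, k, rfl⟩ := hform d
      have h1 : Commute t (c ^ i) := by
        refine mul_inv_eq_iff_eq_mul.1 ?_
        rw [hconj, hz]
        obtain ⟨w, hw⟩ := hi
        exact ⟨-w, by linarith⟩
      exact (((Commute.refl c).zpow_zpow l i).mul_left (h1.zpow_left k)).eq
    rcases hsq with ⟨w, hw⟩ | ⟨w, hw⟩
    · -- `u ≡ 1` modulo four: the quotient by `c ^ 4` is homocyclic
      obtain ⟨e, rfl⟩ : Odd w := Int.not_even_iff_odd.1 fun ⟨e, he⟩ => hne ⟨e + q * e * e, by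
        rw [show u = (q : ℤ) * w + 1 by linarith, he]
        ring⟩
      set z := c ^ (4 : ℤ) with hzdef
      have ho : orderOf z = q := by
        refine Nat.dvd_antisymm ?_ ?_
        · rw [← Int.natCast_dvd_natCast, orderOf_dvd_iff_zpow_eq_one, hzdef, ← zpow_mul,
            zpow_one_iff hc]
          exact ⟨1, by push_cast; ring⟩
        · have h : (4 * (q : ℤ)) ∣ 4 * (orderOf z : ℤ) := by
            have := (zpow_one_iff hc (4 * (orderOf z : ℤ))).1 (by
              rw [zpow_mul, ← hzdef, zpow_natCast, pow_orderOf_eq_one])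
            exact_mod_cast this
          exact Int.natCast_dvd_natCast.1 ((Int.mul_dvd_mul_iff_left four_ne_zero).1 h)
      refine ⟨z, fun h => ?_, hcentral 4 ⟨2 * e + 1, ?_⟩, fun {H} _ f hf => ?_⟩
      · rw [h, orderOf_one] at ho
        omega
      · linear_combination (4 : ℤ) * hw
      have hrange := card_range hf
      rw [ho, hcard] at hrange
      set r := f c
      set x := f t
      have hr4 : orderOf r = 4 := orderOf_map hf fun k => by
        rw [mem_zpowers_iff]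
        push_cast
        constructor
        · rintro ⟨l, hl⟩
          rw [hzdef, ← zpow_mul] at hl
          obtain ⟨v, hv⟩ := (hz _ _).1 hl
          exact ⟨l + q * v, by linarith⟩
        · rintro ⟨v, rfl⟩
          exact ⟨v, by rw [hzdef, ← zpow_mul]⟩
      have hx4 : x ^ (4 : ℤ) = 1 := by
        rw [← map_zpow, hf, ← hj, mem_zpowers_iff]
        obtain ⟨v, hv⟩ := hj0
        obtain ⟨v', hv'⟩ := cancel_odd (d := 4) ⟨2, rfl⟩ (o := 2 * e + 1) (x := j) ⟨e, rfl⟩
          ⟨v, mul_left_cancel₀ (show (q : ℤ) ≠ 0 by omega) (by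
            rw [hw] at hv
            push_cast
            linarith)⟩
        exact ⟨v', by rw [hzdef, ← zpow_mul, hv']; rfl⟩
      have hxr : Commute x r := by
        refine mul_inv_eq_iff_eq_mul.1 ?_
        rw [← map_inv, ← map_mul, ← map_mul, hu, map_zpow]
        conv_rhs => rw [← zpow_one r]
        rw [zpow_eq_iff hr4]
        exact ⟨-(p4 * (2 * e + 1)), by
          push_cast
          linear_combination (-(1 : ℤ)) * hw - (2 * e + 1) * hp4⟩
      have hindep : ∀ i k : ℤ, r ^ i * x ^ k = 1 → 4 ∣ i ∧ 4 ∣ k := by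
        intro i k h
        rw [← map_zpow, ← map_zpow, ← map_mul, hf] at h
        have hk : 4 ∣ k := htk k (((zpowers c).mul_mem_cancel_left (zpow_mem (mem_zpowers c) i)).1
          (zpowers_le.2 (zpow_mem (mem_zpowers c) _) h))
        obtain ⟨k', rfl⟩ := hk
        rw [← hf, map_mul, map_zpow, map_zpow, zpow_mul x, hx4, one_zpow, mul_one,
          zpow_one_iff hr4] at h
        exact ⟨by exact_mod_cast h, dvd_mul_right _ _⟩
      have hall : ∀ v ∈ f.range, ∃ i k : ℤ, v = r ^ i * x ^ k := by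
        rintro _ ⟨d, rfl⟩
        obtain ⟨i, k, rfl⟩ := hform d
        exact ⟨i, k, by rw [map_mul, map_zpow, map_zpow]⟩
      exact good_of_four_four
        (Nat.eq_of_mul_eq_mul_right (show 0 < q by omega) (by rw [hrange]))
        ⟨c, rfl⟩ ⟨t, rfl⟩ (by rw [zpow_one_iff hr4]; norm_num) hx4 hxr hindep hall
    · -- `u ≡ -1` modulo four: the residual shape with `x ^ 2 = b`
      obtain ⟨e, rfl⟩ : Odd w := Int.not_even_iff_odd.1 fun ⟨e, he⟩ => hne ⟨q * e * e - e, by
        rw [show u = (q : ℤ) * w - 1 by linarith, he]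
        ring⟩
      set z := c ^ (2 * (q : ℤ)) with hzdef
      have ho : orderOf z = 2 := by
        refine orderOf_eq_prime ?_ ?_
        · rw [← zpow_natCast, hzdef, ← zpow_mul, zpow_one_iff hc]
          exact ⟨1, by push_cast; ring⟩
        · rw [hzdef, ne_eq, zpow_one_iff hc]
          rintro ⟨v, hv⟩
          push_cast at hv
          have h3 : (2 : ℤ) * q * (2 * v - 1) = 0 := by linear_combination -hv
          rcases mul_eq_zero.1 h3 with h | h <;> omega
      refine ⟨z, fun h => ?_, hcentral _ ⟨m, by rw [hm]; ring⟩, fun {H} _ f hf => ?_⟩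
      · rw [h, orderOf_one] at ho
        omega
      have hrange := card_range hf
      rw [ho, hcard] at hrange
      have hzc : z ∈ zpowers c := zpow_mem (mem_zpowers c) _
      have hr : orderOf (f c) = 2 * q := orderOf_map hf fun k => by
        rw [mem_zpowers_iff]
        push_cast
        constructor
        · rintro ⟨l, hl⟩
          rw [hzdef, ← zpow_mul] at hl
          obtain ⟨v, hv⟩ := (hz _ _).1 hl
          exact ⟨l + 2 * v, by linarith⟩
        · rintro ⟨v, rfl⟩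
          exact ⟨v, by rw [hzdef, ← zpow_mul]⟩
      have hzr : ∀ i j : ℤ, f c ^ i = f c ^ j ↔ 2 * (q : ℤ) ∣ j - i := fun i j => by
        rw [zpow_eq_iff hr]
        push_cast
        rfl
      have hj2 : 2 * (q : ℤ) ∣ j := by
        obtain ⟨v, hv⟩ := hj0
        have := cancel_odd (two_mul_two_pow hq) (o := (2 * p4) * (2 * e + 1) - 1) (x := j)
          ⟨p4 * (2 * e + 1) - 1, by ring⟩ ⟨v, mul_left_cancel₀ (show (2 : ℤ) ≠ 0 by norm_num) (by
            push_cast
            linear_combination hv - j * hw - (2 * e + 1) * j * hp4)⟩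
        exact_mod_cast this
      refine Or.inr (Or.inr (Or.inr (Or.inr (Or.inr (Or.inr (Or.inr
        ⟨f c, f (t * t), f t, 2 * q, ?_⟩))))))
      refine ⟨two_mul_two_pow hq, by omega, ⟨c, rfl⟩, ⟨t * t, rfl⟩, ⟨t, rfl⟩, hr, ?_,
        map_not_mem hf hzc (mem_zpowers c) htt, ?_, ?_,
        ⟨map_not_mem hf hzc (mem_zpowers c) ht, ?_⟩, by omega, Or.inr (Or.inr ⟨by omega, ?_, ?_⟩)⟩
      · obtain ⟨v, hv⟩ := hj2
        rw [← map_mul, hf, show t * t * (t * t) = t ^ (4 : ℤ) by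
          rw [show (4 : ℤ) = 2 + 2 from rfl, zpow_add, zpow_two], ← hj, hv, hzdef, mem_zpowers_iff]
        exact ⟨v, by rw [← zpow_mul]⟩
      · refine mul_inv_eq_iff_eq_mul.1 ?_
        rw [← map_inv, ← map_mul, ← map_mul, hu2, map_zpow]
        conv_rhs => rw [← zpow_one (f c)]
        rw [hzr]
        obtain ⟨v, hv⟩ := h2q
        exact ⟨-v, by linarith⟩
      · show f (t * t) * f t = f t * f (t * t)
        rw [← map_mul, ← map_mul, mul_assoc]
      · rw [← map_mul]
        refine map_not_mem hf hzc (mem_zpowers c) fun h => ?_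
        have := htk 3 (by
          rwa [show (3 : ℤ) = 1 + 2 from rfl, zpow_add, zpow_one, zpow_two])
        omega
      · rw [map_mul]
      · rw [← map_inv, ← map_mul, ← map_mul, hu, map_zpow, show 2 * q / 2 = q by omega,
          ← zpow_natCast, ← zpow_neg_one (f c), ← zpow_add, hzr]
        exact ⟨-e, by linear_combination -hw⟩
  push Not at hcyc
  have hu2 : ∀ x : Γ, ∀ u : ℤ, x * c * x⁻¹ = c ^ u → 4 * (q : ℤ) ∣ u * u - 1 := by
    intro x u hu
    obtain ⟨j, hj⟩ := hcyc x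
    simp only at hj
    have h1 : c ^ (u * u) = c ^ (1 : ℤ) := by
      calc c ^ (u * u) = x * c ^ u * x⁻¹ := by rw [conj_zpow_of_eq hu, ← zpow_mul]
        _ = x * x * c * (x * x)⁻¹ := by rw [← hu]; group
        _ = c ^ (1 : ℤ) := by rw [← hj]; group
    obtain ⟨w, hw⟩ := (hz _ _).1 h1
    exact ⟨-w, by linarith⟩
  let S : Finset Γ := {c ^ (1 : ℤ), c ^ (-1 : ℤ), c ^ (1 + 2 * (q : ℤ)), c ^ (-1 + 2 * (q : ℤ))}
  have hS : ∀ x, x * c * x⁻¹ ∈ S := by
    intro x
    obtain ⟨u, hu⟩ := hact x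
    simp only [S, Finset.mem_insert, Finset.mem_singleton, hu, hz]
    rcases sq_one hq (k := u) (by rw [pow_two]; exact hu2 x u hu) with ⟨w, hw⟩ | ⟨w, hw⟩ <;>
      rcases Int.even_or_odd' w with ⟨v, rfl | rfl⟩
    · exact Or.inl ⟨-v, by linarith⟩
    · exact Or.inr (Or.inr (Or.inl ⟨-v, by linarith⟩))
    · exact Or.inr (Or.inl ⟨-v, by linarith⟩)
    · exact Or.inr (Or.inr (Or.inr ⟨-v, by linarith⟩))
  obtain ⟨hS4, hsur⟩ := exists_action_four hcard hc hq1 hcent S hS Finset.card_le_four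
  obtain ⟨p, hp⟩ : (2 : ℤ) ∣ q := by
    refine even_of_two_le hq ?_
    by_contra hlt
    obtain rfl : q = 1 := by omega
    have h2 : S ⊆ {c ^ (1 : ℤ), c ^ (-1 : ℤ)} := by
      intro y hy
      simp only [S, Finset.mem_insert, Finset.mem_singleton] at hy ⊢
      rcases hy with rfl | rfl | rfl | rfl <;> simp only [hz]
      all_goals norm_num
    have := (Finset.card_le_card h2).trans Finset.card_le_two
    omega
  obtain ⟨t, ht⟩ := hsur (c ^ (-1 : ℤ)) (by simp [S])
  obtain ⟨s, hs⟩ := hsur (c ^ (1 + 2 * (q : ℤ))) (by simp [S])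
  have hsc : s ∉ zpowers c := by
    rintro ⟨i, rfl⟩
    have h1 : c ^ (1 : ℤ) = c ^ (1 + 2 * (q : ℤ)) := by rw [← hs]; group
    obtain ⟨w, hw⟩ := (hz _ _).1 h1
    have h3 : (2 : ℤ) * q * (2 * w - 1) = 0 := by linarith
    rcases mul_eq_zero.1 h3 with h | h <;> omega
  -- an involution acting in the same way
  obtain ⟨j, hj⟩ := hcyc s
  simp only at hj
  obtain ⟨j', rfl⟩ : (2 : ℤ) ∣ j := by
    have h1 : c ^ ((1 + 2 * (q : ℤ)) * j) = c ^ j := by
      calc c ^ ((1 + 2 * (q : ℤ)) * j) = s * c ^ j * s⁻¹ := by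
            rw [conj_zpow_of_eq hs, ← zpow_mul]
        _ = c ^ j := by rw [hj]; group
    obtain ⟨w, hw⟩ := (hz _ _).1 h1
    exact ⟨-w, mul_left_cancel₀ (show (2 : ℤ) * q ≠ 0 by omega) (by linarith)⟩
  set k : ℤ := -(j' * (1 - q)) with hk
  obtain ⟨σ, hσdef⟩ : ∃ σ, σ = c ^ k * s := ⟨_, rfl⟩
  have hσ : σ * c * σ⁻¹ = c ^ (1 + 2 * (q : ℤ)) := by
    rw [hσdef, show c ^ k * s * c * (c ^ k * s)⁻¹ = c ^ k * (s * c * s⁻¹) * (c ^ k)⁻¹ by group, hs]
    group
  have hσ2 : σ * σ = 1 := by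
    rw [hσdef, show c ^ k * s * (c ^ k * s) = c ^ k * (s * c ^ k * s⁻¹) * (s * s) by group,
      conj_zpow_of_eq hs, ← hj, ← zpow_mul, ← zpow_add, ← zpow_add, zpow_one_iff hc]
    exact ⟨j' * p, by rw [hk]; push_cast; linear_combination (2 * j' * (q : ℤ)) * hp⟩
  have hσc : σ ∉ zpowers c := fun h =>
    hsc (((zpowers c).mul_mem_cancel_left (zpow_mem (mem_zpowers c) k)).1 (hσdef ▸ h))
  have hσz : ∀ i : ℤ, σ * c ^ i * σ⁻¹ = c ^ ((1 + 2 * (q : ℤ)) * i) := fun i => by
    rw [conj_zpow_of_eq hσ, ← zpow_mul]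
  set z := c ^ (2 * (q : ℤ)) with hzdef
  have hcentral : ∀ d, d * z = z * d := by
    intro d
    obtain ⟨u, hu⟩ := hact d
    obtain ⟨m, rfl⟩ := hodd d u hu
    refine mul_inv_eq_iff_eq_mul.1 ?_
    rw [hzdef, conj_zpow_of_eq hu, ← zpow_mul, hz]
    exact ⟨-m, by ring⟩
  have ho : orderOf z = 2 := by
    refine orderOf_eq_prime ?_ ?_
    · rw [← zpow_natCast, hzdef, ← zpow_mul, zpow_one_iff hc]
      exact ⟨1, by push_cast; ring⟩
    · rw [hzdef, ne_eq, zpow_one_iff hc]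
      rintro ⟨v, hv⟩
      push_cast at hv
      have h3 : (2 : ℤ) * q * (2 * v - 1) = 0 := by linear_combination -hv
      rcases mul_eq_zero.1 h3 with h | h <;> omega
  refine ⟨z, fun h => ?_, hcentral, fun {H} _ f hf => ?_⟩
  · rw [h, orderOf_one] at ho
    omega
  have hrange := card_range hf
  rw [ho, hcard] at hrange
  have hzc : z ∈ zpowers c := zpow_mem (mem_zpowers c) _
  have hr : orderOf (f c) = 2 * q := orderOf_map hf fun k => by
    rw [mem_zpowers_iff]
    push_cast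
    constructor
    · rintro ⟨l, hl⟩
      rw [hzdef, ← zpow_mul] at hl
      obtain ⟨v, hv⟩ := (hz _ _).1 hl
      exact ⟨l + 2 * v, by linarith⟩
    · rintro ⟨v, rfl⟩
      exact ⟨v, by rw [hzdef, ← zpow_mul]⟩
  have hzr : ∀ i j : ℤ, f c ^ i = f c ^ j ↔ 2 * (q : ℤ) ∣ j - i := fun i j => by
    rw [zpow_eq_iff hr]
    push_cast
    rfl
  have htc : t ∉ zpowers c := by
    rintro ⟨i, rfl⟩
    have h1 : c ^ (1 : ℤ) = c ^ (-1 : ℤ) := by rw [← ht]; group
    obtain ⟨w, hw⟩ := (hz _ _).1 h1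
    have : (1 : ℤ) = 4 * (-(p * w)) := by rw [hp] at hw; linarith
    omega
  obtain ⟨i, hi⟩ := hcyc t
  simp only at hi
  have hi2 : 2 * (q : ℤ) ∣ i := by
    have h1 : c ^ (-i) = c ^ i := by
      calc c ^ (-i) = t * c ^ i * t⁻¹ := by rw [conj_zpow_of_eq ht, ← zpow_mul, neg_one_mul]
        _ = c ^ i := by rw [hi]; group
    obtain ⟨w, hw⟩ := (hz _ _).1 h1
    exact ⟨w, by linarith⟩
  refine Or.inr (Or.inr (Or.inr (Or.inr (Or.inr (Or.inr (Or.inr
    ⟨f c, f σ, f t, 2 * q, ?_⟩))))))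
  refine ⟨two_mul_two_pow hq, by omega, ⟨c, rfl⟩, ⟨σ, rfl⟩, ⟨t, rfl⟩, hr, ?_,
    map_not_mem hf hzc (mem_zpowers c) hσc, ?_, ?_,
    ⟨map_not_mem hf hzc (mem_zpowers c) htc, ?_⟩, by omega, Or.inl ⟨?_, ?_⟩⟩
  · rw [← map_mul, hσ2, map_one]
  · refine mul_inv_eq_iff_eq_mul.1 ?_
    rw [← map_inv, ← map_mul, ← map_mul, hσ, map_zpow]
    conv_rhs => rw [← zpow_one (f c)]
    rw [hzr]
    exact ⟨-1, by ring⟩
  · -- conjugating by `t` only moves `σ` by the central involution
    show f σ * f t = f t * f σ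
    have h1 : σ⁻¹ * (t * σ * t⁻¹) ∈ zpowers c := by
      refine hcent _ (mul_inv_eq_iff_eq_mul.1 ?_)
      have h2 : t * σ * t⁻¹ * c * (t * σ * t⁻¹)⁻¹ = σ * c * σ⁻¹ := by
        calc t * σ * t⁻¹ * c * (t * σ * t⁻¹)⁻¹
            = t * (σ * (t⁻¹ * c * t) * σ⁻¹) * t⁻¹ := by group
          _ = σ * c * σ⁻¹ := by
            rw [show t⁻¹ * c * t = c ^ (-1 : ℤ) by
              rw [zpow_neg_one, ← inv_inj, inv_inv]
              calc (t⁻¹ * c * t)⁻¹ = t⁻¹ * (c ^ (-1 : ℤ)) * t := by group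
                _ = c := by rw [← ht]; group, hσz, conj_zpow_of_eq ht, ← zpow_mul, hσ]
            congr 1
            ring
      calc σ⁻¹ * (t * σ * t⁻¹) * c * (σ⁻¹ * (t * σ * t⁻¹))⁻¹
          = σ⁻¹ * (t * σ * t⁻¹ * c * (t * σ * t⁻¹)⁻¹) * σ := by group
        _ = c := by rw [h2]; group
    obtain ⟨l, hl⟩ := h1
    simp only at hl
    rw [eq_inv_mul_iff_mul_eq] at hl
    have h3 : σ * c ^ l * (σ * c ^ l) = 1 := by
      rw [hl, show t * σ * t⁻¹ * (t * σ * t⁻¹) = t * (σ * σ) * t⁻¹ by group, hσ2]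
      group
    rw [show σ * c ^ l * (σ * c ^ l) = σ * c ^ l * σ⁻¹ * (σ * σ) * c ^ l by group, hσ2, mul_one,
      hσz, ← zpow_add, zpow_one_iff hc] at h3
    obtain ⟨w, hw⟩ := h3
    push_cast at hw
    have h4 : (2 * q : ℤ) ∣ (q + 1) * l := ⟨w, by linarith⟩
    have h5 : 2 * (q : ℤ) ∣ l := by
      have := cancel_odd (two_mul_two_pow hq) (o := (q : ℤ) + 1) (x := l) ⟨p, by rw [hp]⟩
        (by push_cast; exact h4)
      exact_mod_cast this
    rw [← map_mul, ← map_mul, map_eq_iff hf,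
      show (σ * t)⁻¹ * (t * σ) = t⁻¹ * (σ⁻¹ * (t * σ * t⁻¹)) * t by group, ← hl,
      inv_mul_cancel_left]
    obtain ⟨v, rfl⟩ := h5
    refine ⟨v, ?_⟩
    show z ^ v = t⁻¹ * c ^ (2 * (q : ℤ) * v) * t
    rw [zpow_mul, ← hzdef, mul_assoc,
      ← ((show Commute t z from hcentral t).zpow_right v).eq, inv_mul_cancel_left]
  · rw [← map_mul]
    refine map_not_mem hf hzc (mem_zpowers c) fun ⟨l, hl⟩ => ?_
    simp only at hl
    have h1 : c ^ (1 : ℤ) = c ^ (-(1 + 2 * (q : ℤ))) := by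
      calc c ^ (1 : ℤ) = t * σ * c * (t * σ)⁻¹ := by rw [← hl]; group
        _ = t * (σ * c * σ⁻¹) * t⁻¹ := by group
        _ = c ^ (-(1 + 2 * (q : ℤ))) := by
          rw [hσ, conj_zpow_of_eq ht, ← zpow_mul, neg_one_mul]
    obtain ⟨w, hw⟩ := (hz _ _).1 h1
    have : (1 : ℤ) = 2 * (-p - 2 * (p * w)) := by rw [hp] at hw; linarith
    omega
  · obtain ⟨v, hv⟩ := hi2
    rw [← map_mul, hf, ← hi, hv, hzdef, mem_zpowers_iff]
    exact ⟨v, by rw [← zpow_mul]⟩
  · rw [← map_inv, ← map_inv, ← map_mul, ← map_mul, ht, zpow_neg_one]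

end CfsgLib.BlockA.IndexFour
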