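import Cfsg.Agent.Lib.BlockA.IndexFour.ReductionAbelian
import Cfsg.Agent.Lib.BlockA.IndexFour.ReductionNormal
import Cfsg.Agent.Lib.BlockA.IndexFour.ReductionModular
import Mathlib.GroupTheory.Nilpotent
import Mathlib.GroupTheory.PGroup

/-!
Defect groups with a cyclic subgroup of index four have a good quotient by a central cyclic
subgroup.
-/

set_option autoImplicit false

namespace CfsgLib.BlockA.IndexFour

open Subgroup

universe u

section Whole

variable {Γ : Type u} [Group Γ] [Finite Γ]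

theorem mem_normalizer_zpowers {g c : Γ} (h : g * c * g⁻¹ ∈ zpowers c) :
    g ∈ normalizer (zpowers c : Set Γ) := by
  rw [mem_normalizer_iff_map_conj_eq, MonoidHom.map_zpowers]
  refine Subgroup.eq_of_le_of_card_ge (zpowers_le.2 (by simpa using h)) ?_
  rw [Nat.card_zpowers, Nat.card_zpowers]
  exact ((MulAut.conj g).orderOf_eq c).ge

/-- An element of order four outside whose cyclic group is normalised forces a quaternion `N`. -/
theorem exists_normal_of_inverting {q : ℕ} (hq : ∃ k : ℕ, q = 2 ^ k) {N : Subgroup Γ} {c y t : Γ}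
    (hN : N.index = 2) (hc : orderOf c = 4 * q)
    (hform : ∀ x ∈ N, ∃ i : ℤ, x = c ^ i ∨ x = c ^ i * y) (hcN : c ∈ N) {u k : ℤ}
    (hu : y * c * y⁻¹ = c ^ u) (hk : y * y = c ^ (2 * k)) (hodd : Odd u)
    (hu2 : 4 * (q : ℤ) ∣ u * u - 1) (hu1 : ¬ 4 * (q : ℤ) ∣ u - 1)
    (hu3 : 2 * (q : ℤ) ∣ u + 1) (htN : t ∉ N) (htc : t * c * t⁻¹ ∉ zpowers c) :
    ∃ v : Γ, orderOf v = 4 * q ∧ (zpowers v).Normal := by
  have hq1 : 1 ≤ q := by
    obtain ⟨k, rfl⟩ := hq
    exact Nat.one_le_two_pow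
  have hz : ∀ i j : ℤ, c ^ i = c ^ j ↔ 4 * (q : ℤ) ∣ j - i := fun i j => by
    rw [zpow_eq_iff hc]
    push_cast
    rfl
  have hconj : ∀ i : ℤ, y * c ^ i = c ^ (u * i) * y := fun i => by
    rw [← mul_inv_eq_iff_eq_mul, conj_zpow_of_eq hu, ← zpow_mul]
  have hsqy : ∀ i : ℤ, c ^ i * y * (c ^ i * y) = c ^ ((1 + u) * i + 2 * k) := fun i => by
    rw [show c ^ i * y * (c ^ i * y) = c ^ i * (y * c ^ i) * y by group, hconj, ← mul_assoc,
      mul_assoc, hk, ← zpow_add, ← zpow_add]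
    congr 1
    ring
  obtain ⟨m, hm⟩ := hodd
  obtain ⟨w₀, hw₀⟩ := hu3
  -- the even exponent of the square of `y`
  have hk' : 2 * (q : ℤ) ∣ 2 * k := by
    have h1 : c ^ (u * (2 * k)) = c ^ (2 * k) := by
      calc c ^ (u * (2 * k)) = y * c ^ (2 * k) * y⁻¹ := by rw [conj_zpow_of_eq hu, ← zpow_mul]
        _ = c ^ (2 * k) := by rw [← hk]; group
    obtain ⟨w, hw⟩ := (hz _ _).1 h1
    exact ⟨w + w₀ * k, mul_left_cancel₀ (show (2 : ℤ) ≠ 0 by norm_num)
      (by linear_combination hw + 2 * k * hw₀)⟩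
  obtain ⟨kk, hkk⟩ := hk'
  have hNn : N.Normal := normal_of_index_eq_two hN
  obtain ⟨i, hi⟩ : ∃ i : ℤ, t * c * t⁻¹ = c ^ i * y := by
    obtain ⟨i, h | h⟩ := hform _ (hNn.conj_mem c hcN t)
    · exact absurd (h ▸ zpow_mem (mem_zpowers c) i) htc
    · exact ⟨i, h⟩
  have hfour : ∀ l : ℤ, (c ^ l * y) ^ (4 : ℤ) = 1 := fun l => by
    rw [show (4 : ℤ) = 2 * 2 by norm_num, zpow_mul, zpow_two (c ^ l * y), hsqy, ← zpow_mul,
      zpow_one_iff hc]
    push_cast
    exact ⟨w₀ * l + kk, by linear_combination 2 * hkk + 2 * l * hw₀⟩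
  obtain rfl : q = 1 := by
    have h1 : c ^ (4 : ℤ) = 1 := by
      have := hfour i
      rwa [← hi, conj_zpow, conj_eq_one_iff] at this
    obtain ⟨v, hv⟩ := (zpow_one_iff hc _).1 h1
    push_cast at hv
    have h2 : (q : ℤ) ∣ 1 := ⟨v, by linarith⟩
    exact Nat.dvd_one.1 (by exact_mod_cast h2)
  have hzq : ∀ i j : ℤ, c ^ i = c ^ j ↔ (4 : ℤ) ∣ j - i := fun i j => by
    rw [hz]
    norm_num
  simp only [Nat.cast_one, mul_one] at hu1 hu2 hw₀ hkk
  have hu' : c ^ u = c ^ (-1 : ℤ) := by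
    rw [hzq]
    omega
  have hyy : y * y = c ^ (2 : ℤ) := by
    rw [hk, hzq]
    rcases Int.even_or_odd' k with ⟨l, rfl | rfl⟩
    · exfalso
      -- then every element outside `⟨c⟩` is an involution
      have h3 : t * (c * c) * t⁻¹ = 1 := by
        rw [show t * (c * c) * t⁻¹ = t * c * t⁻¹ * (t * c * t⁻¹) by group, hi, hsqy,
          ← zpow_zero c, hzq]
        have : (1 + u) % 4 = 0 := by omega
        obtain ⟨e, he⟩ := Int.dvd_of_emod_eq_zero this
        exact ⟨-(e * i + l), by rw [he]; ring⟩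
      rw [conj_eq_one_iff, ← zpow_two, zpow_one_iff hc] at h3
      norm_num at h3
    · exact ⟨-l, by ring⟩
  set w := c ^ i * y with hw
  have hwc : ∀ l : ℤ, w * c ^ l = c ^ (-l) * w := fun l => by
    rw [hw, mul_assoc, hconj, ← mul_assoc, ← mul_assoc, ← zpow_add, ← zpow_add]
    congr 1
    rw [hzq]
    have : c ^ u = c ^ (-1 : ℤ) := hu'
    rw [hzq] at this
    obtain ⟨e, he⟩ := this
    exact ⟨e * l, by linear_combination l * he⟩
  set v := c ^ (1 : ℤ) * w with hv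
  have hww : w * w = c ^ (2 : ℤ) := by
    rw [hw, hsqy, hzq]
    obtain ⟨e, he⟩ := (hzq _ _).1 hu'
    obtain ⟨e', he'⟩ := (hzq _ _).1 (hk.symm.trans hyy)
    exact ⟨e * i + e', by linear_combination i * he + he'⟩
  have hvv : v * v = c ^ (2 : ℤ) := by
    rw [hv, show c ^ (1 : ℤ) * w * (c ^ (1 : ℤ) * w) = c ^ (1 : ℤ) * (w * c ^ (1 : ℤ)) * w by group,
      hwc, show c ^ (1 : ℤ) * (c ^ (-1 : ℤ) * w) * w = w * w by group, hww]
  have hov : orderOf v = 4 * 1 := by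
    rw [show 4 * 1 = 2 ^ (1 + 1) by norm_num]
    refine orderOf_eq_prime_pow ?_ ?_
    · rw [pow_one, pow_two, hvv, zpow_one_iff hc]
      norm_num
    · rw [show (2 : ℕ) ^ (1 + 1) = 2 * 2 by norm_num, pow_mul, pow_two v, hvv, ← zpow_natCast,
        ← zpow_mul, zpow_one_iff hc]
      norm_num
  refine ⟨v, hov, ?_⟩
  rw [← normalizer_eq_top_iff]
  have hcv : c ^ (1 : ℤ) ∈ normalizer (zpowers v : Set Γ) := by
    refine mem_normalizer_zpowers ?_
    rw [show c ^ (1 : ℤ) * v * (c ^ (1 : ℤ))⁻¹ = c ^ (1 : ℤ) * c ^ (1 : ℤ) * (w * c ^ (-1 : ℤ))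
      by rw [hv]; group, hwc, show c ^ (1 : ℤ) * c ^ (1 : ℤ) * (c ^ (- -(1 : ℤ)) * w) =
        c ^ (2 : ℤ) * v by simp only [hv, neg_neg, ← mul_assoc, ← zpow_add]; norm_num, ← hvv]
    exact mul_mem (mul_mem (mem_zpowers v) (mem_zpowers v)) (mem_zpowers v)
  have hwcv : w * c ^ (1 : ℤ) ∈ zpowers v := by
    rw [hwc, show c ^ (-1 : ℤ) * w = (c ^ (2 : ℤ))⁻¹ * v by rw [hv]; group, ← hvv]
    exact mul_mem (inv_mem (mul_mem (mem_zpowers v) (mem_zpowers v))) (mem_zpowers v)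
  have hwv : w ∈ normalizer (zpowers v : Set Γ) := by
    refine mem_normalizer_zpowers ?_
    rw [show w * v * w⁻¹ = w * c ^ (1 : ℤ) by rw [hv]; group]
    exact hwcv
  have htv : t ∈ normalizer (zpowers v : Set Γ) := by
    refine mem_normalizer_zpowers ?_
    have hti : t * c ^ (1 : ℤ) * t⁻¹ = w := by rw [zpow_one, hi]
    obtain ⟨l, h | h⟩ : ∃ l : ℤ, t * t = c ^ l ∨ t * t = c ^ l * y :=
      hform _ ((mul_mem_iff_of_index_two hN).2 Iff.rfl : t * t ∈ N)
    · rw [show t * v * t⁻¹ = t * c ^ (1 : ℤ) * t⁻¹ * (t * w * t⁻¹) by rw [hv]; group, hti,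
        show t * w * t⁻¹ = t * (t * c ^ (1 : ℤ) * t⁻¹) * t⁻¹ by rw [hti],
        show t * (t * c ^ (1 : ℤ) * t⁻¹) * t⁻¹ = t * t * c ^ (1 : ℤ) * (t * t)⁻¹ by group, h,
        show c ^ l * c ^ (1 : ℤ) * (c ^ l)⁻¹ = c ^ (1 : ℤ) by group]
      exact hwcv
    · rw [show t * v * t⁻¹ = t * c ^ (1 : ℤ) * t⁻¹ * (t * w * t⁻¹) by rw [hv]; group, hti,
        show t * w * t⁻¹ = t * (t * c ^ (1 : ℤ) * t⁻¹) * t⁻¹ by rw [hti],
        show t * (t * c ^ (1 : ℤ) * t⁻¹) * t⁻¹ = t * t * c ^ (1 : ℤ) * (t * t)⁻¹ by group, h,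
        show c ^ l * y * c ^ (1 : ℤ) * (c ^ l * y)⁻¹ = c ^ l * (y * c * y⁻¹) * (c ^ l)⁻¹ by group,
        hu, hu', show c ^ l * c ^ (-1 : ℤ) * (c ^ l)⁻¹ = c ^ (-1 : ℤ) by group, hwc]
      rw [show c ^ (- -(1 : ℤ)) * w = v by rw [hv, neg_neg]]
      exact mem_zpowers v
  refine eq_top_of_index_two hN (fun x hx => ?_) htv htN
  rw [zpow_one] at hcv
  have hy : y ∈ normalizer (zpowers v : Set Γ) :=
    ((normalizer _).mul_mem_cancel_left (zpow_mem hcv i)).1 hwv
  obtain ⟨l, rfl | rfl⟩ := hform x hx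
  · exact zpow_mem hcv l
  · exact mul_mem (zpow_mem hcv l) hy

theorem hasGood (hΓ : IsPGroup 2 Γ) [Nontrivial Γ] (hex : ∃ c : Γ, Nat.card Γ ≤ 4 * orderOf c) :
    HasGood Γ := by
  classical
  have : Fact (Nat.Prime 2) := ⟨Nat.prime_two⟩
  obtain ⟨M, hM⟩ := hΓ.exists_card_eq
  rcases le_or_gt (Nat.card Γ) 8 with h8 | h8
  · have := hΓ.center_nontrivial
    obtain ⟨M', hM'⟩ := (hΓ.to_subgroup (center Γ)).exists_card_eq
    have h2 : 2 ∣ Nat.card (center Γ) := by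
      rw [hM']
      refine dvd_pow_self 2 fun h => ?_
      rw [h, pow_zero] at hM'
      exact not_subsingleton (center Γ) (Nat.card_eq_one_iff_unique.1 hM').1
    obtain ⟨z, hz⟩ := exists_prime_orderOf_dvd_card' 2 h2
    rw [← Subgroup.orderOf_coe] at hz
    refine hasGood_of_card_le (z := (z : Γ)) (fun d => mem_center_iff.1 z.2 d) (fun h => ?_)
      (by omega)
    rw [h, orderOf_one] at hz
    omega
  have hM4 : 4 ≤ M := by
    by_contra h
    have : 2 ^ M ≤ 2 ^ 3 := Nat.pow_le_pow_right two_pos (by omega)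
    omega
  obtain ⟨q, hq, hcard⟩ : ∃ q, (∃ k : ℕ, q = 2 ^ k) ∧ Nat.card Γ = 16 * q :=
    ⟨2 ^ (M - 4), ⟨_, rfl⟩, by
      rw [hM, show (16 : ℕ) = 2 ^ 4 by norm_num, ← pow_add, Nat.add_sub_cancel' hM4]⟩
  clear hM hM4
  have hq1 : 1 ≤ q := by omega
  obtain ⟨n, hn⟩ : ∃ n : ℕ, 4 * q = 2 ^ n := four_mul_two_pow hq
  have hord : ∀ x : Γ, ∃ i : ℕ, i ≤ n + 2 ∧ orderOf x = 2 ^ i := fun x =>
    (Nat.dvd_prime_pow Nat.prime_two).1 (by
      rw [pow_add, ← hn, show 4 * q * 2 ^ 2 = Nat.card Γ by rw [hcard]; ring]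
      exact orderOf_dvd_natCard x)
  by_cases hbig : ∃ x : Γ, 4 * q < orderOf x
  · obtain ⟨x, hx⟩ := hbig
    obtain ⟨i, hi, hxi⟩ := hord x
    have hi' : n < i := (Nat.pow_lt_pow_iff_right one_lt_two).1 (by rw [← hn, ← hxi]; exact hx)
    obtain ⟨c, hc⟩ : ∃ c : Γ, orderOf c = 8 * q := by
      rw [show 8 * q = 2 * (4 * q) by ring, hn, ← pow_succ']
      rcases (show i = n + 1 ∨ i = n + 2 by omega) with rfl | rfl
      · exact ⟨x, hxi⟩
      · refine ⟨x ^ 2, ?_⟩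
        rw [orderOf_pow' x two_ne_zero, hxi, Nat.gcd_eq_right (dvd_pow_self 2 (by omega)), pow_succ,
          Nat.mul_div_cancel _ two_pos]
    exact hasGood_of_cyclic_index_two hq hcard hc
  push Not at hbig
  have hle : ∀ x : Γ, x ^ (4 * q) = 1 := fun x => by
    obtain ⟨i, -, hi⟩ := hord x
    refine orderOf_dvd_iff_pow_eq_one.1 ?_
    rw [hi, hn]
    exact pow_dvd_pow 2 ((Nat.pow_le_pow_iff_right one_lt_two).1 (by rw [← hi, ← hn]; exact hbig x))
  obtain ⟨c, hc⟩ : ∃ c : Γ, orderOf c = 4 * q := by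
    obtain ⟨c, hc⟩ := hex
    exact ⟨c, le_antisymm (hbig c) (by omega)⟩
  have hcent : ∀ c : Γ, orderOf c = 4 * q → ∀ x : Γ, Commute x c →
      x ∉ zpowers c → HasGood Γ := by
    intro c hc x hxc hx
    set L := centralizer ({c} : Set Γ) with hLdef
    have hcL : c ∈ L := mem_centralizer_singleton_iff.2 rfl
    have hxL : x ∈ L := mem_centralizer_singleton_iff.2 hxc
    have hidx := (zpowers c).card_mul_index
    rw [Nat.card_zpowers, hc, hcard] at hidx
    have hidx4 : (zpowers c).index = 4 := Nat.eq_of_mul_eq_mul_left (show 0 < 4 * q by omega)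
      (by rw [hidx]; ring)
    rw [← relIndex_mul_index (zpowers_le.2 hcL)] at hidx4
    have hne1 : (zpowers c).relIndex L ≠ 1 := fun h => hx (relIndex_eq_one.1 h hxL)
    obtain ⟨i, hi, hr⟩ := (Nat.dvd_prime_pow Nat.prime_two).1
      (show (zpowers c).relIndex L ∣ 2 ^ 2 from Dvd.intro _ hidx4)
    interval_cases i
    · exact absurd hr hne1
    · -- index two
      rw [hr] at hidx4
      have hL2 : L.index = 2 := by omega
      have hcardL : Nat.card L = 2 * (4 * q) := by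
        have h := L.card_mul_index
        rw [hL2, hcard] at h
        omega
      have hxx : x * x ∈ zpowers c :=
        (mul_mem_iff_of_index_two (H := (zpowers c).subgroupOf L) hr (a := ⟨x, hxL⟩)
          (b := ⟨x, hxL⟩)).2 Iff.rfl
      obtain ⟨k, hk⟩ := hxx
      simp only at hk
      obtain ⟨l, rfl | rfl⟩ := Int.even_or_odd' k
      · refine hasGood_of_abelian_index_two hq hcard hc (a := c ^ (-l) * x) ?_ ?_ ?_ hL2 hcL
          (mul_mem (zpow_mem hcL _) hxL)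
        · rw [show c ^ (-l) * x * (c ^ (-l) * x) = c ^ (-l) * (x * c ^ (-l)) * x by group,
            (hxc.zpow_right (-l)).eq, ← mul_assoc, mul_assoc, ← hk, ← zpow_add, ← zpow_add,
            show -l + -l + 2 * l = 0 by ring, zpow_zero]
        · exact ((Commute.refl c).zpow_left _).mul_left hxc
        · exact fun h => hx (((zpowers c).mul_mem_cancel_left (zpow_mem (mem_zpowers c) _)).1 h)
      · exfalso
        have h1 : c ^ ((2 * l + 1) * (2 * (q : ℤ))) = 1 := by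
          rw [zpow_mul, hk, ← zpow_two, ← zpow_mul,
            show (2 : ℤ) * (2 * q) = ((4 * q : ℕ) : ℤ) by push_cast; ring, zpow_natCast, hle]
        obtain ⟨v, hv⟩ := (zpow_one_iff hc _).1 h1
        push_cast at hv
        have h3 : (2 : ℤ) * q * (2 * l + 1 - 2 * v) = 0 := by linear_combination hv
        rcases mul_eq_zero.1 h3 with h | h <;> omega
    · -- central
      rw [hr] at hidx4
      have hLtop : L = ⊤ := index_eq_one.1 (by omega)
      refine hasGood_of_card_le (z := c)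
        (fun d => mem_centralizer_singleton_iff.1 (show d ∈ L by rw [hLtop]; exact mem_top d)) (fun h => ?_) (by omega)
      rw [h, orderOf_one] at hc
      omega
  by_cases hab : ∃ c : Γ, orderOf c = 4 * q ∧ ∃ x : Γ, Commute x c ∧ x ∉ zpowers c
  · obtain ⟨c, hc, x, hxc, hx⟩ := hab
    exact hcent c hc x hxc hx
  push Not at hab
  by_cases hnorm : ∃ c : Γ, orderOf c = 4 * q ∧ (zpowers c).Normal
  · obtain ⟨c, hc, hn⟩ := hnorm
    exact hasGood_of_normal hq hcard hc hn (hab c hc)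
  push Not at hnorm
  -- the normalizer has index two
  set N := normalizer (zpowers c : Set Γ) with hNdef
  have hcN : c ∈ N := le_normalizer (mem_zpowers c)
  have hNtop : N ≠ ⊤ := fun h => hnorm c hc (normalizer_eq_top_iff.1 h)
  have hlt : zpowers c < N := by
    have := hΓ.isNilpotent
    refine Group.normalizerCondition_of_isNilpotent _ (lt_top_iff_ne_top.2 fun h => ?_)
    have h1 := congrArg (fun K : Subgroup Γ => Nat.card K) h
    simp only [Nat.card_zpowers, card_top, hc, hcard] at h1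
    omega
  have hN2 : N.index = 2 ∧ (zpowers c).relIndex N = 2 := by
    have hidx := (zpowers c).card_mul_index
    rw [Nat.card_zpowers, hc, hcard] at hidx
    have hidx4 : (zpowers c).index = 4 := Nat.eq_of_mul_eq_mul_left (show 0 < 4 * q by omega)
      (by rw [hidx]; ring)
    rw [← relIndex_mul_index hlt.le] at hidx4
    have hne1 : (zpowers c).relIndex N ≠ 1 := fun h => hlt.not_ge (relIndex_eq_one.1 h)
    obtain ⟨i, hi, hr⟩ := (Nat.dvd_prime_pow Nat.prime_two).1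
      (show (zpowers c).relIndex N ∣ 2 ^ 2 from Dvd.intro _ hidx4)
    interval_cases i
    · exact absurd hr hne1
    · rw [hr] at hidx4
      exact ⟨by omega, hr⟩
    · rw [hr] at hidx4
      exact absurd (index_eq_one.1 (by omega)) hNtop
  obtain ⟨hN2, hCN⟩ := hN2
  have hcardN : Nat.card N = 2 * (4 * q) := by
    have h := N.card_mul_index
    rw [hN2, hcard] at h
    omega
  obtain ⟨y, hyN, hyC⟩ := SetLike.exists_of_lt hlt
  have hform : ∀ x ∈ N, ∃ i : ℤ, x = c ^ i ∨ x = c ^ i * y := fun x hx =>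
    pair_form (by omega) hc hcN hcardN hyN hyC hx
  obtain ⟨u, hu⟩ := mem_zpowers_iff.1 ((mem_normalizer_iff.1 hyN c).1 (mem_zpowers c))
  replace hu := hu.symm
  have hz : ∀ i j : ℤ, c ^ i = c ^ j ↔ 4 * (q : ℤ) ∣ j - i := fun i j => by
    rw [zpow_eq_iff hc]
    push_cast
    rfl
  obtain ⟨k, hk⟩ : ∃ k : ℤ, c ^ k = y * y :=
    mem_zpowers_iff.1 ((mul_mem_iff_of_index_two (H := (zpowers c).subgroupOf N) hCN
      (a := ⟨y, hyN⟩) (b := ⟨y, hyN⟩)).2 Iff.rfl)
  obtain ⟨l, rfl⟩ : (2 : ℤ) ∣ k := by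
    rcases Int.even_or_odd' k with ⟨l, rfl | rfl⟩
    · exact dvd_mul_right _ _
    exfalso
    have h1 : c ^ ((2 * l + 1) * (2 * (q : ℤ))) = 1 := by
      rw [zpow_mul, hk, ← zpow_two, ← zpow_mul,
        show (2 : ℤ) * (2 * q) = ((4 * q : ℕ) : ℤ) by push_cast; ring, zpow_natCast, hle]
    obtain ⟨v, hv⟩ := (zpow_one_iff hc _).1 h1
    push_cast at hv
    have h3 : (2 : ℤ) * q * (2 * l + 1 - 2 * v) = 0 := by linear_combination hv
    rcases mul_eq_zero.1 h3 with h | h <;> omega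
  have hu2 : 4 * (q : ℤ) ∣ u * u - 1 := by
    have h1 : c ^ (u * u) = c ^ (1 : ℤ) := by
      calc c ^ (u * u) = y * c ^ u * y⁻¹ := by rw [conj_zpow_of_eq hu, ← zpow_mul]
        _ = y * y * c * (y * y)⁻¹ := by rw [← hu]; group
        _ = c ^ (1 : ℤ) := by rw [← hk]; group
    obtain ⟨w, hw⟩ := (hz _ _).1 h1
    exact ⟨-w, by linarith⟩
  have hu1 : ¬ 4 * (q : ℤ) ∣ u - 1 := by
    rintro ⟨w, hw⟩
    refine hyC (hab c hc y (mul_inv_eq_iff_eq_mul.1 ?_))
    conv_rhs => rw [← zpow_one c]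
    rw [hu, hz]
    exact ⟨-w, by linarith⟩
  have hodd : Odd u := by
    refine Int.not_even_iff_odd.1 fun ⟨w, hw⟩ => ?_
    obtain ⟨v, hv⟩ := hu2
    have : (1 : ℤ) = 4 * (w * w - q * v) := by rw [hw] at hv; linarith
    omega
  obtain ⟨t, htN⟩ : ∃ t, t ∉ N := by
    by_contra! h
    exact hNtop (eq_top_iff.2 fun x _ => h x)
  have htc : t * c * t⁻¹ ∉ zpowers c := fun h => htN (mem_normalizer_zpowers h)
  by_cases hq2 : 2 ≤ q ∧ 2 * (q : ℤ) ∣ u - 1
  · obtain ⟨hq2, w, hw⟩ := hq2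
    obtain ⟨w', rfl⟩ : Odd w :=
      Int.not_even_iff_odd.1 fun ⟨e, he⟩ => hu1 ⟨e, by rw [hw, he]; ring⟩
    have hu' : y * c * y⁻¹ = c ^ (1 + 2 * (q : ℤ)) := by
      rw [hu, hz]
      exact ⟨-w', by linarith⟩
    obtain ⟨p, hp⟩ := even_of_two_le hq hq2
    set m : ℤ := -(l * (1 - q)) with hmdef
    refine hasGood_of_modular hq hq2 hcard hc hN2 hcN (mul_mem (zpow_mem hcN m) hyN) ?_
      (fun h => hyC (((zpowers c).mul_mem_cancel_left (zpow_mem (mem_zpowers c) m)).1 h)) ?_ htN htc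
    · rw [show c ^ m * y * (c ^ m * y) = c ^ m * (y * c ^ m * y⁻¹) * (y * y) by group,
        conj_zpow_of_eq hu', ← hk, ← zpow_mul, ← zpow_add, ← zpow_add, zpow_one_iff hc]
      exact ⟨l * p, by rw [hmdef]; push_cast; linear_combination (2 * l * (q : ℤ)) * hp⟩
    · rw [show c ^ m * y * c * (c ^ m * y)⁻¹ = c ^ m * (y * c * y⁻¹) * (c ^ m)⁻¹ by group, hu']
      group
  · exfalso
    have hu3 : 2 * (q : ℤ) ∣ u + 1 := by
      rcases Nat.lt_or_ge q 2 with h | h
      · obtain rfl : q = 1 := by omega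
        obtain ⟨e, he⟩ := hodd
        exact ⟨e + 1, by rw [he]; push_cast; ring⟩
      · exact (sq_one hq (k := u) (by rw [pow_two]; exact hu2)).resolve_left fun h' => hq2 ⟨h, h'⟩
    obtain ⟨v, hv, hvn⟩ :=
      exists_normal_of_inverting hq hN2 hc hform hcN hu hk.symm hodd hu2 hu1 hu3 htN htc
    exact hnorm v hv hvn

end Whole

/-- A `2`-group with a cyclic subgroup of index at most four has a good quotient. -/
theorem hasGoodQuotient {G : Type u} [Group G] [Finite G] {D C : Subgroup G} (hD : IsPGroup 2 D)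
    (hne : D ≠ ⊥) (hCD : C ≤ D) (hcyc : IsCyclic C) (hidx : C.relIndex D ≤ 4) :
    HasGoodQuotient D := by
  have : Nontrivial D := (Subgroup.nontrivial_iff_ne_bot D).2 hne
  have hex : ∃ c : D, Nat.card D ≤ 4 * orderOf c := by
    obtain ⟨g, hg⟩ := IsCyclic.exists_ofOrder_eq_natCard (α := C)
    refine ⟨⟨g, hCD g.2⟩, ?_⟩
    rw [Subgroup.orderOf_mk, Subgroup.orderOf_coe, hg]
    have h := relIndex_mul_relIndex (⊥ : Subgroup G) C D bot_le hCD
    rw [relIndex_bot_left, relIndex_bot_left] at h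
    rw [← h, mul_comm 4]
    exact Nat.mul_le_mul_left _ hidx
  obtain ⟨z, hz1, hzc, hgood⟩ := hasGood hD hex
  refine ⟨z, z.2, fun h => hz1 (Subtype.ext h), fun d hd => congrArg Subtype.val (hzc ⟨d, hd⟩),
    fun {H} _ f hf => hgood f fun d => (hf d).trans ?_⟩
  rw [mem_zpowers_iff, mem_zpowers_iff]
  refine exists_congr fun k => ?_
  rw [Subtype.ext_iff, SubgroupClass.coe_zpow]

end CfsgLib.BlockA.IndexFour
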