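import Cfsg.Agent.Lib.BlockA.IndexFour.ReductionImage

/-!
Defect groups with a cyclic subgroup of index four: the groups with an abelian, noncyclic subgroup
of index two containing the cyclic one, and those with a cyclic subgroup of index two.
-/

set_option autoImplicit false

namespace CfsgLib.BlockA.IndexFour

open Subgroup

universe u

variable {Γ : Type u} [Group Γ]

theorem orderOf_eq_of_iff {x : Γ} {e : ℕ} (h : ∀ k : ℤ, x ^ k = 1 ↔ (e : ℤ) ∣ k) :
    orderOf x = e :=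
  Nat.dvd_antisymm
    (Int.natCast_dvd_natCast.1 (orderOf_dvd_iff_zpow_eq_one.2 ((h e).2 dvd_rfl)))
    (Int.natCast_dvd_natCast.1 ((h _).1 (orderOf_dvd_iff_zpow_eq_one.1 dvd_rfl)))

/-- The elements of a subgroup in which `⟨c⟩` has index two. -/
theorem pair_form {L : Subgroup Γ} {c a : Γ} {N : ℕ} (hN : 0 < N) (hc : orderOf c = N)
    (hcL : c ∈ L) (hL : Nat.card L = 2 * N) (haL : a ∈ L) (ha : a ∉ zpowers c) {x : Γ}
    (hx : x ∈ L) : ∃ i : ℤ, x = c ^ i ∨ x = c ^ i * a := by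
  set Z : Subgroup L := (zpowers c).subgroupOf L
  have hZ : Z.index = 2 := by
    have h1 := relIndex_mul_relIndex (⊥ : Subgroup Γ) (zpowers c) L bot_le (zpowers_le.2 hcL)
    rw [relIndex_bot_left, relIndex_bot_left, Nat.card_zpowers, hc, hL, mul_comm] at h1
    exact Nat.eq_of_mul_eq_mul_right hN h1
  by_cases h : x ∈ zpowers c
  · obtain ⟨i, rfl⟩ := h
    exact ⟨i, Or.inl rfl⟩
  · have h2 : (⟨x, hx⟩ * (⟨a, haL⟩ : L)⁻¹ : L) ∈ Z := (mul_mem_iff_of_index_two hZ).2
      (iff_of_false h fun h' => ha (inv_mem_iff.1 h'))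
    obtain ⟨i, hi⟩ := (h2 : x * a⁻¹ ∈ zpowers c)
    exact ⟨i, Or.inr (eq_mul_inv_iff_mul_eq.1 hi).symm⟩

theorem central_of_index_two {L : Subgroup Γ} (hL : L.index = 2) {t z : Γ} (htL : t ∉ L)
    (hz : ∀ x ∈ L, Commute x z) (ht : t * z * t⁻¹ = z) : ∀ d, d * z = z * d := by
  have h : centralizer {z} = ⊤ := eq_top_of_index_two hL
    (fun x hx => mem_centralizer_singleton_iff.2 (hz x hx))
    (mem_centralizer_singleton_iff.2 (mul_inv_eq_iff_eq_mul.1 ht)) htL
  intro d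
  exact mem_centralizer_singleton_iff.1 (h ▸ mem_top d)

variable [Finite Γ]

/-- A cyclic subgroup of index two. -/
theorem hasGood_of_cyclic_index_two {q : ℕ} (hq : ∃ k : ℕ, q = 2 ^ k)
    (hcard : Nat.card Γ = 16 * q) {c : Γ} (hc : orderOf c = 8 * q) : HasGood Γ := by
  have hq1 : 1 ≤ q := by
    obtain ⟨k, rfl⟩ := hq
    exact Nat.one_le_two_pow
  have hL : (zpowers c).index = 2 := by
    have h := (zpowers c).card_mul_index
    rw [Nat.card_zpowers, hc, hcard] at h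
    exact Nat.eq_of_mul_eq_mul_left (show 0 < 8 * q by omega) (by rw [h]; ring)
  obtain ⟨t, ht⟩ : ∃ t, t ∉ zpowers c := by
    by_contra! h
    rw [show zpowers c = ⊤ from eq_top_iff.2 fun x _ => h x, index_top] at hL
    omega
  have : (zpowers c).Normal := normal_of_index_eq_two hL
  obtain ⟨u, hu⟩ := mem_zpowers_iff.1 (Normal.conj_mem this c (mem_zpowers c) t)
  have hz : ∀ a b : ℤ, c ^ a = c ^ b ↔ 8 * (q : ℤ) ∣ b - a := fun a b => by
    rw [zpow_eq_iff hc]
    push_cast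
    rfl
  have hcomm : ∀ (i : ℤ), ∀ x ∈ zpowers c, Commute x (c ^ i) := by
    rintro i _ ⟨j, rfl⟩
    exact ((Commute.refl c).zpow_left j).zpow_right i
  have hu2 : 8 * (q : ℤ) ∣ u ^ 2 - 1 := by
    obtain ⟨j, hj⟩ := ((mul_mem_iff_of_index_two hL).2 Iff.rfl : t * t ∈ zpowers c)
    simp only at hj
    have h1 : c ^ (u * u) = c ^ (1 : ℤ) := by
      calc c ^ (u * u) = t * c ^ u * t⁻¹ := by
            rw [zpow_mul, conj_zpow_of_eq hu.symm]
        _ = t * t * c * (t * t)⁻¹ := by rw [hu]; group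
        _ = c ^ (1 : ℤ) := by rw [← hj]; group
    rw [hz] at h1
    obtain ⟨w, hw⟩ := h1
    exact ⟨-w, by linear_combination -hw⟩
  have hsq := sq_one (two_mul_two_pow hq) (k := u) (by
    push_cast
    rw [← mul_assoc]
    exact hu2)
  push_cast at hsq
  by_cases h1 : 4 * (q : ℤ) ∣ u - 1
  · have h2 : t * c ^ (2 : ℤ) * t⁻¹ = c ^ (2 : ℤ) := by
      rw [conj_zpow_of_eq hu.symm, ← zpow_mul, hz]
      obtain ⟨w, hw⟩ := h1
      exact ⟨-w, by linear_combination -2 * hw⟩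
    have ho : orderOf (c ^ (2 : ℤ)) = 4 * q := orderOf_eq_of_iff fun k => by
      rw [← zpow_mul, zpow_one_iff hc]
      push_cast
      rw [show (8 : ℤ) * q = 2 * (4 * q) by ring, Int.mul_dvd_mul_iff_left two_ne_zero]
    refine hasGood_of_card_le (z := c ^ (2 : ℤ))
      (central_of_index_two hL ht (hcomm 2) h2) (fun h => ?_) (by rw [ho, hcard]; omega)
    rw [h, orderOf_one] at ho
    omega
  · have h4 : 4 * (q : ℤ) ∣ u + 1 := by
      rcases hsq with h | h
      · exact absurd (by rwa [← mul_assoc] at h) h1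
      · rwa [← mul_assoc] at h
    set z := c ^ (4 * (q : ℤ)) with hzdef
    have hzt : t * z * t⁻¹ = z := by
      rw [hzdef, conj_zpow_of_eq hu.symm, ← zpow_mul, hz]
      obtain ⟨w, hw⟩ := h4
      exact ⟨-(2 * q * w) + 1, by linear_combination (-4 * (q : ℤ)) * hw⟩
    have ho : orderOf z = 2 := orderOf_eq_of_iff fun k => by
      rw [hzdef, ← zpow_mul, zpow_one_iff hc]
      push_cast
      rw [show (8 : ℤ) * q = 4 * q * 2 by ring, Int.mul_dvd_mul_iff_left (by positivity)]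
    refine ⟨z, fun h => ?_, central_of_index_two hL ht (hcomm _) hzt, fun {H} _ f hf => ?_⟩
    · rw [h, orderOf_one] at ho
      omega
    have hrange := card_range hf
    rw [ho, hcard] at hrange
    refine good_of_invert (r := f c) (w := f t) (h := 2 * q) (k := u) (by omega)
      (two_mul_two_pow hq) ⟨c, rfl⟩ ⟨t, rfl⟩
      (orderOf_map hf fun k => ?_) (by omega)
      (map_not_mem hf (zpow_mem (mem_zpowers c) _) (mem_zpowers c) ht) ?_
      (Or.inl (by push_cast; rwa [← mul_assoc]))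
    · rw [mem_zpowers_iff]
      push_cast
      constructor
      · rintro ⟨l, hl⟩
        rw [hzdef, ← zpow_mul, hz] at hl
        obtain ⟨w, hw⟩ := hl
        exact ⟨l + 2 * w, by linear_combination hw⟩
      · rintro ⟨w, rfl⟩
        exact ⟨w, by rw [hzdef, ← zpow_mul]; congr 1; ring⟩
    · rw [← map_zpow, hu, map_mul, map_mul, map_inv]

/-- An abelian subgroup `⟨c⟩ × ⟨a⟩` of index two. -/
theorem hasGood_of_abelian_index_two {q : ℕ} (hq : ∃ k : ℕ, q = 2 ^ k)
    (hcard : Nat.card Γ = 16 * q) {c a : Γ} (hc : orderOf c = 4 * q) (ha : a * a = 1)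
    (hac : Commute a c) (ha' : a ∉ zpowers c) {L : Subgroup Γ} (hL : L.index = 2) (hcL : c ∈ L)
    (haL : a ∈ L) : HasGood Γ := by
  have hq1 : 1 ≤ q := by
    obtain ⟨k, rfl⟩ := hq
    exact Nat.one_le_two_pow
  have hcardL : Nat.card L = 2 * (4 * q) := by
    have h := L.card_mul_index
    rw [hL, hcard] at h
    omega
  have hform : ∀ x ∈ L, ∃ i : ℤ, x = c ^ i ∨ x = c ^ i * a := fun x hx =>
    pair_form (by omega) hc hcL hcardL haL ha' hx
  have hz : ∀ i j : ℤ, c ^ i = c ^ j ↔ 4 * (q : ℤ) ∣ j - i := fun i j => by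
    rw [zpow_eq_iff hc]
    push_cast
    rfl
  have hoa : orderOf a = 2 := orderOf_eq_prime (by rw [pow_two, ha]) fun h =>
    ha' (h ▸ one_mem _)
  have hone : ∀ i j : ℤ, c ^ i * a ^ j = 1 ↔ 4 * (q : ℤ) ∣ i ∧ 2 ∣ j := by
    intro i j
    constructor
    · intro h
      rcases Int.even_or_odd' j with ⟨w, rfl | rfl⟩
      · rw [zpow_mul, zpow_two, ha, one_zpow, mul_one, zpow_one_iff hc] at h
        exact ⟨by exact_mod_cast h, dvd_mul_right 2 w⟩
      · rw [zpow_add_one, zpow_mul, zpow_two, ha, one_zpow, one_mul] at h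
        exact absurd (eq_inv_of_mul_eq_one_right h ▸ inv_mem (zpow_mem (mem_zpowers c) i)) ha'
    · rintro ⟨⟨w, rfl⟩, ⟨v, rfl⟩⟩
      rw [zpow_mul a, zpow_two, ha, one_zpow, mul_one, zpow_one_iff hc]
      push_cast
      exact dvd_mul_right _ w
  have hpow : ∀ i j k : ℤ, (c ^ i * a ^ j) ^ k = c ^ (i * k) * a ^ (j * k) := fun i j k => by
    rw [((hac.symm.zpow_left i).zpow_right j).mul_zpow, ← zpow_mul, ← zpow_mul]
  have heq : ∀ i j i' j' : ℤ, c ^ i * a ^ j = c ^ i' * a ^ j' ↔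
      4 * (q : ℤ) ∣ i' - i ∧ 2 ∣ j' - j := by
    intro i j i' j'
    rw [← hone, ← inv_mul_eq_one]
    refine Iff.of_eq (congrArg (· = 1) ?_)
    rw [zpow_sub c, zpow_sub a, ← zpow_neg c i, mul_inv_rev, ← zpow_neg a j, ← zpow_neg c i]
    have h1 : Commute (a ^ (-j)) (c ^ (-i) * c ^ i') :=
      ((hac.zpow_left _).zpow_right _).mul_right ((hac.zpow_left _).zpow_right _)
    calc a ^ (-j) * c ^ (-i) * (c ^ i' * a ^ j') = a ^ (-j) * (c ^ (-i) * c ^ i') * a ^ j' := by
          group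
      _ = c ^ (-i) * c ^ i' * (a ^ (-j) * a ^ j') := by rw [h1.eq]; group
      _ = c ^ i' * c ^ (-i) * (a ^ j' * a ^ (-j)) := by group
  have hcomm : ∀ i j : ℤ, ∀ x ∈ L, Commute x (c ^ i * a ^ j) := by
    intro i j x hx
    obtain ⟨k, rfl | rfl⟩ := hform x hx
    · exact (((Commute.refl c).zpow_right i).mul_right (hac.symm.zpow_right j)).zpow_left k
    · exact ((((Commute.refl c).zpow_right i).mul_right (hac.symm.zpow_right j)).zpow_left k
        ).mul_left ((hac.zpow_right i).mul_right ((Commute.refl a).zpow_right j))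
  obtain ⟨t, ht⟩ : ∃ t, t ∉ L := by
    by_contra! h
    rw [show L = ⊤ from eq_top_iff.2 fun x _ => h x, index_top] at hL
    omega
  have hLn : L.Normal := normal_of_index_eq_two hL
  obtain ⟨u, ε, hε, hu⟩ : ∃ u ε : ℤ, (ε = 0 ∨ ε = 1) ∧ t * c * t⁻¹ = c ^ u * a ^ ε := by
    obtain ⟨i, h | h⟩ := hform _ (hLn.conj_mem c hcL t)
    · exact ⟨i, 0, Or.inl rfl, by rw [h, zpow_zero, mul_one]⟩
    · exact ⟨i, 1, Or.inr rfl, by rw [h, zpow_one]⟩
  obtain ⟨m, rfl⟩ : Odd u := by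
    refine Int.not_even_iff_odd.1 fun ⟨w, hw⟩ => ?_
    have h1 : (t * c * t⁻¹) ^ (2 * (q : ℤ)) = 1 := by
      rw [hu, hpow, hone]
      exact ⟨⟨w, by rw [hw]; ring⟩, dvd_mul_of_dvd_right (dvd_mul_right _ _) ε⟩
    rw [conj_zpow, conj_eq_one_iff] at h1
    obtain ⟨v, hv⟩ := (zpow_one_iff hc _).1 h1
    push_cast at hv
    have h3 : (2 : ℤ) * q * (2 * v - 1) = 0 := by linear_combination -hv
    rcases mul_eq_zero.1 h3 with h | h <;> omega
  set u : ℤ := 2 * m + 1 with hudef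
  obtain ⟨δ, hδ, hta⟩ : ∃ δ : ℤ, (δ = 0 ∨ δ = 1) ∧ t * a * t⁻¹ = c ^ (2 * q * δ) * a := by
    have h2 : (t * a * t⁻¹) * (t * a * t⁻¹) = 1 := by
      rw [show t * a * t⁻¹ * (t * a * t⁻¹) = t * (a * a) * t⁻¹ by group, ha]
      group
    have hz0 : t * c ^ (2 * (q : ℤ)) * t⁻¹ = c ^ (2 * (q : ℤ)) := by
      rw [conj_zpow_of_eq hu, hpow]
      conv_rhs => rw [← mul_one (c ^ (2 * (q : ℤ))), ← zpow_zero a]
      rw [heq]
      exact ⟨⟨-m, by rw [hudef]; ring⟩, ⟨-(ε * q), by ring⟩⟩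
    obtain ⟨i, h | h⟩ := hform _ (hLn.conj_mem a haL t)
    · exfalso
      rw [h, ← zpow_add, zpow_one_iff hc] at h2
      obtain ⟨w, hw⟩ := h2
      push_cast at hw
      have h3 : c ^ i = (c ^ (2 * (q : ℤ))) ^ w := by
        rw [← zpow_mul]
        congr 1
        linarith
      rw [h3, ← conj_zpow_of_eq hz0 w, mul_left_inj, mul_right_inj, ← zpow_mul] at h
      exact ha' (h ▸ zpow_mem (mem_zpowers c) _)
    · rw [h, show c ^ i * a * (c ^ i * a) = c ^ i * (a * c ^ i) * a by group,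
        (hac.zpow_right i).eq, ← mul_assoc, mul_assoc, ha, mul_one, ← zpow_add,
        zpow_one_iff hc] at h2
      obtain ⟨w, hw⟩ := h2
      push_cast at hw
      rcases Int.even_or_odd' w with ⟨v, rfl | rfl⟩
      · refine ⟨0, Or.inl rfl, ?_⟩
        rw [h, mul_left_inj, hz]
        exact ⟨-v, by linarith⟩
      · refine ⟨1, Or.inr rfl, ?_⟩
        rw [h, mul_left_inj, hz]
        exact ⟨-v, by linarith⟩
  have hconj : ∀ i j : ℤ, t * (c ^ i * a ^ j) * t⁻¹ =
      c ^ (u * i + 2 * q * δ * j) * a ^ (ε * i + j) := by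
    intro i j
    rw [show t * (c ^ i * a ^ j) * t⁻¹ = t * c ^ i * t⁻¹ * (t * a ^ j * t⁻¹) by group,
      conj_zpow_of_eq hu, conj_zpow_of_eq hta, hpow,
      show c ^ (2 * (q : ℤ) * δ) * a = c ^ (2 * (q : ℤ) * δ) * a ^ (1 : ℤ) by rw [zpow_one],
      hpow, one_mul, zpow_add, zpow_add]
    have h1 : Commute (a ^ (ε * i)) (c ^ (2 * (q : ℤ) * δ * j)) :=
      (hac.zpow_left _).zpow_right _
    calc c ^ (u * i) * a ^ (ε * i) * (c ^ (2 * (q : ℤ) * δ * j) * a ^ j)
        = c ^ (u * i) * (a ^ (ε * i) * c ^ (2 * (q : ℤ) * δ * j)) * a ^ j := by group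
      _ = c ^ (u * i) * c ^ (2 * (q : ℤ) * δ * j) * (a ^ (ε * i) * a ^ j) := by
          rw [h1.eq]; group
  have hcentral : ∀ i j : ℤ, 4 * (q : ℤ) ∣ u * i + 2 * q * δ * j - i → 2 ∣ ε * i →
      ∀ d, d * (c ^ i * a ^ j) = c ^ i * a ^ j * d := by
    intro i j h1 h2
    refine central_of_index_two hL ht (hcomm i j) ?_
    rw [hconj, heq]
    obtain ⟨w, hw⟩ := h1
    obtain ⟨v, hv⟩ := h2
    exact ⟨⟨-w, by linarith⟩, ⟨-v, by linarith⟩⟩
  have hu2 : 4 * (q : ℤ) ∣ u * u + 2 * q * δ * ε - 1 := by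
    have h1 : t * t ∈ L := (mul_mem_iff_of_index_two hL).2 Iff.rfl
    have h2 : t * (c ^ u * a ^ ε) * t⁻¹ = c ^ (1 : ℤ) * a ^ (0 : ℤ) := by
      rw [← hu, zpow_one, zpow_zero, mul_one,
        show t * (t * c * t⁻¹) * t⁻¹ = t * t * c * (t * t)⁻¹ by group]
      have := hcomm 1 0 _ h1
      rw [zpow_one, zpow_zero, mul_one] at this
      rw [this.eq]
      group
    rw [hconj, heq] at h2
    obtain ⟨w, hw⟩ := h2.1
    exact ⟨-w, by linarith⟩
  have hmem : ∀ i k : ℤ, c ^ k ∈ zpowers (c ^ i * a ^ (1 : ℤ)) ↔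
      ∃ l : ℤ, 4 * (q : ℤ) ∣ k - 2 * i * l := by
    intro i k
    rw [mem_zpowers_iff]
    constructor
    · rintro ⟨l, hl⟩
      rw [hpow, ← mul_one (c ^ k), ← zpow_zero a, heq] at hl
      obtain ⟨v, hv⟩ := hl.2
      obtain ⟨w, hw⟩ := hl.1
      refine ⟨-v, w, ?_⟩
      have : l = -(2 * v) := by linarith
      rw [this] at hw
      linarith
    · rintro ⟨l, w, hw⟩
      refine ⟨2 * l, ?_⟩
      rw [hpow, ← mul_one (c ^ k), ← zpow_zero a, heq]
      exact ⟨⟨w, by linarith⟩, ⟨-l, by ring⟩⟩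
  by_cases hA : 4 * (q : ℤ) ∣ 2 * u + 2 * q * δ - 2
  · -- `c ^ 2 * a` is central: the quotient has order eight and exponent at least four
    set z := c ^ (2 : ℤ) * a ^ (1 : ℤ) with hzdef
    have ho : orderOf z = 2 * q := orderOf_eq_of_iff fun k => by
      rw [hzdef, hpow, hone]
      push_cast
      constructor
      · rintro ⟨⟨w, hw⟩, -⟩
        exact ⟨w, by linarith⟩
      · rintro ⟨w, rfl⟩
        exact ⟨⟨w, by ring⟩, ⟨q * w, by ring⟩⟩
    refine ⟨z, fun h => ?_, hcentral 2 1 (by convert hA using 1; ring) (dvd_mul_left 2 ε),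
      fun {H} _ f hf => ?_⟩
    · rw [h, orderOf_one] at ho
      omega
    have hrange := card_range hf
    rw [ho, hcard] at hrange
    refine good_of_card_eight (Nat.eq_of_mul_eq_mul_right (show 0 < 2 * q by omega)
      (by rw [hrange]; ring)) (w := f c) ⟨c, rfl⟩ ?_
    rw [← map_mul, ne_eq, hf, show c * c = c ^ (2 : ℤ) by rw [zpow_two], hzdef, hmem]
    rintro ⟨l, w, hw⟩
    have : (2 : ℤ) = 4 * (l + q * w) := by linarith
    omega
  -- the case that `c ^ q * a` is central, with `t` inverting the image of `c`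
  have hfour : δ = 1 → (2 : ℤ) ∣ q → 4 ∣ u + 1 → 2 * (q : ℤ) ∣ u + 1 - ε * q → HasGood Γ := by
    rintro rfl ⟨p, hp⟩ ⟨v, hv⟩ h2u
    set z := c ^ (q : ℤ) * a ^ (1 : ℤ) with hzdef
    have ho : orderOf z = 4 := orderOf_eq_of_iff fun k => by
      rw [hzdef, hpow, hone, one_mul]
      push_cast
      constructor
      · rintro ⟨⟨w, hw⟩, -⟩
        exact ⟨w, mul_left_cancel₀ (show (q : ℤ) ≠ 0 by omega) (by linarith)⟩
      · rintro ⟨w, rfl⟩
        exact ⟨⟨w, by ring⟩, ⟨2 * w, by ring⟩⟩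
    refine ⟨z, fun h => ?_, hcentral q 1 ⟨v, ?_⟩ ⟨ε * p, by rw [hp]; ring⟩,
      fun {H} _ f hf => ?_⟩
    · rw [h, orderOf_one] at ho
      omega
    · linear_combination (q : ℤ) * hv
    have hrange := card_range hf
    rw [ho, hcard] at hrange
    have hfa : f a = f c ^ (-(q : ℤ)) := by
      rw [← map_zpow, eq_comm, map_eq_iff hf, hzdef, zpow_one, zpow_neg, inv_inv]
      exact mem_zpowers _
    refine good_of_invert (r := f c) (w := f t) (h := q) (k := u - ε * q) (by omega) hq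
      ⟨c, rfl⟩ ⟨t, rfl⟩
      (orderOf_map hf fun k => ?_) (by omega) (map_not_mem hf ?_ hcL ht) ?_
      (Or.inl (by convert h2u using 1; ring))
    · rw [hzdef, hmem]
      push_cast
      constructor
      · rintro ⟨l, w, hw⟩
        exact ⟨l + 2 * w, by linarith⟩
      · rintro ⟨w, rfl⟩
        exact ⟨w, 0, by ring⟩
    · rw [hzdef, zpow_one]
      exact L.mul_mem (L.zpow_mem hcL _) haL
    · rw [← map_inv, ← map_mul, ← map_mul, hu, map_mul, map_zpow, map_zpow, hfa, ← zpow_mul,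
        ← zpow_add]
      congr 1
      ring
  rcases hδ with rfl | rfl
  · -- `a` is central
    simp only [mul_zero, zero_mul, add_zero] at hu2 hA
    have hsq := sq_one hq (k := u) (by rwa [pow_two])
    have h2u : 2 * (q : ℤ) ∣ u + 1 := hsq.resolve_left fun ⟨w, hw⟩ => hA ⟨w, by linarith⟩
    have hq2 : 2 ≤ q := by
      by_contra hlt
      obtain rfl : q = 1 := by omega
      exact hA ⟨m, by rw [hudef]; push_cast; ring⟩
    set z := c ^ (0 : ℤ) * a ^ (1 : ℤ) with hzdef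
    have hz' : z = a := by rw [hzdef, zpow_zero, one_mul, zpow_one]
    refine ⟨z, fun h => ha' (by rw [← hz', h]; exact one_mem _),
      hcentral 0 1 ⟨0, by ring⟩ ⟨0, by ring⟩, fun {H} _ f hf => ?_⟩
    have hrange := card_range hf
    rw [hz', hoa, hcard] at hrange
    have hfa : f a = 1 := (hf a).2 (hz' ▸ mem_zpowers z)
    refine good_of_invert (r := f c) (w := f t) (h := 2 * q) (k := u) (by omega)
      (two_mul_two_pow hq) ⟨c, rfl⟩ ⟨t, rfl⟩
      (orderOf_map hf fun k => ?_) (by omega) (map_not_mem hf (by rwa [hz']) hcL ht) ?_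
      (Or.inr ⟨by omega, by push_cast; exact h2u⟩)
    · rw [hzdef, hmem]
      push_cast
      simp only [zero_mul, sub_zero, exists_const]
      rw [show (2 : ℤ) * (2 * q) = 4 * q by ring]
    · rw [← map_inv, ← map_mul, ← map_mul, hu, map_mul, map_zpow, map_zpow, hfa, one_zpow,
        mul_one]
  rcases hε with rfl | rfl
  · simp only [mul_zero, add_zero] at hu2
    by_cases h1u : 2 * (q : ℤ) ∣ u - 1
    · -- `c` or `c * a` is central
      obtain ⟨w, hw⟩ := h1u
      obtain ⟨i, hi, ho⟩ : ∃ i : ℤ, 4 * (q : ℤ) ∣ u * 1 + 2 * q * 1 * i - 1 ∧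
          orderOf (c ^ (1 : ℤ) * a ^ i) = 4 * q := by
        have h1 : ∀ i : ℤ, orderOf (c ^ (1 : ℤ) * a ^ i) = 4 * q := fun i =>
          orderOf_eq_of_iff fun k => by
            rw [hpow, hone, one_mul]
            push_cast
            exact ⟨fun h => h.1, fun ⟨e, he⟩ => ⟨⟨e, he⟩, ⟨i * (2 * q) * e, by rw [he]; ring⟩⟩⟩
        rcases Int.even_or_odd' w with ⟨e, rfl | rfl⟩
        · exact ⟨0, ⟨e, by linarith⟩, h1 0⟩
        · exact ⟨1, ⟨e + 1, by linarith⟩, h1 1⟩
      refine hasGood_of_card_le (hcentral 1 i hi (by simp)) (fun h => ?_)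
        (by rw [ho, hcard]; omega)
      rw [h, orderOf_one] at ho
      omega
    · have hq2 : 2 ≤ q := by
        by_contra hlt
        obtain rfl : q = 1 := by omega
        exact h1u ⟨m, by rw [hudef]; push_cast; ring⟩
      obtain ⟨p, hp⟩ := even_of_two_le hq hq2
      obtain ⟨w, hw⟩ := (sq_one hq (k := u) (by rwa [pow_two])).resolve_left h1u
      exact hfour rfl ⟨p, hp⟩ ⟨p * w, by rw [hw, hp]; ring⟩ ⟨w, by rw [hw]; ring⟩
  · -- `t ^ 2` moves `c` by the central involution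
    rcases Int.even_or_odd' m with ⟨v, hv | hv⟩
    · exfalso
      -- `u = 1 + 4 * v`
      obtain ⟨w, hw⟩ := hu2
      obtain ⟨e, he⟩ := cancel_odd (four_mul_two_pow hq) (o := 2 * v + 1) (x := 8 * v + 2 * q)
        ⟨v, rfl⟩ (by
          push_cast
          refine ⟨w + v, ?_⟩
          rw [hudef, hv] at hw
          linear_combination hw)
      push_cast at he
      exact hA ⟨e, by rw [hudef, hv]; linarith⟩
    · -- `u = -1 + 4 * (v + 1)`
      obtain ⟨w, hw⟩ := hu2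
      obtain ⟨e, he⟩ := cancel_odd (four_mul_two_pow hq) (o := 2 * v + 1)
        (x := 8 * (v + 1) - 2 * q) ⟨v, rfl⟩ (by
          push_cast
          refine ⟨w - v - 1, ?_⟩
          rw [hudef, hv] at hw
          linear_combination hw)
      push_cast at he
      refine hfour rfl ⟨2 * (v + 1) - q * e, ?_⟩ ⟨v + 1, by rw [hudef, hv]; ring⟩
        ⟨e, by rw [hudef, hv]; linarith⟩
      linarith

end CfsgLib.BlockA.IndexFour
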