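import Cfsg.Agent.Lib.BlockA.IndexFour.Defs
import Cfsg.Agent.Lib.PGroup.CyclicIndexClass

/-!
Defect groups with a cyclic subgroup of index four: recognising good images, and the elementary
facts about powers of two used in the reduction.
-/

set_option autoImplicit false

namespace CfsgLib.BlockA.IndexFour

open Subgroup

universe u

/-- `HasGoodQuotient` for a whole group. -/
def HasGood (Γ : Type u) [Group Γ] : Prop :=
  ∃ z : Γ, z ≠ 1 ∧ (∀ d, d * z = z * d) ∧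
    ∀ {H : Type u} [Group H] (f : Γ →* H), (∀ d, f d = 1 ↔ d ∈ zpowers z) → Good f.range

/-! ### Powers of two -/

theorem cast_two_pow {d : ℕ} (hd : ∃ k : ℕ, d = 2 ^ k) : ∃ k : ℕ, (d : ℤ) = 2 ^ k := by
  obtain ⟨k, rfl⟩ := hd
  exact ⟨k, by push_cast; rfl⟩

theorem four_mul_two_pow {q : ℕ} (hq : ∃ k : ℕ, q = 2 ^ k) : ∃ k : ℕ, 4 * q = 2 ^ k := by
  obtain ⟨k, rfl⟩ := hq
  exact ⟨k + 2, by ring⟩

theorem two_mul_two_pow {q : ℕ} (hq : ∃ k : ℕ, q = 2 ^ k) : ∃ k : ℕ, 2 * q = 2 ^ k := by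
  obtain ⟨k, rfl⟩ := hq
  exact ⟨k + 1, by ring⟩

theorem cancel_odd {d : ℕ} (hd : ∃ k : ℕ, d = 2 ^ k) {o x : ℤ} (ho : Odd o)
    (h : (d : ℤ) ∣ o * x) : (d : ℤ) ∣ x := by
  obtain ⟨k, hk⟩ := cast_two_pow hd
  rw [hk] at h ⊢
  refine (IsCoprime.pow_left ?_).dvd_of_dvd_mul_left h
  obtain ⟨s, rfl⟩ := ho
  exact ⟨-s, 1, by ring⟩

theorem even_of_two_le {q : ℕ} (hq : ∃ k : ℕ, q = 2 ^ k) (h : 2 ≤ q) : (2 : ℤ) ∣ q := by
  obtain ⟨k, rfl⟩ := hq
  rcases k with _ | k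
  · simp at h
  · exact ⟨2 ^ k, by push_cast; ring⟩

theorem sq_one {q : ℕ} (hq : ∃ k : ℕ, q = 2 ^ k) {k : ℤ} (h : 4 * (q : ℤ) ∣ k ^ 2 - 1) :
    2 * (q : ℤ) ∣ k - 1 ∨ 2 * (q : ℤ) ∣ k + 1 := by
  obtain ⟨m, hm⟩ := cast_two_pow hq
  have h' : (2 : ℤ) ^ (m + 2) ∣ k ^ 2 - 1 := by rwa [pow_add, mul_comm, ← hm]
  have h2 := CfsgLib.PGroup.sq_one_mod_two_pow (by omega) h'
  rwa [show m + 2 - 1 = m + 1 by omega, pow_succ', ← hm] at h2

theorem exists_two_pow_of_dvd {d n : ℕ} (hd : ∃ k : ℕ, d = 2 ^ k) (h : n ∣ d) :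
    ∃ k : ℕ, n = 2 ^ k := by
  obtain ⟨k, rfl⟩ := hd
  obtain ⟨i, -, hi⟩ := (Nat.dvd_prime_pow Nat.prime_two).1 h
  exact ⟨i, hi⟩

/-! ### Powers of a group element -/

section Powers

variable {Γ : Type u} [Group Γ]

theorem zpow_eq_iff {c : Γ} {N : ℕ} (hc : orderOf c = N) (a b : ℤ) :
    c ^ a = c ^ b ↔ (N : ℤ) ∣ b - a := by
  rw [zpow_eq_zpow_iff_modEq, hc, Int.modEq_iff_dvd]

theorem zpow_one_iff {c : Γ} {N : ℕ} (hc : orderOf c = N) (a : ℤ) :
    c ^ a = 1 ↔ (N : ℤ) ∣ a := by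
  rw [← hc, orderOf_dvd_iff_zpow_eq_one]

theorem conj_zpow_of_eq {t x y : Γ} (h : t * x * t⁻¹ = y) (i : ℤ) :
    t * x ^ i * t⁻¹ = y ^ i := by
  rw [← h, conj_zpow]

/-- A subgroup containing one of index two and an element outside it is everything. -/
theorem eq_top_of_index_two {L K : Subgroup Γ} (hL : L.index = 2) (hLK : L ≤ K) {t : Γ}
    (ht : t ∈ K) (htL : t ∉ L) : K = ⊤ := by
  refine eq_top_iff.2 fun x _ => ?_
  by_cases hx : x ∈ L
  · exact hLK hx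
  · have h1 : x * t ∈ L := (mul_mem_iff_of_index_two hL).2 (iff_of_false hx htL)
    exact (K.mul_mem_cancel_right ht).1 (hLK h1)

end Powers

/-! ### Images -/

section Image

variable {Γ : Type u} [Group Γ] {H : Type u} [Group H] {f : Γ →* H} {z : Γ}

theorem map_eq_iff (hf : ∀ d, f d = 1 ↔ d ∈ zpowers z) (x y : Γ) :
    f x = f y ↔ x⁻¹ * y ∈ zpowers z := by
  rw [← hf, map_mul, map_inv, inv_mul_eq_one]

theorem card_range (hf : ∀ d, f d = 1 ↔ d ∈ zpowers z) :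
    Nat.card f.range * orderOf z = Nat.card Γ := by
  have h : f.ker = zpowers z := Subgroup.ext fun d => by rw [MonoidHom.mem_ker, hf]
  rw [← Subgroup.index_ker, h, ← Nat.card_zpowers, Subgroup.index_mul_card]

theorem orderOf_map (hf : ∀ d, f d = 1 ↔ d ∈ zpowers z) {c : Γ} {e : ℕ}
    (h : ∀ k : ℤ, c ^ k ∈ zpowers z ↔ (e : ℤ) ∣ k) : orderOf (f c) = e := by
  have h1 : ∀ k : ℤ, (orderOf (f c) : ℤ) ∣ k ↔ (e : ℤ) ∣ k := fun k => by
    rw [orderOf_dvd_iff_zpow_eq_one, ← map_zpow, hf, h]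
  exact Nat.dvd_antisymm (Int.natCast_dvd_natCast.1 ((h1 e).2 dvd_rfl))
    (Int.natCast_dvd_natCast.1 ((h1 _).1 dvd_rfl))

theorem map_not_mem (hf : ∀ d, f d = 1 ↔ d ∈ zpowers z) {L : Subgroup Γ} {c t : Γ}
    (hz : z ∈ L) (hc : c ∈ L) (ht : t ∉ L) : f t ∉ zpowers (f c) := by
  rintro ⟨i, hi⟩
  simp only [← map_zpow] at hi
  have h1 : (c ^ i)⁻¹ * t ∈ L := zpowers_le.2 hz ((map_eq_iff hf _ _).1 hi)
  exact ht ((L.mul_mem_cancel_left (L.inv_mem (L.zpow_mem hc i))).1 h1)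

end Image

/-! ### Recognising good subgroups -/

section Recognise

variable {H : Type u} [Group H] {P : Subgroup H}

/-- A cyclic subgroup of index two inverted from outside: dihedral or quaternion; inverted up to
the involution: also semidihedral. -/
theorem good_of_invert {r w : H} {h : ℕ} (h2 : 2 ≤ h) (hpow : ∃ k : ℕ, h = 2 ^ k) (hr : r ∈ P)
    (hw : w ∈ P) (hord : orderOf r = 2 * h) (hcard : Nat.card P = 4 * h) (hnot : w ∉ zpowers r)
    {k : ℤ} (hk : w * r * w⁻¹ = r ^ k)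
    (hk1 : 2 * (h : ℤ) ∣ k + 1 ∨ (4 ≤ h ∧ (h : ℤ) ∣ k + 1)) : Good P := by
  have : Finite P := Nat.finite_of_card_ne_zero (by rw [hcard]; omega)
  set Z : Subgroup P := (zpowers r).subgroupOf P with hZdef
  have hZ : Z.index = 2 := by
    have h1 := relIndex_mul_relIndex (⊥ : Subgroup H) (zpowers r) P bot_le (zpowers_le.2 hr)
    rw [relIndex_bot_left, relIndex_bot_left, Nat.card_zpowers, hord, hcard, mul_comm] at h1
    have h3 : Z.index * (2 * h) = 2 * (2 * h) := by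
      rw [show Z.index = (zpowers r).relIndex P from rfl, h1]
      ring
    exact Nat.eq_of_mul_eq_mul_right (by omega) h3
  have hcov : ∀ v ∈ P, ∀ v' ∈ P, v ∉ zpowers r → v' ∉ zpowers r → v * v'⁻¹ ∈ zpowers r := by
    intro v hv v' hv' hn hn'
    have h1 : (⟨v, hv⟩ * (⟨v', hv'⟩ : P)⁻¹ : P) ∈ Z := (mul_mem_iff_of_index_two hZ).2
      (iff_of_false hn fun h => hn' (inv_mem_iff.1 h))
    exact h1
  have hconj : ∀ v ∈ P, v ∉ zpowers r → v * r * v⁻¹ = r ^ k := by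
    intro v hv hn
    obtain ⟨i, hi⟩ := hcov v hv w hw hn hnot
    simp only at hi
    rw [eq_mul_inv_iff_mul_eq] at hi
    rw [← hi, show r ^ i * w * r * (r ^ i * w)⁻¹ = r ^ i * (w * r * w⁻¹) * (r ^ i)⁻¹ by group, hk,
      ← zpow_add, ← zpow_neg, ← zpow_add]
    congr 1
    ring
  have hrk : ∀ a b : ℤ, r ^ a = r ^ b ↔ 2 * (h : ℤ) ∣ b - a := fun a b => by
    rw [zpow_eq_iff hord]
    push_cast
    rfl
  by_cases hinv : 2 * (h : ℤ) ∣ k + 1
  · have hrinv : r ^ k = r⁻¹ := by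
      rw [← zpow_neg_one, hrk]
      simpa [neg_add', sub_eq_add_neg, add_comm] using (dvd_neg.2 hinv)
    have hsq : ∀ v ∈ P, v ∉ zpowers r → ∀ v' ∈ P, v' ∉ zpowers r → v * v = v' * v' := by
      intro v hv hn v' hv' hn'
      obtain ⟨i, hi⟩ := hcov v hv v' hv' hn hn'
      simp only at hi
      rw [eq_mul_inv_iff_mul_eq] at hi
      rw [← hi, show r ^ i * v' * (r ^ i * v') = r ^ i * (v' * r ^ i * v'⁻¹) * (v' * v') by group,
        conj_zpow_of_eq ((hconj v' hv' hn').trans hrinv), inv_zpow, mul_inv_cancel, one_mul]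
    have hw2 : w * w ∈ zpowers r :=
      (mul_mem_iff_of_index_two hZ (a := ⟨w, hw⟩) (b := ⟨w, hw⟩)).2 Iff.rfl
    obtain ⟨j, hj⟩ := hw2
    simp only at hj
    have h1 : r ^ j = r ^ (-j) := by
      rw [zpow_neg]
      calc r ^ j = w * r ^ j * w⁻¹ := by rw [hj]; group
        _ = (r⁻¹) ^ j := conj_zpow_of_eq ((hconj w hw hnot).trans hrinv) j
        _ = (r ^ j)⁻¹ := inv_zpow r j
    have h3 : (h : ℤ) ∣ j := by
      obtain ⟨c, hc⟩ := (hrk j (-j)).1 h1
      exact ⟨-c, by linarith⟩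
    obtain ⟨d, hd⟩ := h3
    rcases Int.even_or_odd' d with ⟨e, rfl | rfl⟩
    · have hww : w * w = 1 := by
        rw [← hj, ← zpow_zero r, hrk]
        exact ⟨-e, by rw [hd]; ring⟩
      exact Or.inr (Or.inr (Or.inr (Or.inl ⟨r, h, ⟨h2, hpow, hr, hord, hcard,
        fun v hv hn => ⟨(hsq v hv hn w hw hnot).trans hww, (hconj v hv hn).trans hrinv⟩,
        hcov⟩⟩)))
    · have hww : w * w = r ^ h := by
        rw [← hj, ← zpow_natCast, hrk]
        exact ⟨-e, by rw [hd]; ring⟩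
      exact Or.inr (Or.inr (Or.inr (Or.inr (Or.inl ⟨r, h, ⟨h2, hpow, hr, hord, hcard,
        fun v hv hn => ⟨(hsq v hv hn w hw hnot).trans hww, (hconj v hv hn).trans hrinv⟩⟩⟩))))
  · obtain ⟨h4, c, hc⟩ := hk1.resolve_left hinv
    obtain ⟨e, rfl⟩ : Odd c := by
      refine Int.not_even_iff_odd.1 fun ⟨e, he⟩ => hinv ⟨e, ?_⟩
      rw [hc, he]
      ring
    have hrs : r ^ k = r ^ (h - 1) := by
      rw [← zpow_natCast, hrk, Nat.cast_sub (by omega), Nat.cast_one]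
      exact ⟨-e, by linear_combination -hc⟩
    exact Or.inr (Or.inr (Or.inr (Or.inr (Or.inr (Or.inl
      ⟨r, h, ⟨h4, hpow, hr, hord, hcard, fun v hv hn => (hconj v hv hn).trans hrs⟩⟩)))))

/-- Order eight and an element of order at least four. -/
theorem good_of_card_eight (hcard : Nat.card P = 8) {w : H} (hw : w ∈ P) (h2 : w * w ≠ 1) :
    Good P := by
  refine Or.inr (Or.inr (Or.inl ⟨hcard, w, hw, ?_⟩))
  have : Finite P := Nat.finite_of_card_ne_zero (by omega)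
  have hd : orderOf w ∣ 2 ^ 3 := by
    rw [← Subgroup.orderOf_mk w hw, show (2 : ℕ) ^ 3 = Nat.card P by rw [hcard]; norm_num]
    exact orderOf_dvd_natCard _
  obtain ⟨i, -, hi⟩ := (Nat.dvd_prime_pow Nat.prime_two).1 hd
  by_contra hlt
  have : i < 2 := by
    by_contra h
    exact hlt (hi ▸ Nat.pow_le_pow_right two_pos (not_lt.1 h) |>.trans' (by norm_num))
  refine h2 ?_
  rw [← pow_two]
  refine orderOf_dvd_iff_pow_eq_one.1 ?_
  rw [hi]
  exact pow_dvd_pow 2 (show i ≤ 1 by omega) |>.trans (by norm_num)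

/-- Order sixteen, two independent commuting elements of order four. -/
theorem good_of_four_four (hcard : Nat.card P = 16) {r x : H} (hr : r ∈ P) (hx : x ∈ P)
    (hr4 : r ^ (4 : ℤ) = 1) (hx4 : x ^ (4 : ℤ) = 1) (hxr : Commute x r)
    (hindep : ∀ i k : ℤ, r ^ i * x ^ k = 1 → 4 ∣ i ∧ 4 ∣ k)
    (hall : ∀ v ∈ P, ∃ i k : ℤ, v = r ^ i * x ^ k) : Good P := by
  have hpow : ∀ i k l : ℤ, (r ^ i * x ^ k) ^ l = r ^ (i * l) * x ^ (k * l) := fun i k l => by
    rw [(hxr.symm.zpow_zpow i k).mul_zpow, ← zpow_mul, ← zpow_mul]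
  refine Or.inr (Or.inr (Or.inr (Or.inr (Or.inr (Or.inr (Or.inl ⟨?_, ?_, ?_, ?_, ?_⟩))))))
  · intro v hv v' hv'
    obtain ⟨i, k, rfl⟩ := hall v hv
    obtain ⟨i', k', rfl⟩ := hall v' hv'
    exact (((Commute.refl r).zpow_zpow i i').mul_right (hxr.symm.zpow_zpow i k')).mul_left
      ((hxr.zpow_zpow k i').mul_right ((Commute.refl x).zpow_zpow k k'))
  · exact hcard.trans (by norm_num)
  · intro v
    obtain ⟨i, k, hv⟩ := hall v v.2
    apply Subtype.ext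
    rw [SubmonoidClass.coe_pow, hv, pow_two, ← zpow_natCast, hpow, OneMemClass.coe_one]
    push_cast
    rw [show i * 4 = 4 * i by ring, show k * 4 = 4 * k by ring, zpow_mul, zpow_mul x, hx4,
      hr4, one_zpow, one_zpow, one_mul]
  · let F : Fin 2 × Fin 2 → {v : P // v ^ 2 = 1} := fun p =>
      ⟨⟨r ^ (2 * (p.1 : ℤ)) * x ^ (2 * (p.2 : ℤ)),
        mul_mem (zpow_mem hr _) (zpow_mem hx _)⟩, by
        apply Subtype.ext
        rw [SubmonoidClass.coe_pow, ← zpow_natCast, hpow, OneMemClass.coe_one]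
        push_cast
        rw [show 2 * (p.1 : ℤ) * 2 = 4 * p.1 by ring, show 2 * (p.2 : ℤ) * 2 = 4 * p.2 by ring,
          zpow_mul, zpow_mul x, hx4, hr4,
          one_zpow, one_zpow, one_mul]⟩
    have hF : Function.Bijective F := by
      constructor
      · rintro ⟨a, b⟩ ⟨a', b'⟩ h
        have h1 : r ^ (2 * (a : ℤ)) * x ^ (2 * (b : ℤ)) =
            r ^ (2 * (a' : ℤ)) * x ^ (2 * (b' : ℤ)) :=
          congrArg (fun v => ((v.1 : P) : H)) h
        have h2 : r ^ (2 * (a : ℤ) - 2 * a') * x ^ (2 * (b : ℤ) - 2 * b') = 1 := by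
          rw [zpow_sub r, zpow_sub x]
          have hcm := hxr.symm.zpow_zpow (2 * (a' : ℤ)) (2 * (b : ℤ))
          calc r ^ (2 * (a : ℤ)) * (r ^ (2 * (a' : ℤ)))⁻¹ *
                (x ^ (2 * (b : ℤ)) * (x ^ (2 * (b' : ℤ)))⁻¹)
              = r ^ (2 * (a : ℤ)) * ((r ^ (2 * (a' : ℤ)))⁻¹ * x ^ (2 * (b : ℤ))) *
                  (x ^ (2 * (b' : ℤ)))⁻¹ := by group
            _ = r ^ (2 * (a : ℤ)) * x ^ (2 * (b : ℤ)) *
                  ((r ^ (2 * (a' : ℤ)))⁻¹ * (x ^ (2 * (b' : ℤ)))⁻¹) := by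
                rw [hcm.inv_left.eq]; group
            _ = 1 := by
                rw [h1, ← mul_inv_rev, ← (hxr.symm.zpow_zpow (2 * (a' : ℤ)) (2 * (b' : ℤ))).eq,
                  mul_inv_cancel]
        obtain ⟨⟨v, hv⟩, ⟨v', hv'⟩⟩ := hindep _ _ h2
        have ha := a.isLt
        have ha' := a'.isLt
        have hb := b.isLt
        have hb' := b'.isLt
        exact Prod.ext (Fin.ext (show (a : ℕ) = a' by omega)) (Fin.ext (show (b : ℕ) = b' by omega))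
      · rintro ⟨⟨v, hv⟩, hv2⟩
        obtain ⟨i, k, rfl⟩ := hall v hv
        have h1 : r ^ (i * 2) * x ^ (k * 2) = 1 := by
          rw [← hpow, zpow_ofNat]
          simpa only [SubmonoidClass.coe_pow, OneMemClass.coe_one]
            using congrArg (fun w : P => (w : H)) hv2
        obtain ⟨⟨a, ha⟩, ⟨b, hb⟩⟩ := hindep _ _ h1
        refine ⟨(⟨(a % 2).toNat, by omega⟩, ⟨(b % 2).toNat, by omega⟩), ?_⟩
        apply Subtype.ext
        apply Subtype.ext
        show r ^ (2 * (((a % 2).toNat : ℕ) : ℤ)) * x ^ (2 * (((b % 2).toNat : ℕ) : ℤ)) =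
          r ^ i * x ^ k
        rw [Int.toNat_of_nonneg (by omega), Int.toNat_of_nonneg (by omega),
          show i = 2 * (a % 2) + 4 * (a / 2) by omega,
          show k = 2 * (b % 2) + 4 * (b / 2) by omega, zpow_add, zpow_add x, zpow_mul r 4,
          zpow_mul x 4, hx4, hr4,
          one_zpow, one_zpow, mul_one, mul_one]
    rw [← Nat.card_congr (Equiv.ofBijective F hF), Nat.card_eq_fintype_card]
    rfl
  · intro v hv
    obtain ⟨i, k, hvv⟩ := hall v v.2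
    have h1 : r ^ (i * 2) * x ^ (k * 2) = 1 := by
      rw [← hpow, ← hvv, zpow_ofNat]
      simpa only [SubmonoidClass.coe_pow, OneMemClass.coe_one]
        using congrArg (fun w : P => (w : H)) hv
    obtain ⟨⟨a, ha⟩, ⟨b, hb⟩⟩ := hindep _ _ h1
    refine ⟨⟨r ^ a * x ^ b, mul_mem (zpow_mem hr _) (zpow_mem hx _)⟩, ?_⟩
    apply Subtype.ext
    rw [SubmonoidClass.coe_pow, hvv, ← zpow_natCast, hpow]
    push_cast
    rw [show a * 2 = i by omega, show b * 2 = k by omega]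

end Recognise

/-! ### The two simplest criteria -/

section Simple

variable {Γ : Type u} [Group Γ] [Finite Γ]

theorem hasGood_of_card_le {z : Γ} (hz : ∀ d, d * z = z * d) (h1 : z ≠ 1)
    (hcard : Nat.card Γ ≤ 4 * orderOf z) : HasGood Γ := by
  refine ⟨z, h1, hz, fun {H} _ f hf => Or.inl ?_⟩
  refine Nat.le_of_mul_le_mul_right ?_ (orderOf_pos z)
  rw [card_range hf]
  exact hcard

end Simple

end CfsgLib.BlockA.IndexFour
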