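import Cfsg.Agent.Lib.BlockA.IndexFour.Count
import Cfsg.Agent.Lib.BlockA.RankAddCard
import Cfsg.Agent.Lib.BlockB.StarOrbits

/-!
A block with residual defect group has rank at most three.
-/

set_option autoImplicit false
set_option linter.unusedSectionVars false
set_option linter.unusedSimpArgs false
set_option maxHeartbeats 1000000

namespace CfsgLib.BlockA.IndexFour

open Cfsg CfsgLib.Block CfsgLib.BlockA CfsgLib.BlockB CfsgLib.BlockB.SubSum
  CfsgLib.BlockB.HeightBound AbelianSub SectionOrth NilpotentSection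
open scoped ComplexConjugate

universe u

variable {G : Type u} [Group G]

namespace Resid

variable {P : Subgroup G} {r b x : G} {n : ℕ} (hR : Resid P r b x n)
include hR

/-- Representatives for the pairs under the involution. -/
theorem exists_reps (Y : Finset G)
    (hY : ∀ y ∈ Y, y ∈ mx r b ∧ y * y ≠ 1 ∧ x * y * x⁻¹ ∈ Y) :
    ∃ T ⊆ Y, 2 * T.card = Y.card ∧
      ∀ y ∈ T, ∀ y' ∈ T, y' = y ∨ y' = x * y * x⁻¹ → y' = y := by
  classical
  let e : Y ≃ Fin Y.card := Y.equivFin
  let σ : Y → Y := fun y => ⟨x * y * x⁻¹, (hY y y.2).2.2⟩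
  have hσσ : ∀ y, σ (σ y) = y := fun y => Subtype.ext (by
    have := hR.flip_flip ⟨y, (hY y y.2).1⟩
    exact congrArg (fun t : mx r b => (t : G)) this)
  have hne : ∀ y, e (σ y) ≠ e y := fun y h => by
    refine hR.key_conj_ne ⟨(hY y y.2).1, Or.inl (hY y y.2).2.1⟩
      (fun h' => (hY y y.2).2.1 (by rw [h', hR.z_sq])) ?_
    exact congrArg Subtype.val (e.injective h)
  set T₀ : Finset Y := Finset.univ.filter fun y => e y < e (σ y) with hT₀
  refine ⟨T₀.map ⟨Subtype.val, Subtype.val_injective⟩, fun y hy => ?_, ?_, fun y hy y' hy' h => ?_⟩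
  · obtain ⟨w, -, rfl⟩ := Finset.mem_map.1 hy
    exact w.2
  · rw [Finset.card_map, two_mul, ← Fintype.card_coe Y, ← Finset.card_univ,
      ← Finset.card_filter_add_card_filter_not (s := (Finset.univ : Finset Y))
        (fun y => e y < e (σ y))]
    congr 1
    refine Finset.card_nbij' σ σ (fun y hy => ?_) (fun y hy => ?_) (fun y _ => hσσ y)
      fun y _ => hσσ y
    · simp only [hT₀, Finset.coe_filter, Finset.mem_univ, true_and, Set.mem_setOf_eq] at hy ⊢
      rw [hσσ]
      exact not_lt.2 hy.le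
    · simp only [hT₀, Finset.coe_filter, Finset.mem_univ, true_and, Set.mem_setOf_eq] at hy ⊢
      rw [hσσ]
      exact lt_of_le_of_ne (not_lt.1 hy) (hne y)
  · obtain ⟨w, hw, rfl⟩ := Finset.mem_map.1 hy
    obtain ⟨w', hw', rfl⟩ := Finset.mem_map.1 hy'
    rcases h with h | h
    · exact h
    · obtain rfl : w' = σ w := Subtype.ext h
      rw [hT₀, Finset.mem_filter] at hw hw'
      rw [hσσ] at hw'
      exact absurd hw'.2 (not_lt.2 hw.2.le)

open Classical in
/-- The abelian subgroup contains four elements of exponent two. -/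
theorem card_sq_ne [Fintype G] :
    (Finset.univ.filter fun y : G => y ∈ mx r b ∧ y * y ≠ 1).card + 4 = 2 * n := by
  have h4 : (Finset.univ.filter fun y : G => y ∈ mx r b ∧ y * y = 1) =
      {1, r ^ (n / 2), b, b * r ^ (n / 2)} := by
    ext y
    simp only [Finset.mem_filter, Finset.mem_univ, true_and, Finset.mem_insert,
      Finset.mem_singleton]
    constructor
    · rintro ⟨h1, h2⟩
      exact hR.eq_z_of_sq h1 h2
    · rintro (rfl | rfl | rfl | rfl)
      · exact ⟨one_mem _, one_mul 1⟩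
      · exact ⟨hR.z_mem_mx, hR.z_sq⟩
      · exact ⟨hR.b_mem_mx, hR.b_sq⟩
      · refine ⟨mul_mem hR.b_mem_mx hR.z_mem_mx, ?_⟩
        calc b * r ^ (n / 2) * (b * r ^ (n / 2)) = b * (r ^ (n / 2) * b) * r ^ (n / 2) := by group
          _ = b * b * (r ^ (n / 2) * r ^ (n / 2)) := by rw [(hR.comm_z hR.b_mem).eq]; group
          _ = 1 := by rw [hR.b_sq, hR.z_sq, one_mul]
  have hc : ({1, r ^ (n / 2), b, b * r ^ (n / 2)} : Finset G).card = 4 := by
    obtain ⟨n4, n5, n6⟩ := hR.bz_ne
    simp [hR.z_ne_one.symm, hR.b_ne_one.symm, hR.z_ne_b, n4.symm, n5.symm, n6.symm]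
  have hmx : (Finset.univ.filter fun y : G => y ∈ mx r b).card = 2 * n := by
    rw [← hR.card_mx, Nat.card_eq_fintype_card, Fintype.card_subtype]
  rw [← hc, ← h4, ← hmx, add_comm,
    ← Finset.card_union_of_disjoint (Finset.disjoint_filter.2 fun y _ h1 h2 => h2.2 h1.2)]
  congr 1
  ext y
  simp only [Finset.mem_union, Finset.mem_filter, Finset.mem_univ, true_and]
  constructor
  · rintro (h | h) <;> exact h.1
  · intro h
    by_cases h' : y * y = 1
    exacts [Or.inl ⟨h, h'⟩, Or.inr ⟨h, h'⟩]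

/-- When the twist is non-trivial an element outside has square `b`. -/
theorem exists_outside_sq (he : eps r x ≠ 1) : ∃ w ∈ P, w ∉ mx r b ∧ w * w = b := by
  rcases hR.kind with ⟨-, h⟩ | ⟨hx, h⟩ | ⟨-, hx, -⟩
  · exact absurd (by rw [eps, h, mul_inv_cancel]) he
  · refine ⟨x * r, P.mul_mem hR.x_mem hR.r_mem, fun h' => hR.x_not_mx ?_, ?_⟩
    · have := mul_mem h' (inv_mem hR.r_mem_mx)
      rwa [mul_inv_cancel_right] at this
    · calc x * r * (x * r) = x * r * x⁻¹ * r := by
            rw [inv_eq_of_mul_eq_one_left hx]; group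
        _ = b := by rw [h, mul_assoc, hR.comm_r.eq, inv_mul_cancel_left]
  · exact ⟨x, hR.x_mem, hR.x_not_mx, hx⟩

theorem b_not_kap : b ∉ Subgroup.zpowers (kap r x) := fun h => by
  rcases hR.eq_ctr h hR.b_sq with e | e
  · exact hR.b_ne_one e
  · rcases hR.ctr_mem_z with c | c <;> rw [c] at e
    exacts [hR.z_ne_b e.symm, hR.bz_ne.2.2 e.symm]

variable [Fintype G] {M : Ideal AlgInt} [M.IsPrime] {B : Set (IrrCharacter G)}
  {c : Set (IrrCharacter (Subgroup.centralizer (P : Set G)))}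
  (hM : IsPModular 2 M) (hmax : IsMaximalBrauerPair 2 M B P c)
include hM hmax

/-- **Separated elements for a non-trivial twist.** -/
theorem rank_add_le (he : eps r x ≠ 1) : blockRank 2 B + (n + 3) ≤ Nat.card B := by
  classical
  obtain ⟨w, hwP, hwout, hw2⟩ := hR.exists_outside_sq he
  set Y := Finset.univ.filter fun y : G => y ∈ mx r b ∧ y * y ≠ 1 with hYdef
  have hYc : Y.card + 4 = 2 * n := hR.card_sq_ne
  obtain ⟨T, hTY, hTc, hTsep⟩ := hR.exists_reps Y fun y hy => by
    rw [hYdef, Finset.mem_filter] at hy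
    refine ⟨hy.2.1, hy.2.2, Finset.mem_filter.2 ⟨Finset.mem_univ _,
      hR.conj_mem_mx hR.x_mem hy.2.1, fun h => hy.2.2 ?_⟩⟩
    exact conj_eq_one_iff.1 (show x * (y * y) * x⁻¹ = 1 by rw [← h]; group)
  have hT : ∀ y ∈ T, y ∈ mx r b ∧ y * y ≠ 1 := fun y hy => (Finset.mem_filter.1 (hTY hy)).2
  have hwb : w * b ∉ mx r b := fun h => hwout (by
    have := mul_mem h (inv_mem hR.b_mem_mx)
    rwa [mul_inv_cancel_right] at this)
  have hwb2 : w * b * (w * b) = b := by
    calc w * b * (w * b) = w * (b * w) * b := by group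
      _ = w * w * (b * b) := by rw [(hR.comm_b hwP).eq]; group
      _ = b := by rw [hw2, hR.b_sq, mul_one]
  have hcen : ∀ v : G, v ∈ ({r ^ (n / 2), b, b * r ^ (n / 2)} : Finset G) →
      v ∈ mx r b ∧ v * v = 1 ∧ v ≠ 1 ∧ ∀ u ∈ P, Commute u v := by
    intro v hv
    simp only [Finset.mem_insert, Finset.mem_singleton] at hv
    rcases hv with rfl | rfl | rfl
    · exact ⟨hR.z_mem_mx, hR.z_sq, hR.z_ne_one, fun u hu => (hR.comm_z hu).symm⟩
    · exact ⟨hR.b_mem_mx, hR.b_sq, hR.b_ne_one, fun u hu => (hR.comm_b hu).symm⟩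
    · refine ⟨mul_mem hR.b_mem_mx hR.z_mem_mx, ?_, hR.bz_ne.1,
        fun u hu => (hR.comm_b hu).symm.mul_right (hR.comm_z hu).symm⟩
      calc b * r ^ (n / 2) * (b * r ^ (n / 2)) = b * (r ^ (n / 2) * b) * r ^ (n / 2) := by group
        _ = b * b * (r ^ (n / 2) * r ^ (n / 2)) := by rw [(hR.comm_z hR.b_mem).eq]; group
        _ = 1 := by rw [hR.b_sq, hR.z_sq, one_mul]
  set C : Finset G := {r ^ (n / 2), b, b * r ^ (n / 2)} with hC
  set O : Finset G := {w, w * b} with hO
  have hwne : w * w ≠ 1 := by rw [hw2]; exact hR.b_ne_one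
  have hout : ∀ v ∈ O, v ∈ P ∧ v ∉ mx r b ∧ v * v ≠ 1 := by
    intro v hv
    simp only [hO, Finset.mem_insert, Finset.mem_singleton] at hv
    rcases hv with rfl | rfl
    · exact ⟨hwP, hwout, hwne⟩
    · exact ⟨P.mul_mem hwP hR.b_mem, hwb, by rw [hwb2]; exact hR.b_ne_one⟩
  have hSmem : ∀ v ∈ T ∪ C ∪ O, v ∈ P ∧ v ≠ 1 := by
    intro v hv
    simp only [Finset.mem_union] at hv
    rcases hv with (hv | hv) | hv
    · exact ⟨hR.mx_le (hT v hv).1, fun e => (hT v hv).2 (by rw [e, one_mul])⟩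
    · exact ⟨hR.mx_le (hcen v hv).1, (hcen v hv).2.2.1⟩
    · exact ⟨(hout v hv).1, fun e => (hout v hv).2.2 (by rw [e, one_mul])⟩
  have hcard : (T ∪ C ∪ O).card = n + 3 := by
    have d1 : Disjoint T C := Finset.disjoint_left.2 fun v hv hv' => (hT v hv).2 (hcen v hv').2.1
    have d2 : Disjoint (T ∪ C) O := Finset.disjoint_left.2 fun v hv hv' => by
      rcases Finset.mem_union.1 hv with h | h
      exacts [(hout v hv').2.1 (hT v h).1, (hout v hv').2.1 (hcen v h).1]
    have hc3 : C.card = 3 := by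
      obtain ⟨-, n5, n6⟩ := hR.bz_ne
      rw [hC]
      simp [hR.z_ne_b, n5.symm, n6.symm]
    have hc2 : O.card = 2 := Finset.card_pair fun e => hR.b_ne_one (mul_left_cancel (a := w) (by
      rw [mul_one]; exact e.symm))
    rw [Finset.card_union_of_disjoint d2, Finset.card_union_of_disjoint d1, hc3, hc2]
    have := hR.four_le
    omega
  have hfin := RankAddCard.rank_add_card_le hM hmax (T ∪ C ∪ O) hSmem fun v hv v' hv' a ha hβ => by
    have hvP := (hSmem v hv).1
    have hv'P := (hSmem v' hv').1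
    have e : a * (v * v) * a⁻¹ = v' * v' := by rw [← ha]; group
    simp only [Finset.mem_union] at hv hv'
    by_cases h1 : v * v = 1
    · have h1' : v' * v' = 1 := by rw [← e, h1, mul_one, mul_inv_cancel]
      have hcv : v ∈ C := by
        rcases hv with (h | h) | h
        exacts [absurd h1 (hT v h).2, h, absurd h1 (hout v h).2.2]
      have hcv' : v' ∈ C := by
        rcases hv' with (h | h) | h
        exacts [absurd h1' (hT v' h).2, h, absurd h1' (hout v' h).2.2]
      exact (hR.central_of_beta hM hmax hvP hv'P (hcen v hcv).2.2.2 (hcen v' hcv').2.2.2 ha hβ).symm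
    obtain ⟨s, hs, hsv⟩ := hR.conj_of_beta hM hmax hvP hv'P h1 ha hβ
    have h1' : v' * v' ≠ 1 := fun h => h1 (by
      rw [← hsv] at h
      exact conj_eq_one_iff.1 (show s * (v * v) * s⁻¹ = 1 by rw [← h]; group))
    have hcase : ∀ {u : G}, (u ∈ T ∨ u ∈ C) ∨ u ∈ O → u * u ≠ 1 →
        (u ∈ T ∧ u ∈ mx r b) ∨ (u ∈ O ∧ u ∉ mx r b) := by
      intro u hu hu2
      rcases hu with (h | h) | h
      exacts [Or.inl ⟨h, (hT u h).1⟩, absurd (hcen u h).2.1 hu2, Or.inr ⟨h, (hout u h).2.1⟩]
    rcases hcase hv h1 with ⟨hvT, hvm⟩ | ⟨hvO, hvm⟩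
    · rcases hcase hv' h1' with ⟨hvT', -⟩ | ⟨-, hvm'⟩
      · refine (hTsep v hvT v' hvT' ?_).symm
        by_cases hsm : s ∈ mx r b
        · left
          rw [← hsv, (hR.comm_mx hsm hvm).eq, mul_inv_cancel_right]
        · exact Or.inr (by rw [← hsv, hR.conj_outside hs hsm hvm])
      · exact absurd (hsv ▸ hR.conj_mem_mx hs hvm) hvm'
    · rcases hcase hv' h1' with ⟨-, hvm'⟩ | ⟨hvO', -⟩
      · refine absurd ?_ hvm
        have := hR.conj_mem_mx (P.inv_mem hs) hvm'
        rwa [← hsv, inv_inv, show s⁻¹ * (s * v * s⁻¹) * s = v by group] at this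
      · have hk : v' * v⁻¹ ∈ Subgroup.zpowers (kap r x) := by
          rw [← hsv]
          exact hR.commutator_mem hs hvP
        simp only [hO, Finset.mem_insert, Finset.mem_singleton] at hvO hvO'
        rcases hvO with rfl | rfl <;> rcases hvO' with rfl | rfl
        · rfl
        · rw [show v * b * v⁻¹ = b by rw [((hR.comm_b hwP).symm).eq, mul_inv_cancel_right]] at hk
          exact absurd hk hR.b_not_kap
        · rw [mul_inv_rev, ← mul_assoc, show v' * b⁻¹ * v'⁻¹ = b by
            rw [hR.b_inv, ((hR.comm_b hwP).symm).eq, mul_inv_cancel_right]] at hk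
          exact absurd hk hR.b_not_kap
        · rfl
  omega

omit hR hM hmax in
/-- The span of paired vectors. -/
theorem finrank_span_pair_le {ι V : Type*} [Fintype ι] [DecidableEq ι] [AddCommGroup V] [Module ℂ V]
    [LinearOrder ι] (E : Finset ι) (τ : ι → ι) (hτ : ∀ i ∈ E, τ i ∈ E ∧ τ i ≠ i ∧ τ (τ i) = i)
    (v : ι → V) (hv : ∀ i ∈ E, v (τ i) = v i) :
    2 * Module.finrank ℂ (Submodule.span ℂ (v '' (E : Set ι))) ≤ E.card := by
  classical
  set R := E.filter fun i => i < τ i with hR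
  have hc : 2 * R.card = E.card := by
    rw [two_mul, ← Finset.card_filter_add_card_filter_not (s := E) (fun i => i < τ i)]
    congr 1
    refine Finset.card_nbij' τ τ (fun i hi => ?_) (fun i hi => ?_) (fun i hi => ?_) fun i hi => ?_
    · simp only [hR, Finset.coe_filter, Set.mem_setOf_eq] at hi ⊢
      exact ⟨(hτ i hi.1).1, by rw [(hτ i hi.1).2.2]; exact not_lt.2 hi.2.le⟩
    · simp only [hR, Finset.coe_filter, Set.mem_setOf_eq] at hi ⊢
      exact ⟨(hτ i hi.1).1, by
        rw [(hτ i hi.1).2.2]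
        exact lt_of_le_of_ne (not_lt.1 hi.2) (hτ i hi.1).2.1⟩
    · simp only [hR, Finset.coe_filter, Set.mem_setOf_eq] at hi
      exact (hτ i hi.1).2.2
    · simp only [Finset.coe_filter, Set.mem_setOf_eq] at hi
      exact (hτ i hi.1).2.2
  have hsub : v '' (E : Set ι) ⊆ (R.image v : Finset V) := by
    rintro _ ⟨i, hi, rfl⟩
    rw [Finset.mem_coe] at hi
    rw [Finset.coe_image]
    by_cases h : i < τ i
    · exact ⟨i, Finset.mem_filter.2 ⟨hi, h⟩, rfl⟩
    · refine ⟨τ i, Finset.mem_filter.2 ⟨(hτ i hi).1, ?_⟩, hv i hi⟩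
      rw [(hτ i hi).2.2]
      exact lt_of_le_of_ne (not_lt.1 h) (hτ i hi).2.1
  rw [← hc]
  refine Nat.mul_le_mul_left 2 ?_
  have := FiniteDimensional.span_of_finite ℂ (R.image v).finite_toSet
  exact (Submodule.finrank_mono (Submodule.span_mono hsub)).trans
    ((finrank_span_finset_le_card _).trans Finset.card_image_le)

/-- **Fixed-point-free pairing for the trivial twist.** -/
theorem rank_two_mul_le (hPD : IsDefectGroup 2 M B P)
    (hmark : Marked P r b n (blockFusion hM hmax.1.1)) (he : eps r x = 1) :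
    2 * blockRank 2 B + n ≤ Nat.card B := by
  classical
  have := Fact.mk hM.1
  have hF := isBlockFusionSystemOn_blockFusion hM hmax
  have := Fintype.ofFinite (cz r n)
  have := Fintype.ofFinite (IrrCharacter (P.subgroupOf (cz r n)))
  have := Fintype.ofFinite (IrrCharacter G)
  obtain ⟨S⟩ := exists_setup hM hmax hPD hR hmark
  obtain ⟨K, hKP, hzK, hbK, hiff, hinv⟩ := hR.exists_index_two (isSaturated_block hM hF) he
  have hmulK : ∀ u ∈ P, ∀ v ∈ P, u * v ∈ K ↔ (u ∈ K ↔ v ∈ K) := by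
    intro u hu v hv
    by_cases h1 : u ∈ K
    · simp only [h1, true_iff]
      exact ⟨fun h => by simpa using mul_mem (inv_mem h1) h, mul_mem h1⟩
    · simp only [h1, false_iff]
      constructor
      · intro h h2
        exact h1 (by simpa using mul_mem h (inv_mem h2))
      · intro h2
        have h3 := mul_mem ((hiff u hu).2 h1) ((hiff v hv).2 h2)
        have e : u * b * (v * b) = u * v := by
          rw [← mul_assoc, mul_assoc u b v, (hR.comm_b hv).eq, ← mul_assoc, mul_assoc, hR.b_sq,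
            mul_one]
        rwa [e] at h3
  let sgn : G → ℂˣ := fun y => if y ∈ K then 1 else -1
  let μ : P →* ℂˣ :=
    { toFun := fun y => sgn y
      map_one' := if_pos (one_mem K)
      map_mul' := fun u v => by
        by_cases h1 : (u : G) ∈ K <;> by_cases h2 : (v : G) ∈ K <;>
          simp [sgn, h1, h2, hmulK _ u.2 _ v.2] }
  have hμ : CfsgLib.BlockB.Star.IsStable 2 M P c (fun y => (μ y : ℂ)) := by
    intro u v g hg hgv
    have hmap : CfsgLib.Fusion.IsMap (blockFusion hM hmax.1.1) (Subgroup.zpowers (u : G))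
        (fun w => g * w * g⁻¹) :=
      (CfsgLib.BlockA.isMap_iff hM hF).2
        ⟨Subgroup.zpowers_le.2 u.2, g, fun _ _ => rfl, hg⟩
    have h := hinv _ _ hmap _ (Subgroup.mem_zpowers _)
    simp only [hgv] at h
    show (sgn v : ℂ) = sgn u
    simp only [sgn, h]
  have hμb : (μ ⟨b, hR.b_mem⟩ : ℂ) ≠ 1 := by
    show (sgn b : ℂ) ≠ 1
    simp only [sgn, hbK, if_false]
    norm_num
  -- the involution on the members
  have hex : ∀ χ : IrrCharacter G, ∃ χ' : IrrCharacter G, χ ∈ B → χ' ∈ B ∧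
      ((χ' : G → ℂ) = CfsgLib.BlockB.Star.star 2 M P c (χ : G → ℂ) (fun y => (μ y : ℂ))) := by
    intro χ
    by_cases h : χ ∈ B
    · obtain ⟨χ', h1, h2, -⟩ := CfsgLib.BlockB.Star.exists_member hM hmax h μ hμ
      exact ⟨χ', fun _ => ⟨h1, h2⟩⟩
    · exact ⟨χ, fun h' => absurd h' h⟩
  choose τ hτ using hex
  set E := B.toFinite.toFinset with hE
  have hττ : ∀ χ ∈ E, τ χ ∈ E ∧ τ χ ≠ χ ∧ τ (τ χ) = χ := by
    intro χ hχ
    rw [hE, Set.Finite.mem_toFinset] at hχ ⊢
    obtain ⟨h1, h2⟩ := hτ χ hχ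
    refine ⟨h1, fun h => hμb ?_, ?_⟩
    · exact CfsgLib.BlockB.Star.eq_one_of_fixed_central hM hmax hχ ⟨b, hR.b_mem⟩
        (fun w hw => (hR.comm_b hw).symm) hμ (by rw [← h2, h])
    · obtain ⟨-, h3⟩ := hτ (τ χ) h1
      refine Subtype.ext ?_
      rw [h3, CfsgLib.BlockB.Star.star_star hM hmax hμ h2]
      have e : (fun y : P => (μ y : ℂ) * (μ y : ℂ)) = fun _ => 1 := funext fun y => by
        show (sgn y : ℂ) * sgn y = 1
        by_cases hy : (y : G) ∈ K <;> simp [sgn, hy]
      rw [e, CfsgLib.BlockB.Star.star_one hM hmax hχ]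
  -- the elements
  set Y := Finset.univ.filter fun y : G => y ∈ K ∧ y ∈ mx r b ∧ y * y ≠ 1 with hY
  have hb_swap : ∀ y, y ∈ mx r b → ((y * b ∈ mx r b) ∧ (y * b * (y * b) = y * y)) := fun y hy =>
    ⟨mul_mem hy hR.b_mem_mx, by
      calc y * b * (y * b) = y * (b * y) * b := by group
        _ = y * y * (b * b) := by rw [(hR.comm_mx hR.b_mem_mx hy).eq]; group
        _ = y * y := by rw [hR.b_sq, mul_one]⟩
  have hYc : 2 * Y.card + 4 = 2 * n := by
    rw [← hR.card_sq_ne]
    congr 1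
    rw [two_mul, ← Finset.card_filter_add_card_filter_not
      (s := Finset.univ.filter fun y : G => y ∈ mx r b ∧ y * y ≠ 1) (fun y => y ∈ K),
      Finset.filter_filter, Finset.filter_filter]
    have e1 : Y = Finset.univ.filter fun y : G => (y ∈ mx r b ∧ y * y ≠ 1) ∧ y ∈ K :=
      Finset.filter_congr fun y _ => by tauto
    rw [← e1]
    congr 1
    refine Finset.card_nbij' (· * b) (· * b) (fun y hy => ?_) (fun y hy => ?_) (fun y _ => ?_)
      fun y _ => ?_
    · simp only [hY, Finset.coe_filter, Finset.mem_univ, true_and, Set.mem_setOf_eq] at hy ⊢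
      obtain ⟨hk, hm, h2⟩ := hy
      obtain ⟨h3, h4⟩ := hb_swap y hm
      exact ⟨⟨h3, h4 ▸ h2⟩, fun h => (hiff y (hR.mx_le hm)).1 h hk⟩
    · simp only [hY, Finset.coe_filter, Finset.mem_univ, true_and, Set.mem_setOf_eq] at hy ⊢
      obtain ⟨⟨hm, h2⟩, hk⟩ := hy
      obtain ⟨h3, h4⟩ := hb_swap y hm
      exact ⟨(hiff y (hR.mx_le hm)).2 hk, h3, h4 ▸ h2⟩
    · show y * b * b = y
      rw [mul_assoc, hR.b_sq, mul_one]
    · show y * b * b = y
      rw [mul_assoc, hR.b_sq, mul_one]
  obtain ⟨T, hTY, hTc, hTsep⟩ := hR.exists_reps Y fun y hy => by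
    rw [hY, Finset.mem_filter] at hy
    refine ⟨hy.2.2.1, hy.2.2.2, Finset.mem_filter.2 ⟨Finset.mem_univ _, ?_,
      hR.conj_mem_mx hR.x_mem hy.2.2.1, fun h => hy.2.2.2 ?_⟩⟩
    · have hxP := hR.x_mem
      rw [hmulK _ (P.mul_mem hxP (hR.mx_le hy.2.2.1)) _ (P.inv_mem hxP),
        hmulK _ hxP _ (hR.mx_le hy.2.2.1)]
      simp [hy.2.1]
    · exact conj_eq_one_iff.1 (show x * (y * y) * x⁻¹ = 1 by rw [← h]; group)
  set D := insert (r ^ (n / 2)) T with hD
  have hzT : r ^ (n / 2) ∉ T := fun h => (Finset.mem_filter.1 (hTY h)).2.2.2 hR.z_sq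
  have hDkey : ∀ y ∈ D, Key r b n y ∧ y ∈ K := by
    intro y hy
    rcases Finset.mem_insert.1 hy with rfl | hy
    · exact ⟨hR.key_z, hzK⟩
    · obtain ⟨h1, h2, h3⟩ := (Finset.mem_filter.1 (hTY hy)).2
      exact ⟨⟨h2, Or.inl h3⟩, h1⟩
  have hDsep : ∀ y ∈ D, ∀ y' ∈ D, y' = y ∨ y' = x * y * x⁻¹ → y' = y := by
    intro y hy y' hy' h
    rcases Finset.mem_insert.1 hy with rfl | hy <;>
      rcases Finset.mem_insert.1 hy' with rfl | hy'
    · rfl
    · rcases h with h | h
      · exact h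
      · rw [h, (hR.comm_z hR.x_mem).symm.eq, mul_inv_cancel_right]
    · rcases h with h | h
      · exact h
      · refine absurd ?_ (Finset.mem_filter.1 (hTY hy)).2.2.2
        exact conj_eq_one_iff.1 (show x * (y * y) * x⁻¹ = 1 by
          rw [← hR.z_sq, h]; group)
    · exact hTsep y hy y' hy' h
  -- the columns are invariant
  have hcol : ∀ χ ∈ E, ∀ y ∈ D, col S (τ χ) y = col S χ y := by
    intro χ hχ y hy
    rw [hE, Set.Finite.mem_toFinset] at hχ
    obtain ⟨hk, hyK⟩ := hDkey y hy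
    have hyP := hR.key_mem hk
    obtain ⟨-, h2⟩ := hτ χ hχ
    obtain ⟨β, hb, hbβ, hbp, -, hne⟩ := key_data hR S hM hmax hk
    obtain ⟨f, -, hfle⟩ := exists_below hM hmax hyP
    have hrep : CfsgLib.BlockB.Star.Rep 2 M P c y
        (subgroupBlockCoeff (Subgroup.centralizer ({y} : Set G)) β) ⟨y, hyP⟩ :=
      ⟨1, f, by group, hfle, by
        rw [CfsgLib.BlockB.Star.conjFun_one, beta_eq_of_below hM hmax hyP rfl hfle, hbβ]⟩
    have h1 : ¬ 2 ∣ orderOf (1 : Subgroup.centralizer ({y} : Set G)) := by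
      rw [orderOf_one]; norm_num
    have h3 := CfsgLib.BlockB.Star.blockPart_star hM hmax hμ h2 (hR.key_order hyP) hb.1 h1
    rw [CfsgLib.BlockB.Star.L_eq hM hmax.1.1 hμ hrep,
      show (μ ⟨y, hyP⟩ : ℂ) = 1 from by
        show (sgn y : ℂ) = 1
        simp only [sgn, hyK, if_true, Units.val_one], one_mul] at h3
    have h4 := hbp (τ χ) 1 h1
    have h5 := hbp χ 1 h1
    rw [bp] at h4 h5
    rw [h3, h5] at h4
    exact (mul_right_cancel₀ hne h4).symm
  have hreg : ∀ χ ∈ E, pRegularPart 2 (τ χ : G → ℂ) = pRegularPart 2 (χ : G → ℂ) := by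
    intro χ hχ
    rw [hE, Set.Finite.mem_toFinset] at hχ
    obtain ⟨-, h2⟩ := hτ χ hχ
    funext g
    unfold pRegularPart
    split_ifs with hg
    · rw [h2, CfsgLib.BlockB.Star.star_regular hM hmax hχ hμ hg, map_one, Units.val_one, one_mul]
    · rfl
  -- the span
  let v : IrrCharacter G → (G → ℂ) × (D → ℂ) := fun χ =>
    (pRegularPart 2 (χ : G → ℂ), fun y => col S χ y)
  let W := Submodule.span ℂ (v '' (E : Set (IrrCharacter G)))
  have hW : 2 * Module.finrank ℂ W ≤ E.card := by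
    letI : LinearOrder (IrrCharacter G) :=
      LinearOrder.lift' (Fintype.equivFin (IrrCharacter G)) (Fintype.equivFin _).injective
    exact finrank_span_pair_le E τ hττ v fun χ hχ => Prod.ext (hreg χ hχ)
      (funext fun y => hcol χ hχ y y.2)
  have hwt : ∀ y : D, ((wt r n (y : G) : ℕ) : ℂ) ≠ 0 := fun y => by
    unfold wt
    have := hR.n_pos
    split_ifs <;> exact Nat.cast_ne_zero.2 (by omega)
  have horth : ∀ (y : D), ∑ χ ∈ E, conj (col S χ y) • v χ =
      ((0 : G → ℂ), Pi.single y ((wt r n (y : G) : ℕ) : ℂ)) := by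
    intro y
    refine Prod.ext ?_ ?_
    · rw [Prod.fst_sum]
      funext g
      simp only [v, Prod.smul_fst, Finset.sum_apply, Pi.smul_apply, smul_eq_mul, Pi.zero_apply]
      unfold pRegularPart
      by_cases hg : IsPRegular 2 g
      · simp only [if_pos hg]
        have h := col_regular hR S hM hmax (hDkey y y.2).1 (ρ := g⁻¹)
          (by rw [orderOf_inv]; exact hg)
        have h' := congrArg (starRingEnd ℂ) h
        rw [map_sum, map_zero] at h'
        rw [← h']
        refine Finset.sum_congr rfl fun χ _ => ?_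
        rw [map_mul, irr_conj_eq χ.2, inv_inv]
        ring
      · simp [if_neg hg]
    · rw [Prod.snd_sum]
      funext y'
      simp only [v, Prod.smul_snd, Finset.sum_apply, Pi.smul_apply, smul_eq_mul]
      rw [Finset.sum_congr rfl fun χ _ => mul_comm (conj (col S χ y)) (col S χ y'),
        col_orth hR S hM hmax (hDkey y' y'.2).1 (hDkey y y.2).1, Pi.single_apply]
      by_cases h : y' = y
      · subst h
        rw [if_pos (Or.inl rfl), if_pos rfl]
      · rw [if_neg h, if_neg fun h' => h (Subtype.ext (hDsep y' y'.2 y y.2 h').symm)]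
  have hsingle : ∀ y : D, ((0 : G → ℂ), Pi.single y (1 : ℂ)) ∈ W := fun y => by
    have h : ((wt r n (y : G) : ℕ) : ℂ)⁻¹ • (∑ χ ∈ E, conj (col S χ y) • v χ) ∈ W :=
      W.smul_mem _ (W.sum_mem fun χ hχ => W.smul_mem _ (Submodule.subset_span ⟨χ, hχ, rfl⟩))
    rw [horth, Prod.smul_mk, smul_zero, ← Pi.single_smul, smul_eq_mul, inv_mul_cancel₀ (hwt y)] at h
    exact h
  have hsnd : ∀ d : D → ℂ, ((0 : G → ℂ), d) ∈ W := fun d => by
    have h : ∑ y : D, d y • ((0 : G → ℂ), Pi.single (M := fun _ => ℂ) y (1 : ℂ)) ∈ W :=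
      W.sum_mem fun y _ => W.smul_mem _ (hsingle y)
    have e : ∑ y : D, d y • ((0 : G → ℂ), Pi.single (M := fun _ => ℂ) y (1 : ℂ)) = ((0 : G → ℂ), d) := by
      refine Prod.ext ?_ ?_
      · simp [Prod.fst_sum]
      · rw [Prod.snd_sum]
        funext z
        simp [Finset.sum_apply, Pi.single_apply]
    exact e ▸ h
  have hrange : ∀ (p : Submodule.span ℂ ((fun χ : IrrCharacter G => pRegularPart 2 (χ : G → ℂ)) '' B))
      (d : D → ℂ), (((p : G → ℂ)), d) ∈ W := by
    rintro ⟨p, hp⟩ d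
    induction hp using Submodule.span_induction generalizing d with
    | mem p hp =>
      obtain ⟨χ, hχ, rfl⟩ := hp
      have h1 : v χ ∈ W := Submodule.subset_span ⟨χ, B.toFinite.mem_toFinset.2 hχ, rfl⟩
      have h2 := W.add_mem h1 (hsnd (d - fun y : D => col S χ (y : G)))
      simpa [v] using h2
    | zero => exact hsnd d
    | add p q _ _ hp hq =>
      have := W.add_mem (hp d) (hq 0)
      simpa using this
    | smul a p _ hp =>
      have := W.add_mem (W.smul_mem a (hp 0)) (hsnd d)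
      simpa using this
  let L : (Submodule.span ℂ ((fun χ : IrrCharacter G => pRegularPart 2 (χ : G → ℂ)) '' B)) ×
      (D → ℂ) →ₗ[ℂ] W :=
    { toFun := fun q => ⟨((q.1 : G → ℂ), q.2), hrange q.1 q.2⟩
      map_add' := fun _ _ => rfl
      map_smul' := fun _ _ => rfl }
  have hLinj : Function.Injective L := fun q q' h =>
    Prod.ext (Subtype.ext (congrArg (fun t : W => (t : (G → ℂ) × (D → ℂ)).1) h))
      (congrArg (fun t : W => (t : (G → ℂ) × (D → ℂ)).2) h)
  have hdim := LinearMap.finrank_le_finrank_of_injective hLinj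
  rw [Module.finrank_prod, Module.finrank_pi, Fintype.card_coe] at hdim
  have hDc : D.card = T.card + 1 := by rw [hD, Finset.card_insert_of_notMem hzT]
  have hcardB : Nat.card B = E.card := by
    rw [Nat.card_coe_set_eq, hE, Set.ncard_eq_toFinset_card B B.toFinite]
  rw [hcardB]
  have hhalf := hR.half
  unfold blockRank
  omega

end Resid

variable [Fintype G] {M : Ideal AlgInt} [M.IsPrime] {B : Set (IrrCharacter G)} {P : Subgroup G}
  {c : Set (IrrCharacter (Subgroup.centralizer (P : Set G)))} {r b x : G} {n : ℕ}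

/-- **A block with residual defect group has rank at most three.** -/
theorem resid_rank_le_three (hM : IsPModular 2 M) (hmax : IsMaximalBrauerPair 2 M B P c)
    (hPD : IsDefectGroup 2 M B P) (hR : Resid P r b x n) : blockRank 2 B ≤ 3 := by
  classical
  have := Fact.mk hM.1
  obtain ⟨r', b', x', hR', hmark⟩ :=
    hR.exists_marked (isSaturated_block hM (isBlockFusionSystemOn_blockFusion hM hmax))
  have := Fintype.ofFinite (cz r' n)
  have := Fintype.ofFinite (IrrCharacter (P.subgroupOf (cz r' n)))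
  obtain ⟨S⟩ := exists_setup hM hmax hPD hR' hmark
  have hk := card_le hR' S hM hmax hPD
  by_cases he : eps r' x' = 1
  · have h := hR'.rank_two_mul_le hM hmax hPD hmark he
    omega
  · have h := hR'.rank_add_le hM hmax he
    omega

end CfsgLib.BlockA.IndexFour
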