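import Cfsg.Agent.Lib.BlockA.IndexFour.Defs
import Cfsg.Agent.Lib.BlockA.IndexFour.Cube

/-!
The residual shape: its abelian maximal subgroup, the squares and the commutators.
-/

set_option autoImplicit false
set_option linter.unusedSectionVars false

namespace CfsgLib.BlockA.IndexFour

open Subgroup

universe u

variable {G : Type u} [Group G]

/-- The abelian maximal subgroup. -/
def mx (r b : G) : Subgroup G := zpowers r ⊔ zpowers b

/-- The twist. -/
def eps (r x : G) : G := r * (x * r * x⁻¹)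

/-- The generator of the commutators. -/
def kap (r x : G) : G := x * r * x⁻¹ * r⁻¹

/-- The involution that is a commutator. -/
def ctr (r x : G) (n : ℕ) : G := kap r x ^ (n / 4)

namespace Resid

variable {P : Subgroup G} {r b x : G} {n : ℕ} (hR : Resid P r b x n)
include hR

theorem n_pos : 0 < n := by have := hR.four_le; omega

theorem four_dvd : 4 ∣ n := by
  obtain ⟨k, rfl⟩ := hR.two_pow
  have := hR.four_le
  rcases k with _ | _ | k
  · simp at this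
  · simp at this
  · exact ⟨2 ^ k, by ring⟩

theorem half : 2 * (n / 2) = n := by
  have := hR.four_dvd
  omega

theorem quarter : 4 * (n / 4) = n := by
  have := hR.four_dvd
  omega

theorem even_quarter (h8 : 8 ≤ n) : Even (n / 4) := by
  obtain ⟨k, rfl⟩ := hR.two_pow
  rcases k with _ | _ | _ | k
  · omega
  · omega
  · omega
  · refine ⟨2 ^ k, ?_⟩
    rw [show 2 ^ (k + 1 + 1 + 1) = 4 * (2 * 2 ^ k) by ring, Nat.mul_div_cancel_left _ (by norm_num)]
    ring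

theorem pow_eq_one_iff (l : ℕ) : r ^ l = 1 ↔ n ∣ l := by
  rw [← orderOf_dvd_iff_pow_eq_one, hR.orderOf_r]

theorem finite : Finite P := Nat.finite_of_card_ne_zero (by
  rw [hR.card_eq]; have := hR.n_pos; omega)

theorem isPGroup : IsPGroup 2 P := by
  obtain ⟨k, hk⟩ := hR.two_pow
  exact IsPGroup.of_card (n := k + 2) (by rw [hR.card_eq, hk, pow_add]; ring)

theorem b_inv : b⁻¹ = b := inv_eq_of_mul_eq_one_left hR.b_sq

theorem b_pow (j : ℕ) : b ^ j = 1 ∨ b ^ j = b := by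
  rcases Nat.even_or_odd' j with ⟨c, rfl | rfl⟩
  · exact Or.inl (by rw [pow_mul, pow_two, hR.b_sq, one_pow])
  · exact Or.inr (by rw [pow_succ, pow_mul, pow_two, hR.b_sq, one_pow, one_mul])

theorem b_ne_one : b ≠ 1 := fun h => hR.b_not (h ▸ one_mem _)

theorem mem_mx_iff {y : G} : y ∈ mx r b ↔ ∃ l j : ℕ, y = r ^ l * b ^ j := by
  have hr : ∀ y ∈ zpowers r, ∃ l : ℕ, y = r ^ l := fun y hy => by
    have hfin : IsOfFinOrder r := orderOf_pos_iff.1 (by rw [hR.orderOf_r]; exact hR.n_pos)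
    obtain ⟨l, hl⟩ := hfin.mem_powers_iff_mem_zpowers.2 hy
    exact ⟨l, hl.symm⟩
  have hb : ∀ y ∈ zpowers b, ∃ j : ℕ, y = b ^ j := fun y hy => by
    have hfin : IsOfFinOrder b := isOfFinOrder_iff_pow_eq_one.2 ⟨2, two_pos, by rw [pow_two, hR.b_sq]⟩
    obtain ⟨l, hl⟩ := hfin.mem_powers_iff_mem_zpowers.2 hy
    exact ⟨l, hl.symm⟩
  constructor
  · intro hy
    have hnorm : zpowers r ≤ Subgroup.normalizer (zpowers b : Set G) := by
      refine Subgroup.zpowers_le.2 ?_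
      have hc : r ∈ Subgroup.centralizer (zpowers b : Set G) :=
        Subgroup.mem_centralizer_iff.2 fun w hw => by
          obtain ⟨i, rfl⟩ := hw
          exact (hR.comm_r.zpow_left i).eq
      exact Subgroup.centralizer_le_normalizer _ hc
    rw [mx, ← SetLike.mem_coe, Subgroup.coe_mul_of_left_le_normalizer_right _ _ hnorm] at hy
    obtain ⟨a, ha, c, hc, rfl⟩ := Set.mem_mul.1 hy
    obtain ⟨l, rfl⟩ := hr a ha
    obtain ⟨j, rfl⟩ := hb c hc
    exact ⟨l, j, rfl⟩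
  · rintro ⟨l, j, rfl⟩
    exact mul_mem (Subgroup.mem_sup_left (npow_mem_zpowers r l))
      (Subgroup.mem_sup_right (npow_mem_zpowers b j))

theorem mx_le : mx r b ≤ P :=
  sup_le (Subgroup.zpowers_le.2 hR.r_mem) (Subgroup.zpowers_le.2 hR.b_mem)

theorem r_mem_mx : r ∈ mx r b := Subgroup.mem_sup_left (mem_zpowers r)

theorem b_mem_mx : b ∈ mx r b := Subgroup.mem_sup_right (mem_zpowers b)

theorem comm_mx {v w : G} (hv : v ∈ mx r b) (hw : w ∈ mx r b) : Commute v w := by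
  obtain ⟨l, j, rfl⟩ := hR.mem_mx_iff.1 hv
  obtain ⟨l', j', rfl⟩ := hR.mem_mx_iff.1 hw
  have h1 : Commute (r ^ l) (r ^ l' * b ^ j') :=
    ((Commute.refl r).pow_pow l l').mul_right (hR.comm_r.symm.pow_pow l j')
  have h2 : Commute (b ^ j) (r ^ l' * b ^ j') :=
    (hR.comm_r.pow_pow j l').mul_right ((Commute.refl b).pow_pow j j')
  exact h1.mul_left h2

theorem x_not_mx : x ∉ mx r b := by
  intro h
  obtain ⟨l, j, e⟩ := hR.mem_mx_iff.1 h
  rcases hR.b_pow j with e' | e' <;> rw [e'] at e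
  · exact hR.x_not.1 (by rw [e, mul_one]; exact npow_mem_zpowers r l)
  · exact hR.x_not.2 (by rw [e, mul_assoc, hR.b_sq, mul_one]; exact npow_mem_zpowers r l)

theorem card_mx : Nat.card (mx r b) = 2 * n := by
  have hle : mx r b ≤ P := hR.mx_le
  have := hR.finite
  have : Finite (mx r b) := Finite.of_injective (Subgroup.inclusion hle)
    (Subgroup.inclusion_injective hle)
  have h1 : Nat.card (zpowers r) ∣ Nat.card (mx r b) := Subgroup.card_dvd_of_le le_sup_left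
  have h2 : Nat.card (mx r b) ∣ Nat.card P := Subgroup.card_dvd_of_le hle
  rw [Nat.card_zpowers, hR.orderOf_r] at h1
  rw [hR.card_eq] at h2
  obtain ⟨c, hc⟩ := h1
  rw [hc, mul_comm 4 n] at h2
  have hc4 : c ∣ 4 := Nat.dvd_of_mul_dvd_mul_left hR.n_pos h2
  have hc1 : c ≠ 1 := fun e => hR.b_not (by
    have e1 : zpowers r = mx r b := Subgroup.eq_of_le_of_card_ge le_sup_left
      (by rw [hc, e, mul_one, Nat.card_zpowers, hR.orderOf_r])
    exact e1 ▸ hR.b_mem_mx)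
  have hc4' : c ≠ 4 := fun e => hR.x_not_mx (by
    have e1 : mx r b = P := Subgroup.eq_of_le_of_card_ge hle
      (by rw [hc, e, hR.card_eq, mul_comm])
    exact e1 ▸ hR.x_mem)
  have := Nat.le_of_dvd (by norm_num) hc4
  interval_cases c <;> omega

theorem index_mx : ((mx r b).subgroupOf P).index = 2 := by
  have h1 := ((mx r b).subgroupOf P).card_mul_index
  rw [Nat.card_congr (Subgroup.subgroupOfEquivOfLe hR.mx_le).toEquiv, hR.card_mx, hR.card_eq] at h1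
  have := hR.n_pos
  nlinarith

theorem mul_mem_mx_iff {v w : G} (hv : v ∈ P) (hw : w ∈ P) :
    v * w ∈ mx r b ↔ (v ∈ mx r b ↔ w ∈ mx r b) := by
  have h := Subgroup.mul_mem_iff_of_index_two hR.index_mx (a := ⟨v, hv⟩) (b := ⟨w, hw⟩)
  simp only [Subgroup.mem_subgroupOf] at h
  exact h

theorem outside_mul {v w : G} (hv : v ∈ P) (hv' : v ∉ mx r b) (hw : w ∈ P) (hw' : w ∉ mx r b) :
    v⁻¹ * w ∈ mx r b :=
  (hR.mul_mem_mx_iff (P.inv_mem hv) hw).2 (iff_of_false (fun h => hv' (inv_mem_iff.1 h)) hw')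

theorem exists_outside {w : G} (hw : w ∈ P) (hw' : w ∉ mx r b) : ∃ m ∈ mx r b, w = x * m :=
  ⟨x⁻¹ * w, hR.outside_mul hR.x_mem hR.x_not_mx hw hw', by rw [mul_inv_cancel_left]⟩

theorem conj_r : x * r * x⁻¹ = r⁻¹ * eps r x := by rw [eps, inv_mul_cancel_left]

theorem eps_cases : eps r x = 1 ∨ eps r x = b ∨ (8 ≤ n ∧ eps r x = r ^ (n / 2)) := by
  rcases hR.kind with ⟨-, h⟩ | ⟨-, h⟩ | ⟨h8, -, h⟩ <;> rw [eps, h] <;>
    simp_all

theorem z_sq : r ^ (n / 2) * r ^ (n / 2) = 1 := by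
  rw [← pow_add, ← two_mul, hR.half, hR.pow_eq_one_iff]

theorem z_ne_one : r ^ (n / 2) ≠ 1 := fun h => by
  have := Nat.le_of_dvd (by have := hR.four_le; omega) ((hR.pow_eq_one_iff _).1 h)
  have := hR.four_le
  omega

theorem z_mem_mx : r ^ (n / 2) ∈ mx r b := pow_mem hR.r_mem_mx _

theorem z_pow (l : ℕ) : (r ^ (n / 2)) ^ l = 1 ∨ ((r ^ (n / 2)) ^ l = r ^ (n / 2) ∧ Odd l) := by
  rcases Nat.even_or_odd' l with ⟨c, rfl | rfl⟩
  · exact Or.inl (by rw [pow_mul, pow_two, hR.z_sq, one_pow])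
  · exact Or.inr ⟨by rw [pow_succ, pow_mul, pow_two, hR.z_sq, one_pow, one_mul], odd_two_mul_add_one c⟩

theorem eps_sq : eps r x * eps r x = 1 := by
  rcases hR.eps_cases with h | h | ⟨-, h⟩ <;> rw [h]
  exacts [one_mul 1, hR.b_sq, hR.z_sq]

theorem eps_mem : eps r x ∈ mx r b := by
  rcases hR.eps_cases with h | h | ⟨-, h⟩ <;> rw [h]
  exacts [one_mem _, hR.b_mem_mx, hR.z_mem_mx]

theorem conj_r_pow (l : ℕ) : x * r ^ l * x⁻¹ = (r ^ l)⁻¹ * eps r x ^ l := by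
  rw [← _root_.conj_pow, hR.conj_r,
    (hR.comm_mx (inv_mem hR.r_mem_mx) hR.eps_mem).mul_pow, inv_pow]

theorem conj_elem (l j : ℕ) :
    x * (r ^ l * b ^ j) * x⁻¹ = (r ^ l)⁻¹ * eps r x ^ l * b ^ j := by
  have h : x * b ^ j * x⁻¹ = b ^ j := by
    rw [((hR.comm_x.pow_left j).symm).eq, mul_inv_cancel_right]
  calc x * (r ^ l * b ^ j) * x⁻¹ = x * r ^ l * x⁻¹ * (x * b ^ j * x⁻¹) := by group
    _ = _ := by rw [h, hR.conj_r_pow]

theorem conj_mem_mx {v m : G} (hv : v ∈ P) (hm : m ∈ mx r b) : v * m * v⁻¹ ∈ mx r b := by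
  have h1 := (Subgroup.normal_of_index_eq_two hR.index_mx).conj_mem ⟨m, hR.mx_le hm⟩
    (Subgroup.mem_subgroupOf.2 hm) ⟨v, hv⟩
  exact Subgroup.mem_subgroupOf.1 h1

theorem conj_outside {v m : G} (hv : v ∈ P) (hv' : v ∉ mx r b) (hm : m ∈ mx r b) :
    v * m * v⁻¹ = x * m * x⁻¹ := by
  obtain ⟨m', hm', rfl⟩ := hR.exists_outside hv hv'
  calc x * m' * m * (x * m')⁻¹ = x * (m' * m) * m'⁻¹ * x⁻¹ := by group
    _ = _ := by rw [(hR.comm_mx hm' hm).eq]; group

theorem eq_z_of_sq {y : G} (hy : y ∈ mx r b) (h : y * y = 1) :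
    y = 1 ∨ y = r ^ (n / 2) ∨ y = b ∨ y = b * r ^ (n / 2) := by
  obtain ⟨l, j, rfl⟩ := hR.mem_mx_iff.1 hy
  have e : r ^ l * b ^ j * (r ^ l * b ^ j) = r ^ (2 * l) := by
    rw [← pow_two, (hR.comm_r.symm.pow_pow l j).mul_pow, ← pow_mul, ← pow_mul, mul_comm l 2,
      mul_comm j 2, pow_mul b, pow_two, hR.b_sq, one_pow, mul_one]
  rw [e, hR.pow_eq_one_iff] at h
  have hl : n / 2 ∣ l := by
    have := hR.half
    obtain ⟨c, hc⟩ := h
    exact ⟨c, by nlinarith⟩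
  obtain ⟨c, rfl⟩ := hl
  rw [pow_mul]
  rcases hR.z_pow c with h1 | ⟨h1, -⟩ <;> rcases hR.b_pow j with h2 | h2 <;> rw [h1, h2]
  · exact Or.inl (one_mul 1)
  · exact Or.inr (Or.inr (Or.inl (one_mul b)))
  · exact Or.inr (Or.inl (mul_one _))
  · exact Or.inr (Or.inr (Or.inr (hR.comm_r.symm.pow_left _).eq))

/-- The squares inside lie in the cyclic group. -/
theorem sq_mem {y : G} (hy : y ∈ mx r b) : ∃ l : ℕ, y * y = r ^ l := by
  obtain ⟨l, j, rfl⟩ := hR.mem_mx_iff.1 hy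
  refine ⟨2 * l, ?_⟩
  rw [← pow_two, (hR.comm_r.symm.pow_pow l j).mul_pow, ← pow_mul, ← pow_mul, mul_comm l 2,
    mul_comm j 2, pow_mul b, pow_two, hR.b_sq, one_pow, mul_one]

/-- The squares outside. -/
theorem sq_outside {w : G} (hw : w ∈ P) (hw' : w ∉ mx r b) :
    w * w = 1 ∨ w * w = b ∨ w * w = b * r ^ (n / 2) := by
  obtain ⟨m, hm, rfl⟩ := hR.exists_outside hw hw'
  obtain ⟨l, j, rfl⟩ := hR.mem_mx_iff.1 hm
  have e : x * (r ^ l * b ^ j) * (x * (r ^ l * b ^ j)) = eps r x ^ l * (x * x) := by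
    have h2 : Commute (x * x) (r ^ l * b ^ j) := by
      refine hR.comm_mx ?_ (hR.mem_mx_iff.2 ⟨l, j, rfl⟩)
      exact (hR.mul_mem_mx_iff hR.x_mem hR.x_mem).2 Iff.rfl
    calc x * (r ^ l * b ^ j) * (x * (r ^ l * b ^ j))
        = x * (r ^ l * b ^ j) * x⁻¹ * ((x * x) * (r ^ l * b ^ j)) := by group
      _ = (r ^ l)⁻¹ * eps r x ^ l * b ^ j * (r ^ l * b ^ j * (x * x)) := by rw [hR.conj_elem, h2.eq]
      _ = _ := by
        have hr := pow_mem hR.r_mem_mx l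
        have hb := pow_mem hR.b_mem_mx j
        have he := pow_mem hR.eps_mem l
        rw [← mul_assoc _ (r ^ l * b ^ j) (x * x)]
        congr 1
        calc (r ^ l)⁻¹ * eps r x ^ l * b ^ j * (r ^ l * b ^ j)
            = (r ^ l)⁻¹ * (eps r x ^ l * b ^ j * r ^ l) * b ^ j := by group
          _ = (r ^ l)⁻¹ * (r ^ l * (eps r x ^ l * b ^ j)) * b ^ j := by
              rw [(hR.comm_mx (mul_mem he hb) hr).eq]
          _ = eps r x ^ l * (b ^ j * b ^ j) := by group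
          _ = _ := by
              rw [← pow_add, ← two_mul, pow_mul, pow_two, hR.b_sq, one_pow, mul_one]
  rw [e]
  rcases hR.kind with ⟨hx, h⟩ | ⟨hx, h⟩ | ⟨-, hx, h⟩
  · left
    rw [hx, mul_one, eps, h, mul_inv_cancel, one_pow]
  · rw [hx, mul_one, eps, h, mul_inv_cancel_left]
    rcases hR.b_pow l with h1 | h1 <;> rw [h1]
    exacts [Or.inl rfl, Or.inr (Or.inl rfl)]
  · rw [hx, eps, h, mul_inv_cancel_left]
    rcases hR.z_pow l with h1 | ⟨h1, -⟩ <;> rw [h1]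
    · exact Or.inr (Or.inl (one_mul b))
    · exact Or.inr (Or.inr (hR.comm_r.symm.pow_left _).eq)

theorem z_ne_b : r ^ (n / 2) ≠ b := fun h => hR.b_not (h ▸ npow_mem_zpowers r _)

theorem bz_ne : b * r ^ (n / 2) ≠ 1 ∧ b * r ^ (n / 2) ≠ r ^ (n / 2) ∧ b * r ^ (n / 2) ≠ b :=
  ⟨fun h => hR.z_ne_b (by
      rw [← mul_one b, ← hR.z_sq, ← mul_assoc, h, one_mul]),
    fun h => hR.b_ne_one (mul_eq_right.1 h), fun h => hR.z_ne_one (mul_eq_left.1 h)⟩

theorem sq_outside_ne {w : G} (hw : w ∈ P) (hw' : w ∉ mx r b) : w * w ≠ r ^ (n / 2) := by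
  rcases hR.sq_outside hw hw' with h | h | h <;> rw [h]
  exacts [hR.z_ne_one.symm, hR.z_ne_b.symm, hR.bz_ne.2.1]

theorem pow_four_outside {w : G} (hw : w ∈ P) (hw' : w ∉ mx r b) : w * w * (w * w) = 1 := by
  rcases hR.sq_outside hw hw' with h | h | h <;> rw [h]
  · exact one_mul 1
  · exact hR.b_sq
  · calc b * r ^ (n / 2) * (b * r ^ (n / 2)) = b * b * (r ^ (n / 2) * r ^ (n / 2)) := by
          rw [mul_assoc, ← mul_assoc (r ^ (n / 2)) b, (hR.comm_r.symm.pow_left _).eq]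
          group
      _ = 1 := by rw [hR.b_sq, hR.z_sq, one_mul]

/-- The central involution lies above every other element of the abelian subgroup. -/
theorem z_mem_zpowers_sq {y : G} (hy : y ∈ mx r b) (h : y * y ≠ 1) :
    r ^ (n / 2) ∈ zpowers (y * y) := by
  obtain ⟨l, hl⟩ := hR.sq_mem hy
  have hmem : r ^ l ∈ zpowers (y * y) := hl ▸ mem_zpowers _
  obtain ⟨k, hk⟩ := hR.two_pow
  obtain ⟨i, -, hi⟩ := (Nat.dvd_prime_pow Nat.prime_two).1
    (show orderOf (r ^ l) ∣ 2 ^ k from hk ▸ hR.orderOf_r ▸ orderOf_pow_dvd l)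
  rcases i with _ | i
  · exact absurd (hl.trans (orderOf_eq_one_iff.1 (hi.trans (pow_zero 2)))) h
  have ho : orderOf ((r ^ l) ^ 2 ^ i) = 2 := by
    rw [orderOf_pow_of_dvd (pow_ne_zero _ two_ne_zero) (hi ▸ pow_dvd_pow 2 (Nat.le_succ i)), hi,
      pow_succ, Nat.mul_div_cancel_left _ (pow_pos two_pos i)]
  have hw2 : (r ^ l) ^ 2 ^ i * (r ^ l) ^ 2 ^ i = 1 := by
    rw [← pow_two, ← orderOf_dvd_iff_pow_eq_one, ho]
  have hw1 : (r ^ l) ^ 2 ^ i ≠ 1 := fun e => by rw [e, orderOf_one] at ho; omega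
  have hwr : (r ^ l) ^ 2 ^ i ∈ zpowers r := pow_mem (npow_mem_zpowers r l) _
  rcases hR.eq_z_of_sq (pow_mem (pow_mem hR.r_mem_mx l) _) hw2 with e | e | e | e
  · exact absurd e hw1
  · exact e ▸ pow_mem hmem _
  · exact absurd (e ▸ hwr) hR.b_not
  · refine absurd ?_ hR.b_not
    have h1 := mul_mem (e ▸ hwr : b * r ^ (n / 2) ∈ zpowers r) (npow_mem_zpowers r (n / 2))
    rwa [mul_assoc, hR.z_sq, mul_one] at h1

theorem z_mem_zpowers {y : G} (hy : y ∈ mx r b) (h : y * y ≠ 1) : r ^ (n / 2) ∈ zpowers y :=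
  Subgroup.zpowers_le.2 (mul_mem (mem_zpowers y) (mem_zpowers y)) (hR.z_mem_zpowers_sq hy h)

theorem comm_b {v : G} (hv : v ∈ P) : Commute b v := by
  by_cases hv' : v ∈ mx r b
  · exact hR.comm_mx hR.b_mem_mx hv'
  obtain ⟨m, hm, rfl⟩ := hR.exists_outside hv hv'
  exact hR.comm_x.mul_right (hR.comm_mx hR.b_mem_mx hm)

theorem eps_pow_half : eps r x ^ (n / 2) = 1 := by
  obtain ⟨c, hc⟩ : 2 ∣ n / 2 := by have := hR.four_dvd; omega
  rw [hc, pow_mul, pow_two, hR.eps_sq, one_pow]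

theorem comm_z {v : G} (hv : v ∈ P) : Commute (r ^ (n / 2)) v := by
  have hx : Commute (r ^ (n / 2)) x := by
    have h := hR.conj_r_pow (n / 2)
    rw [hR.eps_pow_half, mul_one, inv_eq_of_mul_eq_one_left hR.z_sq] at h
    exact (mul_inv_eq_iff_eq_mul.1 h).symm
  by_cases hv' : v ∈ mx r b
  · exact hR.comm_mx hR.z_mem_mx hv'
  obtain ⟨m, hm, rfl⟩ := hR.exists_outside hv hv'
  exact hx.mul_right (hR.comm_mx hR.z_mem_mx hm)

/-- An element of the abelian subgroup commutes with outside elements only if its square is one. -/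
theorem not_commute {y w : G} (hy : y ∈ mx r b) (h : y * y ≠ 1) (hw : w ∈ P)
    (hw' : w ∉ mx r b) : ¬ Commute w y := by
  intro hc
  have h1 : x * y * x⁻¹ = y := by
    rw [← hR.conj_outside hw hw' hy, hc.eq, mul_inv_cancel_right]
  obtain ⟨l, j, rfl⟩ := hR.mem_mx_iff.1 hy
  rw [hR.conj_elem] at h1
  have h2 : eps r x ^ l = r ^ (2 * l) := by
    have h3 := mul_right_cancel h1
    rw [inv_mul_eq_iff_eq_mul, ← pow_add, ← two_mul] at h3
    exact h3
  apply h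
  have e : r ^ l * b ^ j * (r ^ l * b ^ j) = r ^ (2 * l) := by
    rw [← pow_two, (hR.comm_r.symm.pow_pow l j).mul_pow, ← pow_mul, ← pow_mul, mul_comm l 2,
      mul_comm j 2, pow_mul b, pow_two, hR.b_sq, one_pow, mul_one]
  rw [e]
  rcases hR.eps_cases with e1 | e1 | ⟨h8, e1⟩ <;> rw [e1] at h2
  · rw [← h2, one_pow]
  · rcases hR.b_pow l with e2 | e2 <;> rw [e2] at h2
    · exact h2.symm
    · exact absurd (h2 ▸ npow_mem_zpowers r (2 * l)) hR.b_not
  · rcases hR.z_pow l with e2 | ⟨e2, hodd⟩ <;> rw [e2] at h2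
    · exact h2.symm
    · exfalso
      have h3 : r ^ (2 * l + n / 2) = 1 := by rw [pow_add, ← h2, hR.z_sq]
      rw [hR.pow_eq_one_iff] at h3
      have h4 : 4 ∣ 2 * l + n / 2 := (hR.four_dvd).trans h3
      obtain ⟨c, hc⟩ := hR.even_quarter h8
      have := hR.quarter
      obtain ⟨d, rfl⟩ := hodd
      omega

/-- The commutator subgroup is generated by `kap`. -/
theorem conj_mul_inv {y : G} (hy : y ∈ mx r b) : ∃ l : ℕ, x * y * x⁻¹ * y⁻¹ = kap r x ^ l := by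
  obtain ⟨l, j, rfl⟩ := hR.mem_mx_iff.1 hy
  refine ⟨l, ?_⟩
  have hk : kap r x = r⁻¹ * eps r x * r⁻¹ := by rw [kap, hR.conj_r]
  rw [hR.conj_elem, hk]
  have hc1 : Commute (r⁻¹ * eps r x) r⁻¹ :=
    hR.comm_mx (mul_mem (inv_mem hR.r_mem_mx) hR.eps_mem) (inv_mem hR.r_mem_mx)
  rw [hc1.mul_pow, (hR.comm_mx (inv_mem hR.r_mem_mx) hR.eps_mem).mul_pow, inv_pow, mul_inv_rev]
  group

theorem kap_mem : kap r x ∈ mx r b :=
  mul_mem (hR.conj_mem_mx hR.x_mem hR.r_mem_mx) (inv_mem hR.r_mem_mx)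

theorem conj_kap : x * kap r x * x⁻¹ = (kap r x)⁻¹ := by
  have hcx : x * (x * r * x⁻¹) * x⁻¹ = r := by
    have h2 : Commute (x * x) r :=
      hR.comm_mx ((hR.mul_mem_mx_iff hR.x_mem hR.x_mem).2 Iff.rfl) hR.r_mem_mx
    calc x * (x * r * x⁻¹) * x⁻¹ = x * x * r * (x * x)⁻¹ := by group
      _ = r := by rw [h2.eq, mul_inv_cancel_right]
  calc x * kap r x * x⁻¹ = x * (x * r * x⁻¹) * x⁻¹ * (x * r⁻¹ * x⁻¹) := by rw [kap]; group
    _ = r * (x * r⁻¹ * x⁻¹) := by rw [hcx]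
    _ = _ := by rw [kap]; group

/-- All commutators are powers of `kap`. -/
theorem commutator_mem {v w : G} (hv : v ∈ P) (hw : w ∈ P) :
    v * w * v⁻¹ * w⁻¹ ∈ zpowers (kap r x) := by
  have one : ∀ {v m : G}, v ∈ P → v ∉ mx r b → m ∈ mx r b →
      v * m * v⁻¹ * m⁻¹ ∈ zpowers (kap r x) := fun {v m} hv hv' hm => by
    obtain ⟨l, hl⟩ := hR.conj_mul_inv hm
    rw [hR.conj_outside hv hv' hm, hl]
    exact npow_mem_zpowers _ _
  by_cases hv' : v ∈ mx r b <;> by_cases hw' : w ∈ mx r b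
  · rw [(hR.comm_mx hv' hw').eq]
    simp
  · have h := inv_mem (one hw hw' hv')
    simpa [mul_assoc] using h
  · exact one hv hv' hw'
  · have hm := hR.outside_mul hv hv' hw hw'
    have e : v * w * v⁻¹ * w⁻¹ = v * (v * (v⁻¹ * w) * v⁻¹ * (v⁻¹ * w)⁻¹) * v⁻¹ := by group
    rw [e]
    obtain ⟨l, hl⟩ := hR.conj_mul_inv hm
    rw [hR.conj_outside hv hv' hm, hl, hR.conj_outside hv hv' (pow_mem hR.kap_mem l),
      ← _root_.conj_pow, hR.conj_kap]
    exact pow_mem (inv_mem (mem_zpowers _)) l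

/-- The square of `kap`. -/
theorem kap_pow (l : ℕ) : kap r x ^ l = (r ^ (2 * l))⁻¹ * eps r x ^ l := by
  have hk : kap r x = r⁻¹ * eps r x * r⁻¹ := by rw [kap, hR.conj_r]
  rw [hk, (hR.comm_mx (mul_mem (inv_mem hR.r_mem_mx) hR.eps_mem) (inv_mem hR.r_mem_mx)).mul_pow,
    (hR.comm_mx (inv_mem hR.r_mem_mx) hR.eps_mem).mul_pow, mul_assoc,
    (hR.comm_mx (pow_mem hR.eps_mem l) (pow_mem (inv_mem hR.r_mem_mx) l)).eq, ← mul_assoc,
    inv_pow, ← mul_inv_rev, ← pow_add, ← two_mul]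

theorem ctr_eq : ctr r x n = r ^ (n / 2) * eps r x ^ (n / 4) := by
  rw [ctr, hR.kap_pow]
  congr 1
  rw [show 2 * (n / 4) = n / 2 by have := hR.quarter; omega, inv_eq_of_mul_eq_one_left hR.z_sq]

theorem ctr_cases : ctr r x n = r ^ (n / 2) ∨ (n = 4 ∧ eps r x = b ∧ ctr r x n = b * r ^ (n / 2)) := by
  rw [hR.ctr_eq]
  rcases hR.eps_cases with h | h | ⟨h8, h⟩
  · exact Or.inl (by rw [h, one_pow, mul_one])
  · by_cases h8 : 8 ≤ n
    · obtain ⟨c, hc⟩ := hR.even_quarter h8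
      exact Or.inl (by rw [h, hc, ← two_mul, pow_mul, pow_two, hR.b_sq, one_pow, mul_one])
    · obtain ⟨k, hk⟩ := hR.two_pow
      have hn : n = 4 := by
        have := hR.four_le
        rcases k with _ | _ | _ | k
        · simp at hk; omega
        · simp at hk; omega
        · omega
        · exfalso
          have : 8 ≤ 2 ^ (k + 1 + 1 + 1) := by
            have := Nat.one_le_two_pow (n := k)
            rw [show 2 ^ (k + 1 + 1 + 1) = 8 * 2 ^ k by ring]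
            omega
          omega
      subst hn
      exact Or.inr ⟨rfl, h, by rw [h, pow_one, (hR.comm_r.symm.pow_left _).eq]⟩
  · obtain ⟨c, hc⟩ := hR.even_quarter h8
    exact Or.inl (by rw [h, hc, ← two_mul, pow_mul, pow_two, hR.z_sq, one_pow, mul_one])

/-- The only involution among the commutators. -/
theorem eq_ctr {y : G} (hy : y ∈ zpowers (kap r x)) (h2 : y * y = 1) : y = 1 ∨ y = ctr r x n := by
  obtain ⟨l, rfl⟩ : ∃ l : ℕ, y = kap r x ^ l := by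
    have hfin : IsOfFinOrder (kap r x) := isOfFinOrder_iff_pow_eq_one.2 ⟨n, hR.n_pos, by
      obtain ⟨c, hc⟩ := hR.four_dvd
      rw [hR.kap_pow, mul_comm 2, pow_mul, (hR.pow_eq_one_iff n).2 dvd_rfl, one_pow, inv_one,
        one_mul, hc, show 4 * c = 2 * (2 * c) by ring, pow_mul, pow_two, hR.eps_sq, one_pow]⟩
    obtain ⟨l, hl⟩ := hfin.mem_powers_iff_mem_zpowers.2 hy
    exact ⟨l, hl.symm⟩
  rw [← pow_add, ← two_mul, hR.kap_pow, pow_mul (eps r x), pow_two, hR.eps_sq, one_pow, mul_one,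
    inv_eq_one, hR.pow_eq_one_iff] at h2
  have hd : n / 4 ∣ l := by
    have := hR.quarter
    obtain ⟨c, hc⟩ := h2
    exact ⟨c, by nlinarith⟩
  obtain ⟨c, rfl⟩ := hd
  have hsq : ctr r x n * ctr r x n = 1 := by
    rw [ctr, ← pow_add, ← two_mul, hR.kap_pow, pow_mul (eps r x), pow_two, hR.eps_sq, one_pow,
      mul_one, show 2 * (2 * (n / 4)) = n by have := hR.quarter; omega,
      (hR.pow_eq_one_iff n).2 dvd_rfl, inv_one]
  rw [pow_mul]
  change ctr r x n ^ c = 1 ∨ ctr r x n ^ c = _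
  rcases Nat.even_or_odd' c with ⟨d, rfl | rfl⟩
  · exact Or.inl (by rw [pow_mul, pow_two, hsq, one_pow])
  · exact Or.inr (by rw [pow_succ, pow_mul, pow_two, hsq, one_pow, one_mul])

end Resid

end CfsgLib.BlockA.IndexFour
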