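import Cfsg.Agent.Lib.BlockA.IndexFour.ResidRank
import Cfsg.Agent.Lib.BlockA.KleinDefect
import Cfsg.Agent.Lib.BlockA.DihedralInvariants
import Cfsg.Agent.Lib.BlockA.QuatBlock
import Cfsg.Agent.Lib.BlockA.SemiDihBlock
import Cfsg.Agent.Lib.BlockA.HomocyclicTwo
import Cfsg.Agent.Lib.BlockA.Watanabe
import Cfsg.Agent.Lib.BlockA.Contribution
import Cfsg.Agent.Lib.Fusion.InvertingCandidates

/-!
A `2`-block whose defect group has one of the good shapes has rank at most three.
-/

set_option autoImplicit false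
set_option linter.unusedSectionVars false
set_option linter.unusedSimpArgs false
set_option maxHeartbeats 1000000

namespace CfsgLib.BlockA.IndexFour

open Cfsg CfsgLib.Block CfsgLib.BlockA CfsgLib.BlockB CfsgLib.BlockB.HeightBound

universe u

section Groups

variable {A : Type*} [Group A]

/-- On an abelian group of order eight with an element of order at least four, an automorphism of
odd order is trivial. -/
theorem eq_one_of_order_eight (hcard : Nat.card A = 8) (hab : ∀ a c : A, a * c = c * a)
    (hnc : ¬ IsCyclic A) {w : A} (hw : w * w ≠ 1) {α : MulAut A} (hodd : Odd (orderOf α)) :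
    α = 1 := by
  classical
  have : Finite A := Nat.finite_of_card_ne_zero (by omega)
  have := Fintype.ofFinite A
  have hmul2 : ∀ a c : A, a * c * (a * c) = a * a * (c * c) := fun a c => by
    rw [mul_assoc, ← mul_assoc c a c, hab c a, mul_assoc a c c, ← mul_assoc]
  have h4 : ∀ a : A, a * a * (a * a) = 1 := by
    intro a
    have hd : orderOf a ∣ 2 ^ 3 := by
      rw [show (2 : ℕ) ^ 3 = Nat.card A by rw [hcard]; norm_num]
      exact orderOf_dvd_natCard a
    obtain ⟨i, hi3, hi⟩ := (Nat.dvd_prime_pow Nat.prime_two).1 hd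
    have hi2 : i ≤ 2 := by
      by_contra h
      refine hnc (isCyclic_of_orderOf_eq_card a ?_)
      rw [hi, show i = 3 by omega, hcard]
      norm_num
    rw [← pow_two, ← pow_two, ← pow_mul]
    exact orderOf_dvd_iff_pow_eq_one.1 (by rw [hi]; exact (pow_dvd_pow 2 hi2).trans (by norm_num))
  -- the elements of exponent two
  set Ω : Finset A := Finset.univ.filter fun a => a * a = 1 with hΩ
  have hmem : ∀ {a : A}, a ∈ Ω ↔ a * a = 1 := fun {a} => by simp [hΩ]
  have hΩ4 : Ω.card ≤ 4 := by
    have hd : Disjoint Ω (Ω.image (w * ·)) := Finset.disjoint_left.2 fun a ha ha' => by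
      obtain ⟨c, hc, rfl⟩ := Finset.mem_image.1 ha'
      rw [hmem] at ha hc
      rw [hmul2, hc, mul_one] at ha
      exact hw ha
    have h := Finset.card_le_univ (Ω ∪ Ω.image (w * ·))
    rw [Finset.card_union_of_disjoint hd,
      Finset.card_image_of_injective _ (mul_right_injective w), ← Nat.card_eq_fintype_card,
      hcard] at h
    omega
  -- the only nontrivial square
  have husq : ∀ a : A, a * a ≠ 1 → a * a = w * w := by
    intro a ha
    by_contra hne
    have hu2 : w * w * (w * w) = 1 := h4 w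
    have ha2 : a * a * (a * a) = 1 := h4 a
    have hprod : a * a * (w * w) ≠ 1 := fun h => hne (by
      calc a * a = a * a * (w * w * (w * w)) := by rw [hu2, mul_one]
        _ = a * a * (w * w) * (w * w) := by group
        _ = w * w := by rw [h, one_mul])
    have hsub : ({1, a * a, w * w, a * a * (w * w)} : Finset A) ⊆
        (Finset.univ.image fun c : A => c * c) := by
      intro c hc
      simp only [Finset.mem_insert, Finset.mem_singleton] at hc
      rw [Finset.mem_image]
      rcases hc with rfl | rfl | rfl | rfl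
      · exact ⟨1, Finset.mem_univ _, one_mul 1⟩
      · exact ⟨a, Finset.mem_univ _, rfl⟩
      · exact ⟨w, Finset.mem_univ _, rfl⟩
      · exact ⟨a * w, Finset.mem_univ _, hmul2 a w⟩
    have h4s : ({1, a * a, w * w, a * a * (w * w)} : Finset A).card = 4 := by
      have e1 : a * a * (w * w) ≠ a * a := fun h => hw (mul_eq_left.1 h)
      have e2 : a * a * (w * w) ≠ w * w := fun h => ha (mul_eq_right.1 h)
      simp [ha.symm, hw.symm, hne, hprod.symm, e1.symm, e2.symm]
    have hsq : (Finset.univ.image fun c : A => c * c) ⊆ Ω := by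
      intro c hc
      obtain ⟨d, -, rfl⟩ := Finset.mem_image.1 hc
      exact hmem.2 (h4 d)
    have hΩeq : ({1, a * a, w * w, a * a * (w * w)} : Finset A) = Ω :=
      Finset.eq_of_subset_of_card_le (hsub.trans hsq) (by omega)
    let f : A →* A :=
      { toFun := fun c => c * c, map_one' := one_mul 1, map_mul' := hmul2 }
    have hker : 4 ≤ Nat.card f.ker := by
      rw [← h4s, hΩeq, ← Nat.card_eq_finsetCard]
      exact Nat.card_le_card_of_injective (fun c => ⟨(c : A), hmem.1 c.2⟩)
        fun c d h => Subtype.ext (congrArg (fun t : f.ker => (t : A)) h)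
    have hrange : 4 ≤ Nat.card f.range := by
      rw [← h4s, hΩeq, ← Nat.card_eq_finsetCard]
      refine Nat.card_le_card_of_injective (fun c => ⟨(c : A), ?_⟩)
        fun c d h => Subtype.ext (congrArg (fun t : f.range => (t : A)) h)
      have hc := c.2
      obtain ⟨d, -, hd⟩ := Finset.mem_image.1 (hsub (by rw [hΩeq]; exact hc))
      exact ⟨d, hd⟩
    have h := f.ker.card_mul_index
    rw [Subgroup.index_ker, hcard] at h
    nlinarith
  have hu : α (w * w) = w * w := by
    rw [map_mul]
    exact husq _ fun h => hw (α.injective (by rw [map_mul, map_one]; exact h))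
  -- elements of order four are fixed
  have key : ∀ a : A, a * a ≠ 1 → α a = a := by
    intro a ha
    have hz2 : ∃ k : ℕ, (w * w) ^ 2 ^ k = 1 := ⟨1, by rw [pow_one, pow_two]; exact h4 w⟩
    by_cases h1 : α a = a
    · exact h1
    by_cases h2 : α a = a * (w * w)
    · exact eq_of_translate hodd h2 hu hz2
    refine fix_of_sq_fix hodd ?_
    by_contra h3
    by_cases h4' : α (α a) = a * (w * w)
    · refine h3 ?_
      have hodd2 : Odd (orderOf (α ^ 2)) := by
        rw [orderOf_pow, Nat.Coprime.gcd_eq_one ((Nat.coprime_two_right.2 hodd)), Nat.div_one]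
        exact hodd
      have h := eq_of_translate hodd2 (a := a) (z := w * w)
        (by rw [pow_two, MulAut.mul_apply]; exact h4') (by rw [pow_two, MulAut.mul_apply, hu, hu]) hz2
      rwa [pow_two, MulAut.mul_apply] at h
    have haa : a * a = w * w := husq a ha
    have hα2 : α a * α a = w * w :=
      husq _ fun h => ha (α.injective (by rw [map_mul, map_one]; exact h))
    have hαα2 : α (α a) * α (α a) = w * w :=
      husq _ fun h => ha (α.injective (α.injective (by rw [map_mul, map_mul, map_one, map_one]; exact h)))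
    set e₁ := a⁻¹ * α a with he₁
    set e₂ := a⁻¹ * α (α a) with he₂
    have he : ∀ c : A, c * c = w * w → a⁻¹ * c ∈ Ω := fun c hc => hmem.2 (by
      rw [hmul2, hc, ← haa]
      group)
    have hu1 : w * w ≠ 1 := hw
    have n1 : e₁ ≠ 1 := fun h => h1 (inv_mul_eq_one.1 h).symm
    have n2 : e₁ ≠ w * w := fun h => h2 (by rw [← h, he₁, mul_inv_cancel_left])
    have m1 : e₂ ≠ 1 := fun h => h3 (inv_mul_eq_one.1 h).symm
    have m2 : e₂ ≠ w * w := fun h => h4' (by rw [← h, he₂, mul_inv_cancel_left])
    have k1 : e₁ * (w * w) ≠ 1 := fun h => n2 (by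
      calc e₁ = e₁ * (w * w * (w * w)) := by rw [h4, mul_one]
        _ = e₁ * (w * w) * (w * w) := by group
        _ = w * w := by rw [h, one_mul])
    have k2 : e₁ * (w * w) ≠ w * w := fun h => n1 (mul_eq_right.1 h)
    have k3 : e₁ * (w * w) ≠ e₁ := fun h => hu1 (mul_eq_left.1 h)
    have hsub : ({1, w * w, e₁, e₁ * (w * w)} : Finset A) ⊆ Ω := by
      intro c hc
      simp only [Finset.mem_insert, Finset.mem_singleton] at hc
      rcases hc with rfl | rfl | rfl | rfl
      · exact hmem.2 (one_mul 1)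
      · exact hmem.2 (h4 w)
      · exact he _ hα2
      · exact hmem.2 (by rw [hmul2, hmem.1 (he _ hα2), h4, one_mul])
    have hc4 : ({1, w * w, e₁, e₁ * (w * w)} : Finset A).card = 4 := by
      simp [hu1.symm, n1.symm, n2.symm, k1.symm, k2.symm, k3.symm]
    have heq := Finset.eq_of_subset_of_card_le hsub (by omega)
    have := he _ hαα2
    rw [← he₂, ← heq] at this
    simp only [Finset.mem_insert, Finset.mem_singleton] at this
    rcases this with h | h | h | h
    · exact m1 h
    · exact m2 h
    · exact h1 (α.injective (mul_left_cancel h))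
    · refine h2 (α.injective ?_)
      rw [map_mul, hu]
      have h' : α (α a) = α a * (w * w) := by
        have := congrArg (a * ·) h
        simpa [he₂, he₁, ← mul_assoc] using this
      exact h'
  refine MulEquiv.ext fun a => ?_
  rw [MulAut.one_apply]
  by_cases ha : a * a = 1
  · have h := key (w * a) (by rw [hmul2, ha, mul_one]; exact hw)
    rw [map_mul, key w hw] at h
    exact mul_left_cancel h
  · exact key a ha

end Groups

variable {G : Type u} [Group G]

theorem exists_rot_of_eight {P : Subgroup G} (hcard : Nat.card P = 8)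
    (hna : ¬ ∀ v ∈ P, ∀ w ∈ P, v * w = w * v) {w : G} (hw : w ∈ P) (h4 : 4 ≤ orderOf w) :
    (∃ r h, DihedralDefect.Rot P r h) ∨ ∃ r h, QuatDefect.QRot P r h := by
  have : Finite P := Nat.finite_of_card_ne_zero (by omega)
  have hord : orderOf w = 4 := by
    have hd : orderOf w ∣ 2 ^ 3 := by
      rw [← Subgroup.orderOf_mk w hw, show (2 : ℕ) ^ 3 = Nat.card P by rw [hcard]; norm_num]
      exact orderOf_dvd_natCard _
    obtain ⟨i, hi3, hi⟩ := (Nat.dvd_prime_pow Nat.prime_two).1 hd
    have : IsCyclic P → False := fun hc => hna fun v hv u hu =>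
      congrArg Subtype.val ((IsCyclic.isMulCommutative (α := P)).is_comm.comm ⟨v, hv⟩ ⟨u, hu⟩)
    have hne : orderOf w ≠ 8 := fun e => this (isCyclic_of_orderOf_eq_card (⟨w, hw⟩ : P)
      (by rw [Subgroup.orderOf_mk, e, hcard]))
    rw [hi] at h4 hne ⊢
    interval_cases i <;> omega
  set Z : Subgroup P := (Subgroup.zpowers w).subgroupOf P with hZdef
  have hle : Subgroup.zpowers w ≤ P := Subgroup.zpowers_le.2 hw
  have hZ : Z.index = 2 := by
    have h1 := Z.card_mul_index
    rw [Nat.card_congr (Subgroup.subgroupOfEquivOfLe hle).toEquiv, Nat.card_zpowers, hord,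
      hcard] at h1
    omega
  have hw2 : w ^ 2 ≠ 1 := fun h => by
    have := Nat.le_of_dvd two_pos (orderOf_dvd_of_pow_eq_one h)
    omega
  have hw4 : w ^ 4 = 1 := by rw [← hord, pow_orderOf_eq_one]
  have hsq : ∀ v ∈ P, v * v ∈ Subgroup.zpowers w := fun v hv =>
    ((Subgroup.mul_mem_iff_of_index_two hZ (a := ⟨v, hv⟩) (b := ⟨v, hv⟩)).2 Iff.rfl :
      (⟨v, hv⟩ : P) * ⟨v, hv⟩ ∈ Z)
  have hpow : ∀ u ∈ Subgroup.zpowers w, u = 1 ∨ u = w ∨ u = w ^ 2 ∨ u = w ^ 3 := fun u hu => by
    have hfin : IsOfFinOrder w := orderOf_pos_iff.1 (by omega)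
    obtain ⟨i, rfl⟩ := hfin.mem_powers_iff_mem_zpowers.2 hu
    simp only
    rw [← pow_mod_orderOf, hord]
    have := Nat.mod_lt i (show 4 > 0 by norm_num)
    interval_cases h : i % 4 <;> simp
  have hnorm := Subgroup.normal_of_index_eq_two hZ
  have hout : ∀ v ∈ P, v ∉ Subgroup.zpowers w → v * w * v⁻¹ = w⁻¹ := by
    intro v hv hvn
    have hm : v * w * v⁻¹ ∈ Subgroup.zpowers w :=
      hnorm.conj_mem ⟨w, hw⟩ (Subgroup.mem_zpowers w) ⟨v, hv⟩
    have ho : orderOf (v * w * v⁻¹) = 4 := by
      rw [← hord]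
      exact (MulAut.conj v).orderOf_eq w
    have hinv : w⁻¹ = w ^ 3 := inv_eq_of_mul_eq_one_right (by rw [← pow_succ', hw4])
    rcases hpow _ hm with e | e | e | e
    · rw [e, orderOf_one] at ho; omega
    · refine absurd (fun a ha c hc => ?_) hna
      -- the whole group is generated by two commuting elements
      have hcv : Commute v w := by
        have := mul_inv_eq_iff_eq_mul.1 e
        exact this
      have hgen : ∀ u ∈ P, u ∈ Subgroup.zpowers w ∨ v⁻¹ * u ∈ Subgroup.zpowers w := fun u hu => by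
        by_cases h : u ∈ Subgroup.zpowers w
        · exact Or.inl h
        · exact Or.inr ((Subgroup.mul_mem_iff_of_index_two hZ (a := (⟨v, hv⟩ : P)⁻¹)
            (b := ⟨u, hu⟩)).2 (iff_of_false (fun h' => hvn (inv_mem_iff.1 h')) h))
      have hcomm : ∀ u ∈ P, Commute u w ∧ Commute u v := by
        intro u hu
        rcases hgen u hu with h | h
        · obtain ⟨i, rfl⟩ := Subgroup.mem_zpowers_iff.1 h
          exact ⟨(Commute.refl w).zpow_left i, (hcv.zpow_right i).symm⟩
        · obtain ⟨i, hi⟩ := Subgroup.mem_zpowers_iff.1 h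
          rw [show u = v * w ^ i by rw [hi, mul_inv_cancel_left]]
          exact ⟨hcv.mul_left ((Commute.refl w).zpow_left i),
            (Commute.refl v).mul_left (hcv.zpow_right i).symm⟩
      rcases hgen c hc with h | h
      · obtain ⟨i, rfl⟩ := Subgroup.mem_zpowers_iff.1 h
        exact ((hcomm a ha).1.zpow_right i).eq
      · obtain ⟨i, hi⟩ := Subgroup.mem_zpowers_iff.1 h
        rw [show c = v * w ^ i by rw [hi, mul_inv_cancel_left]]
        exact ((hcomm a ha).2.mul_right ((hcomm a ha).1.zpow_right i)).eq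
    · rw [e, orderOf_pow' w two_ne_zero, hord] at ho
      norm_num at ho
    · rw [e, hinv]
  -- an element outside
  obtain ⟨v, hv, hvn⟩ : ∃ v ∈ P, v ∉ Subgroup.zpowers w := by
    by_contra h
    push Not at h
    haveI : Finite (Subgroup.zpowers w) :=
      Finite.of_injective (Subgroup.inclusion hle) (Subgroup.inclusion_injective hle)
    have h1 := Subgroup.card_le_of_le (K := Subgroup.zpowers w) (fun q hq => h q hq : P ≤ _)
    rw [Nat.card_zpowers, hord, hcard] at h1
    omega
  have hcase : v * v = 1 ∨ v * v = w ^ 2 := by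
    have hc : v * (v * v) * v⁻¹ = v * v := by group
    have hinv := hout v hv hvn
    rcases hpow _ (hsq v hv) with e | e | e | e
    · exact Or.inl e
    · rw [e, hinv] at hc
      exact absurd (by rw [pow_two]; nth_rw 1 [← hc]; exact inv_mul_cancel w) hw2
    · exact Or.inr e
    · rw [e, ← conj_pow, hinv, inv_pow] at hc
      refine absurd ?_ hw2
      have h6 : w ^ 3 * w ^ 3 = 1 := by
        nth_rw 1 [← hc]
        exact inv_mul_cancel _
      rwa [← pow_add, show 3 + 3 = 4 + 2 from rfl, pow_add, hw4, one_mul] at h6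
  have hall : ∀ u ∈ P, u ∉ Subgroup.zpowers w → u * u = v * v := by
    intro u hu hun
    have h1 : u * v⁻¹ ∈ Subgroup.zpowers w := (Subgroup.mul_mem_iff_of_index_two hZ (a := ⟨u, hu⟩)
      (b := (⟨v, hv⟩ : P)⁻¹)).2 (iff_of_false hun fun h' => hvn (inv_mem_iff.1 h'))
    obtain ⟨i, hi⟩ := Subgroup.mem_zpowers_iff.1 h1
    rw [show u = w ^ i * v by rw [hi, inv_mul_cancel_right]]
    calc w ^ i * v * (w ^ i * v) = w ^ i * (v * w ^ i * v⁻¹) * (v * v) := by group
      _ = v * v := by rw [← conj_zpow, hout v hv hvn, inv_zpow, mul_inv_cancel, one_mul]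
  rcases hcase with e | e
  · refine Or.inl ⟨w, 2, le_rfl, ⟨1, rfl⟩, hw, hord, by rw [hcard],
      fun u hu hun => ⟨(hall u hu hun).trans e, hout u hu hun⟩, fun u hu u' hu' hun hun' => ?_⟩
    exact (Subgroup.mul_mem_iff_of_index_two hZ (a := ⟨u, hu⟩) (b := (⟨u', hu'⟩ : P)⁻¹)).2
      (iff_of_false hun fun h' => hun' (inv_mem_iff.1 h'))
  · exact Or.inr ⟨w, 2, le_rfl, ⟨1, rfl⟩, hw, hord, by rw [hcard],
      fun u hu hun => ⟨(hall u hu hun).trans e, hout u hu hun⟩⟩

variable [Fintype G] {M : Ideal AlgInt} [M.IsPrime] {B : Set (IrrCharacter G)} {P : Subgroup G}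
  {c : Set (IrrCharacter (Subgroup.centralizer (P : Set G)))}
variable (hM : IsPModular 2 M) (hmax : IsMaximalBrauerPair 2 M B P c)
include hM hmax

/-- An abelian defect group without automorphisms of odd order: rank one. -/
theorem rank_one_of_abelian (hab : ∀ v ∈ P, ∀ w ∈ P, v * w = w * v)
    (hodd : ∀ α : MulAut P, Odd (orderOf α) → α = 1) : blockRank 2 B = 1 := by
  classical
  have := Fact.mk hM.1
  refine (Contribution.nilpotent_counts hM hmax hab ?_).2
  set T := pairStab M P c with hT
  let ρ : T →* MulAut P := P.normalizerMonoidHom.comp (Subgroup.inclusion (pairStab_le P c))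
  have hker : ρ.ker = (Subgroup.centralizer (P : Set G)).subgroupOf T := by
    ext t
    rw [MonoidHom.mem_ker, Subgroup.mem_subgroupOf, Subgroup.mem_centralizer_iff]
    constructor
    · intro h q hq
      have h1 : (t : G) * q * (t : G)⁻¹ = q :=
        congrArg (fun f : MulAut P => ((f ⟨q, hq⟩ : P) : G)) h
      exact (mul_inv_eq_iff_eq_mul.1 h1).symm
    · intro h
      refine MulEquiv.ext fun q => Subtype.ext ?_
      show (t : G) * (q : G) * (t : G)⁻¹ = q
      rw [← h q q.2, mul_inv_cancel_right]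
  have hidx : Nat.card ρ.range = (Subgroup.centralizer (P : Set G)).relIndex T := by
    rw [← Subgroup.index_ker, hker]
    rfl
  have hnd : ¬ 2 ∣ Nat.card ρ.range := hidx ▸ Watanabe.not_dvd_relIndex hM hmax hab
  intro t ht
  have h1 : ρ ⟨t, ht⟩ = 1 := by
    refine hodd _ ?_
    have hd : orderOf (ρ ⟨t, ht⟩) ∣ Nat.card ρ.range :=
      (dvd_of_eq (Subgroup.orderOf_coe (ρ.rangeRestrict ⟨t, ht⟩))).trans
        (orderOf_dvd_natCard (ρ.rangeRestrict ⟨t, ht⟩))
    rw [← Nat.not_even_iff_odd, even_iff_two_dvd]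
    exact fun h => hnd (h.trans hd)
  exact Subgroup.mem_subgroupOf.1 (hker ▸ (MonoidHom.mem_ker.2 h1) :
    (⟨t, ht⟩ : T) ∈ (Subgroup.centralizer (P : Set G)).subgroupOf T)

omit hM hmax in
theorem odd_aut_of_cyclic [Finite G] [IsCyclic P] (hP : IsPGroup 2 P) {α : MulAut P}
    (hα : Odd (orderOf α)) : α = 1 := by
  obtain ⟨k, hk⟩ := CfsgLib.Fusion.isPGroup_mulAut_of_cyclic hP α
  obtain ⟨i, -, hi⟩ := (Nat.dvd_prime_pow Nat.prime_two).1 (orderOf_dvd_of_pow_eq_one hk)
  rw [← orderOf_eq_one_iff, hi]
  rcases i with _ | i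
  · rfl
  · rw [hi] at hα
    exact absurd hα (by simp [Nat.even_pow])

/-- **A block with a good defect group has rank at most three.** -/
theorem good_rank_le_three (hPD : IsDefectGroup 2 M B P) (hgood : Good P) :
    blockRank 2 B ≤ 3 := by
  classical
  have := Fact.mk hM.1
  have hP : IsPGroup 2 P := hmax.1.1.1
  have hcyc : IsCyclic P → blockRank 2 B ≤ 3 := fun h => by
    rw [rank_one_of_abelian hM hmax (fun v hv w hw =>
      congrArg Subtype.val ((IsCyclic.isMulCommutative (α := P)).is_comm.comm ⟨v, hv⟩ ⟨w, hw⟩))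
      fun α hα => odd_aut_of_cyclic hP hα]
    norm_num
  have hrot : (∃ r h, DihedralDefect.Rot P r h) → blockRank 2 B ≤ 3 := by
    rintro ⟨r, h, hR⟩
    have := Fintype.ofFinite (DihedralDefect.cz r h)
    have := Fintype.ofFinite (IrrCharacter (P.subgroupOf (DihedralDefect.cz r h)))
    obtain ⟨S⟩ := DihedralDefect.exists_setup hM hmax hPD hR
    exact (DihedralDefect.invariants hR S hM hmax).2.2.1
  have hqrot : (∃ r h, QuatDefect.QRot P r h) → blockRank 2 B ≤ 3 := by
    rintro ⟨r, h, hQ⟩
    obtain ⟨m, hm⟩ := hQ.two_pow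
    exact (QuatDefect.invariants hM hmax hQ hm).2.1
  rcases hgood with h | h | ⟨h8, w, hw, hw4⟩ | h | h | ⟨r, h, hS⟩ | ⟨hab, hH⟩ | ⟨r, b, x, n, hR⟩
  · obtain ⟨i, hi⟩ := IsPGroup.iff_card.1 hP
    have hi2 : i ≤ 2 := by
      by_contra hlt
      have h3 := Nat.pow_le_pow_right two_pos (not_le.1 hlt)
      norm_num at h3
      omega
    rcases Nat.lt_or_ge i 2 with h1 | h1
    · refine hcyc ?_
      rcases Nat.eq_zero_or_pos i with rfl | hpos
      · have : Subsingleton P := (Nat.card_eq_one_iff_unique.1 (by rw [hi, pow_zero])).1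
        exact isCyclic_of_subsingleton
      · exact isCyclic_of_prime_card (p := 2) (by rw [hi, show i = 1 by omega, pow_one])
    · by_cases hc : IsCyclic P
      · exact hcyc hc
      obtain rfl : i = 2 := by omega
      have hV : IsKleinFour P := by
        refine ⟨hi, ?_⟩
        have h2 : Monoid.exponent P ∣ 2 := Monoid.exponent_dvd_of_forall_pow_eq_one fun q => by
          have hd : orderOf q ∣ 2 ^ 2 := hi ▸ orderOf_dvd_natCard q
          obtain ⟨j, hj2, hj⟩ := (Nat.dvd_prime_pow Nat.prime_two).1 hd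
          have hj1 : j ≤ 1 := by
            by_contra hlt
            exact hc (isCyclic_of_orderOf_eq_card q (by rw [hj, show j = 2 by omega, hi]))
          exact orderOf_dvd_iff_pow_eq_one.1 (by rw [hj]; exact (pow_dvd_pow 2 hj1).trans (by norm_num))
        rcases (Nat.dvd_prime Nat.prime_two).1 h2 with e | e
        · exfalso
          have : Subsingleton P := Monoid.exp_eq_one_iff.1 e
          exact hc isCyclic_of_subsingleton
        · exact e
      obtain ⟨h1', -, h3⟩ := KleinDefect.klein_invariants hM hmax hV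
      rw [h3]
      omega
  · exact hcyc h
  · by_cases hc : IsCyclic P
    · exact hcyc hc
    by_cases hab : ∀ v ∈ P, ∀ u ∈ P, v * u = u * v
    · rw [rank_one_of_abelian hM hmax hab fun α hα => eq_one_of_order_eight h8
        (fun a c => Subtype.ext (hab a a.2 c c.2)) hc (w := ⟨w, hw⟩) (fun e => ?_) hα]
      · norm_num
      · have e' : w ^ 2 = 1 := (pow_two w).trans (congrArg Subtype.val e)
        have := Nat.le_of_dvd two_pos (orderOf_dvd_of_pow_eq_one e')
        omega
    · exact (exists_rot_of_eight h8 hab hw hw4).elim hrot hqrot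
  · exact hrot h
  · exact hqrot h
  · obtain ⟨m, hm⟩ := hS.two_pow
    exact (SemiDihDefect.invariants hM hmax hS hm).2.2.1
  · rcases Homocyclic.counts hM hmax hab hH le_rfl
      (natCard_defectGroup hM hmax.1.2.1 hPD) with ⟨e, -⟩ | ⟨e, -⟩ <;> omega
  · exact resid_rank_le_three hM hmax hPD hR

end CfsgLib.BlockA.IndexFour
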